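import Cfsg.Agent.Lib.Golay.M24

/-! # The lattice attached to the code: membership, minimum norm, monomial maps -/

set_option autoImplicit false

namespace Cfsg.Agent.Lib.Leech

open Cfsg Golay

/-- A membership criterion. -/
def Good (x : GolayPt → ℤ) : Prop :=
  ∃ (m : ℤ) (y : GolayPt → ℤ), (m = 0 ∨ m = 1) ∧ (∀ i, x i = m + 2 * y i) ∧
    (8 : ℤ) ∣ (∑ i, x i) - 4 * m ∧ (fun i => (y i : ZMod 2)) ∈ golayCode

theorem one_mem : (1 : GolayPt → ZMod 2) ∈ golayCode := Submodule.subset_span (Or.inr rfl)

theorem support_cast (y : GolayPt → ℤ) :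
    support₂ (fun i => (y i : ZMod 2)) = Finset.univ.filter fun i => ¬ (2 : ℤ) ∣ y i := by
  ext i; simp [support₂, ZMod.intCast_zmod_eq_zero_iff_dvd]

theorem good_of_mem_leechSet {x : GolayPt → ℤ} (h : x ∈ leechSet) : Good x := by
  obtain ⟨m₀, h1, h2, h3⟩ := h
  refine ⟨m₀ % 2, fun i => (x i - m₀ % 2) / 2, Int.emod_two_eq_zero_or_one _, ?_, ?_, ?_⟩
  · intro i; have := h1 i; simp only [Int.ModEq] at this ⊢; omega
  · simp only [Int.ModEq] at h2; omega
  · obtain ⟨w, hw, e⟩ := h3 (m₀ % 2 + 2)
    convert (SetLike.mem_coe.1 hw) using 1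
    funext i
    have e2 : ∀ z : ZMod 2, z = 0 ∨ z = 1 := by decide
    have hi := Finset.ext_iff.1 e i
    have := h1 i
    simp only [support₂, Finset.mem_filter, Finset.mem_univ, true_and] at hi
    simp only [Int.ModEq] at hi this
    rcases e2 (w i) with c | c
    · rw [c, ZMod.intCast_zmod_eq_zero_iff_dvd]
      simp only [Nat.cast_ofNat]
      have : ¬ (x i % 4 = (m₀ % 2 + 2) % 4) := fun h => hi.2 h c
      omega
    · rw [c, ← Int.cast_one, ZMod.intCast_eq_intCast_iff']
      simp only [Nat.cast_ofNat]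
      have : x i % 4 = (m₀ % 2 + 2) % 4 := hi.1 (by rw [c]; decide)
      omega

theorem mem_leechSet_of_good {x : GolayPt → ℤ} (h : Good x) : x ∈ leechSet := by
  obtain ⟨m, y, hm, hx, hs, hw⟩ := h
  refine ⟨m, fun i => ?_, Int.modEq_iff_dvd.2 ?_, fun k => ?_⟩
  · simp only [Int.ModEq]; rw [hx]; omega
  · omega
  · by_cases h1 : (k - m) % 2 = 0
    · by_cases h2 : (k - m) % 4 = 0
      · refine ⟨(fun i => (y i : ZMod 2)) + 1, Submodule.add_mem _ hw one_mem, ?_⟩
        rw [show ((fun i => (y i : ZMod 2)) + 1) = fun i => (((y i + 1 : ℤ)) : ZMod 2) from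
          funext fun i => by simp, support_cast]
        ext i; simp only [Finset.mem_filter, Finset.mem_univ, true_and, Int.ModEq, hx]; omega
      · refine ⟨_, hw, ?_⟩
        rw [support_cast]
        ext i; simp only [Finset.mem_filter, Finset.mem_univ, true_and, Int.ModEq, hx]; omega
    · refine ⟨0, Submodule.zero_mem _, ?_⟩
      ext i; simp [support₂, Int.ModEq, hx]; omega

theorem good_zero : Good 0 :=
  ⟨0, 0, Or.inl rfl, fun i => by simp, by simp, by
    convert Submodule.zero_mem golayCode using 1; funext i; simp⟩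

theorem good_neg {x : GolayPt → ℤ} (h : Good x) : Good (-x) := by
  obtain ⟨m, y, hm, hx, hs, hw⟩ := h
  refine ⟨m, fun i => -m - y i, hm, fun i => by simp only [Pi.neg_apply, hx]; ring, ?_, ?_⟩
  · simp only [Pi.neg_apply, Finset.sum_neg_distrib]; omega
  · convert Submodule.add_mem _ (Submodule.smul_mem golayCode (m : ZMod 2) one_mem) hw using 1
    funext i; simp [CharTwo.neg_eq, CharTwo.sub_eq_add]

theorem good_add {x x' : GolayPt → ℤ} (h : Good x) (h' : Good x') : Good (x + x') := by
  obtain ⟨m, y, hm, hx, hs, hw⟩ := h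
  obtain ⟨m', y', hm', hx', hs', hw'⟩ := h'
  refine ⟨(m + m') % 2, fun i => (m + m') / 2 + y i + y' i, Int.emod_two_eq_zero_or_one _, ?_, ?_, ?_⟩
  · intro i; simp only [Pi.add_apply, hx, hx']; omega
  · simp only [Pi.add_apply, Finset.sum_add_distrib]; omega
  · convert Submodule.add_mem _
      (Submodule.smul_mem golayCode (((m + m') / 2 : ℤ) : ZMod 2) one_mem)
      (Submodule.add_mem _ hw hw') using 1
    funext i; simp [add_assoc]

theorem mem_iff {x : GolayPt → ℤ} : x ∈ leechLattice ↔ Good x := by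
  refine ⟨fun h => ?_, fun h => AddSubgroup.subset_closure (mem_leechSet_of_good h)⟩
  induction h using AddSubgroup.closure_induction with
  | mem z hz => exact good_of_mem_leechSet hz
  | zero => exact good_zero
  | add a b _ _ ha hb => exact good_add ha hb
  | neg a _ ha => exact good_neg ha

theorem support_mem {w : GolayPt → ZMod 2} (h : w ∈ golayCode) : support₂ w ∈ codeSets := ⟨w, h, rfl⟩

theorem inter_even {s t : Finset GolayPt} (hs : s ∈ codeSets) (ht : t ∈ codeSets) :
    2 ∣ (s ∩ t).card := by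
  have h1 := card_cases hs
  have h2 := card_cases ht
  have h3 := card_cases (codeSets_symmDiff hs ht)
  have : (symmDiff s t).card + 2 * (s ∩ t).card = s.card + t.card := by
    have e : symmDiff s t = (s \ t) ∪ (t \ s) := rfl
    have ha := Finset.card_le_card (Finset.inter_subset_left : s ∩ t ⊆ s)
    have hb := Finset.card_le_card (Finset.inter_subset_right : s ∩ t ⊆ t)
    rw [e, Finset.card_union_of_disjoint disjoint_sdiff_sdiff, Finset.card_sdiff, Finset.card_sdiff,
      Finset.inter_comm t s]
    omega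
  omega

/-- The minimum norm. -/
theorem min_norm {x : GolayPt → ℤ} (h : x ∈ leechLattice) (hne : x ≠ 0) : 32 ≤ sqNorm x := by
  obtain ⟨m, y, hm, hx, hs, hw⟩ := mem_iff.1 h
  have hwt := card_cases (support_mem hw)
  rw [support_cast] at hwt
  have key : ∀ (f g : GolayPt → ℤ), (∀ i, g i ≤ f i) → ∑ i, g i ≤ ∑ i, f i :=
    fun f g h => Finset.sum_le_sum fun i _ => h i
  rcases hm with rfl | rfl
  · by_cases h0 : (Finset.univ.filter fun i => ¬ (2 : ℤ) ∣ y i).card = 0
    · have h2 : ∀ i, ∃ z, y i = 2 * z := fun i => by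
        by_contra hi
        have : i ∈ (Finset.univ.filter fun i => ¬ (2 : ℤ) ∣ y i) :=
          Finset.mem_filter.2 ⟨Finset.mem_univ _, fun ⟨z, hz⟩ => hi ⟨z, hz⟩⟩
        rw [Finset.card_eq_zero.1 h0] at this
        exact Finset.notMem_empty i this
      choose z hz using h2
      have e1 : sqNorm x = 16 * ∑ i, z i ^ 2 := by
        rw [sqNorm, Finset.mul_sum]
        exact Finset.sum_congr rfl fun i _ => by rw [hx, hz]; ring
      have e2 : ∑ i, x i = 4 * ∑ i, z i := by
        rw [Finset.mul_sum]; exact Finset.sum_congr rfl fun i _ => by rw [hx, hz]; ring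
      have e3 : (2 : ℤ) ∣ ∑ i, (z i ^ 2 - z i) := Finset.dvd_sum fun i _ => by
        rw [show z i ^ 2 - z i = z i * (z i - 1) by ring]
        exact even_iff_two_dvd.1 (Int.even_mul_pred_self _)
      rw [Finset.sum_sub_distrib] at e3
      obtain ⟨j, hj⟩ : ∃ j, z j ≠ 0 := by
        by_contra hz0
        push Not at hz0
        exact hne (funext fun i => by simp [hx, hz, hz0])
      have e4 : 0 < ∑ i, z i ^ 2 :=
        Finset.sum_pos' (fun i _ => sq_nonneg _) ⟨j, Finset.mem_univ _, by positivity⟩
      omega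
    · have e1 : sqNorm x = 4 * ∑ i, y i ^ 2 := by
        rw [sqNorm, Finset.mul_sum]
        exact Finset.sum_congr rfl fun i _ => by rw [hx]; ring
      have e2 := key (fun i => y i ^ 2) (fun i => if ¬ (2 : ℤ) ∣ y i then 1 else 0) fun i => by
        by_cases hi : (2 : ℤ) ∣ y i
        · simp [hi, sq_nonneg]
        · simp only [hi, not_false_eq_true, if_true]
          have : y i ≠ 0 := fun h0 => hi (h0 ▸ dvd_zero _)
          have := (sq_pos_iff (a := y i)).2 this
          omega
      rw [Finset.sum_boole] at e2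
      omega
  · by_cases hbig : ∃ j, y j ≠ 0 ∧ y j ≠ -1
    · obtain ⟨j, hj⟩ := hbig
      have e2 := key (fun i => x i ^ 2) (fun i => if i = j then 9 else 1) fun i => by
        rw [hx]
        split_ifs with e
        · subst e
          rcases le_or_gt 1 (y i) with h1 | h1
          · nlinarith
          · have : y i ≤ -2 := by omega
            nlinarith
        · rcases le_or_gt 0 (y i) with h1 | h1 <;> nlinarith
      rw [Finset.sum_ite, Finset.sum_const, Finset.sum_const, Finset.filter_eq', if_pos (Finset.mem_univ _),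
        Finset.filter_ne', Finset.card_erase_of_mem (Finset.mem_univ _)] at e2
      simp at e2
      simpa [sqNorm] using e2
    · push Not at hbig
      exfalso
      have e1 : ∑ i, x i = 24 - 2 * ((Finset.univ.filter fun i => ¬ (2 : ℤ) ∣ y i).card : ℤ) := by
        rw [show (24 : ℤ) = ∑ _i : GolayPt, (1 : ℤ) by simp, ← Finset.sum_boole, Finset.mul_sum,
          ← Finset.sum_sub_distrib]
        refine Finset.sum_congr rfl fun i _ => ?_
        rw [hx]
        rcases Classical.em (y i = 0) with e | e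
        · simp [e]
        · simp [hbig i e]
      omega

theorem sqNorm_parallelogram (x y : GolayPt → ℤ) :
    sqNorm (x - y) + sqNorm (x + y) = 2 * sqNorm x + 2 * sqNorm y := by
  simp only [sqNorm, Finset.mul_sum, ← Finset.sum_add_distrib, Pi.add_apply, Pi.sub_apply]
  exact Finset.sum_congr rfl fun i _ => by ring

theorem sqNorm_sub_eq (x y : GolayPt → ℤ) : sqNorm (x - y) = sqNorm x + sqNorm y - 2 * dotInt x y := by
  simp only [sqNorm, dotInt, Finset.mul_sum, ← Finset.sum_add_distrib, ← Finset.sum_sub_distrib, Pi.sub_apply]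
  exact Finset.sum_congr rfl fun i _ => by ring

/-- Short congruent vectors modulo twice the lattice. -/
theorem short_congr {x y : GolayPt → ℤ} (hy : y ∈ leechLattice)
    (hxn : sqNorm x ≤ 64) (hyn : sqNorm y ≤ 64) (hc : ∃ z ∈ leechLattice, x - y = 2 • z) :
    x = y ∨ x = -y ∨ (sqNorm x = 64 ∧ sqNorm y = 64 ∧ dotInt x y = 0) := by
  obtain ⟨z, hz, e⟩ := hc
  have hdouble : ∀ u : GolayPt → ℤ, sqNorm (2 • u) = 4 * sqNorm u := fun u => by
    simp only [sqNorm, Finset.mul_sum, Pi.smul_apply]
    exact Finset.sum_congr rfl fun i _ => by ring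
  by_cases h1 : z = 0
  · left; rw [h1, smul_zero, sub_eq_zero] at e; exact e
  by_cases h2 : z + y = 0
  · right; left
    have : x + y = 2 • (z + y) := by rw [smul_add, ← e]; abel
    rw [h2, smul_zero] at this
    exact eq_neg_of_add_eq_zero_left this
  right; right
  have a := min_norm hz h1
  have b := min_norm (add_mem hz hy) h2
  have p := sqNorm_parallelogram x y
  have q := sqNorm_sub_eq x y
  rw [e, hdouble] at p q
  rw [show x + y = 2 • (z + y) by rw [smul_add, ← e]; abel, hdouble] at p
  omega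

/-- Changing signs on a code word. -/
theorem flip_mem {c : Finset GolayPt} (hc : c ∈ codeSets) {x : GolayPt → ℤ} (h : x ∈ leechLattice) :
    (fun i => if i ∈ c then -x i else x i) ∈ leechLattice := by
  obtain ⟨w, hw', rfl⟩ := id hc
  obtain ⟨m, y, hm, hx, hs, hw⟩ := mem_iff.1 h
  refine mem_iff.2 ⟨m, fun i => if i ∈ support₂ w then -m - y i else y i, hm, fun i => ?_, ?_, ?_⟩
  · dsimp only; split_ifs <;> rw [hx]; ring
  · have e : (∑ i, if i ∈ support₂ w then -x i else x i) = (∑ i, x i) - 2 * ∑ i ∈ support₂ w, x i := by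
      rw [Finset.mul_sum, ← Finset.sum_ite_mem_eq (support₂ w) fun i => 2 * x i, ← Finset.sum_sub_distrib]
      exact Finset.sum_congr rfl fun i _ => by split_ifs <;> ring
    have eA : ∑ i, x i = 24 * m + 2 * ∑ i, y i := by
      rw [Finset.sum_congr rfl (fun i _ => hx i), Finset.sum_add_distrib, Finset.sum_const, ← Finset.mul_sum,
        nsmul_eq_mul, Finset.card_univ, show Fintype.card GolayPt = 24 from rfl]; rfl
    have eB : ∑ i ∈ support₂ w, x i = m * (support₂ w).card + 2 * ∑ i ∈ support₂ w, y i := by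
      rw [Finset.sum_congr rfl (fun i _ => hx i), Finset.sum_add_distrib, Finset.sum_const, ← Finset.mul_sum,
        nsmul_eq_mul, mul_comm m]
    rw [e]
    have hpar : (2 : ℤ) ∣ ∑ i ∈ support₂ w, y i := by
      have h2 := inter_even hc (support_mem hw)
      rw [support_cast, Finset.inter_filter, Finset.inter_univ] at h2
      rw [show (2 : ℤ) = ((2 : ℕ) : ℤ) from rfl, ← ZMod.intCast_zmod_eq_zero_iff_dvd _ 2, Int.cast_sum,
        ← Finset.sum_filter_ne_zero]
      rw [Finset.sum_congr rfl (g := fun _ => (1 : ZMod 2)) (fun i hi => by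
        have : ∀ z : ZMod 2, z ≠ 0 → z = 1 := by decide
        exact this _ (Finset.mem_filter.1 hi).2), Finset.sum_const, nsmul_one,
        ZMod.natCast_eq_zero_iff_even, even_iff_two_dvd]
      simp only [Ne, ZMod.intCast_zmod_eq_zero_iff_dvd, Nat.cast_ofNat]
      exact h2
    have := card_cases hc
    rcases hm with rfl | rfl <;> omega
  · convert Submodule.add_mem _ (Submodule.smul_mem golayCode (m : ZMod 2) hw') hw using 1
    funext i
    have e2 : ∀ z : ZMod 2, z ≠ 0 → z = 1 := by decide
    by_cases hi : i ∈ support₂ w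
    · simp only [hi, if_true, Pi.add_apply, Pi.smul_apply, smul_eq_mul, e2 _ (Finset.mem_filter.1 hi).2]
      push_cast; simp [CharTwo.neg_eq, CharTwo.sub_eq_add]
    · have : w i = 0 := by simpa [support₂] using hi
      simp [hi, this]

/-- Permuting the coordinates by an element of the automorphism group of the code. -/
theorem perm_mem {σ : Equiv.Perm GolayPt} (hσ : σ ∈ M24) {x : GolayPt → ℤ} (h : x ∈ leechLattice) :
    (fun i => x (σ i)) ∈ leechLattice := by
  obtain ⟨m, y, hm, hx, hs, hw⟩ := mem_iff.1 h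
  refine mem_iff.2 ⟨m, fun i => y (σ i), hm, fun i => hx _, by rwa [Equiv.sum_comp σ x], ?_⟩
  have hh := mem_codeSets_smul (inv_mem hσ) (support_mem hw)
  obtain ⟨v, hv, e⟩ := hh
  convert (SetLike.mem_coe.1 hv) using 1
  funext i
  have hi := Finset.ext_iff.1 e i
  rw [← Finset.inv_smul_mem_iff, inv_inv, Equiv.Perm.smul_def] at hi
  simp only [support₂, Finset.mem_filter, Finset.mem_univ, true_and] at hi
  have e2 : ∀ a b : ZMod 2, (a ≠ 0 ↔ b ≠ 0) → b = a := by decide
  exact e2 _ _ hi

end Cfsg.Agent.Lib.Leech
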