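import Cfsg.Agent.Lib.Leech.Basic
import Cfsg.Agent.Lib.Golay.Action

/-!
Counting short lattice vectors by coordinate-wise generating functions.
-/

namespace Cfsg.Agent.Lib.Leech

open Cfsg Golay Finset

/-- Number of integer vectors with prescribed coordinate values, square sum and sum modulo 8. -/
def cnt : List (List ℤ) → ℤ → ℤ → ℕ
  | [], N, r => if N = 0 ∧ r % 8 = 0 then 1 else 0
  | l :: ls, N, r => (l.map fun v => cnt ls (N - v ^ 2) (r - v)).sum

/-- The coefficient of a state table. -/
def coef (t : List ((ℤ × ℤ) × ℕ)) (N r : ℤ) : ℕ :=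
  (t.map fun e => if e.1.1 = N ∧ (r - e.1.2) % 8 = 0 then e.2 else 0).sum

/-- Insert a state. -/
def ins (e : (ℤ × ℤ) × ℕ) : List ((ℤ × ℤ) × ℕ) → List ((ℤ × ℤ) × ℕ)
  | [] => [e]
  | a :: t => if a.1 = e.1 then (a.1, a.2 + e.2) :: t else a :: ins e t

/-- One coordinate. -/
def step (B : ℤ) (l : List ℤ) (t : List ((ℤ × ℤ) × ℕ)) : List ((ℤ × ℤ) × ℕ) :=
  (l.flatMap fun v => (t.filter fun e => e.1.1 + v ^ 2 ≤ B).map fun e => ((e.1.1 + v ^ 2, (e.1.2 + v) % 8), e.2)).foldr ins []

/-- The state table of a list of coordinates. -/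
def tab (B : ℤ) : List (List ℤ) → List ((ℤ × ℤ) × ℕ)
  | [] => [((0, 0), 1)]
  | l :: ls => step B l (tab B ls)

theorem coef_ins (e : (ℤ × ℤ) × ℕ) (N r : ℤ) : ∀ t, coef (ins e t) N r = coef (e :: t) N r
  | [] => rfl
  | a :: t => by
    have ih := coef_ins e N r t
    simp only [coef, List.map_cons, List.sum_cons] at ih
    simp only [ins]
    split_ifs with h
    · simp only [coef, List.map_cons, List.sum_cons, ← h]
      split_ifs <;> omega
    · simp only [coef, List.map_cons, List.sum_cons, ih]
      omega

theorem coef_foldr (N r : ℤ) : ∀ L, coef (L.foldr ins []) N r = coef L N r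
  | [] => rfl
  | a :: L => by
    rw [List.foldr_cons, coef_ins]
    simp only [coef, List.map_cons, List.sum_cons]
    have := coef_foldr N r L
    simp only [coef] at this
    rw [this]

theorem coef_append (s t : List ((ℤ × ℤ) × ℕ)) (N r : ℤ) : coef (s ++ t) N r = coef s N r + coef t N r := by
  simp [coef]

theorem coef_shift (B : ℤ) (t : List ((ℤ × ℤ) × ℕ)) (v N r : ℤ) (hN : N ≤ B) :
    coef ((t.filter fun e => e.1.1 + v ^ 2 ≤ B).map fun e => ((e.1.1 + v ^ 2, (e.1.2 + v) % 8), e.2)) N r
      = coef t (N - v ^ 2) (r - v) := by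
  induction t with
  | nil => rfl
  | cons a t ih =>
    simp only [coef] at ih
    by_cases h : a.1.1 + v ^ 2 ≤ B
    · rw [List.filter_cons_of_pos (by simpa using h)]
      simp only [coef, List.map_cons, List.sum_cons, ih]
      congr 1
      refine if_congr ?_ rfl rfl
      constructor <;> rintro ⟨h1, h2⟩ <;> constructor <;> omega
    · rw [List.filter_cons_of_neg (by simpa using h)]
      simp only [coef, List.map_cons, List.sum_cons, ih]
      rw [if_neg (fun h' => h (by omega))]
      omega

theorem coef_tab (B : ℤ) : ∀ ls N r, N ≤ B → coef (tab B ls) N r = cnt ls N r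
  | [], N, r, _ => by
    simp only [tab, coef, cnt, List.map_cons, List.map_nil, List.sum_cons, List.sum_nil, Nat.add_zero, sub_zero]
    exact if_congr (and_congr_left' eq_comm) rfl rfl
  | l :: ls, N, r, hN => by
    rw [tab, step, coef_foldr, cnt]
    induction l with
    | nil => rfl
    | cons v l ih =>
      rw [List.flatMap_cons, coef_append, ih, coef_shift B _ v N r hN, List.map_cons, List.sum_cons,
        coef_tab B ls _ _ (by nlinarith)]

/-- The vectors counted by `cnt`. -/
def vecs {n : ℕ} (f : Fin n → List ℤ) (N r : ℤ) : Finset (Fin n → ℤ) :=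
  (Fintype.piFinset fun i => (f i).toFinset).filter fun x => ∑ i, x i ^ 2 = N ∧ (r - ∑ i, x i) % 8 = 0

theorem card_vecs : ∀ {n : ℕ} (f : Fin n → List ℤ), (∀ i, (f i).Nodup) → ∀ N r,
    (vecs f N r).card = cnt (List.ofFn f) N r
  | 0, f, _, N, r => by
    rw [List.ofFn_zero, cnt, vecs, card_filter, sum_eq_single (fun i => Fin.elim0 i)]
    · simp [eq_comm]
    · exact fun b _ hb => absurd (funext fun i => Fin.elim0 i) hb
    · intro h; exact absurd (Fintype.mem_piFinset.2 fun i => Fin.elim0 i) h
  | n + 1, f, hf, N, r => by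
    rw [List.ofFn_succ, cnt, ← List.sum_toFinset _ (hf 0),
      card_eq_sum_card_fiberwise (s := vecs f N r) (f := fun x => x 0) (t := (f 0).toFinset)
        (fun x hx => Fintype.mem_piFinset.1 (mem_filter.1 hx).1 0)]
    refine sum_congr rfl fun v hv => ?_
    rw [← card_vecs (fun i => f i.succ) (fun i => hf _)]
    refine card_bij' (fun x _ => Fin.tail x) (fun y _ => Fin.cons v y) ?_ ?_ ?_ ?_
    · intro x hx
      simp only [vecs, mem_filter, Fintype.mem_piFinset] at hx ⊢
      obtain ⟨⟨h1, h2, h3⟩, h4⟩ := hx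
      rw [Fin.sum_univ_succ, h4] at h2 h3
      refine ⟨fun i => h1 i.succ, ?_, ?_⟩ <;> simp only [Fin.tail] <;> omega
    · intro y hy
      simp only [vecs, mem_filter, Fintype.mem_piFinset] at hy ⊢
      obtain ⟨h1, h2, h3⟩ := hy
      refine ⟨⟨fun i => ?_, ?_, ?_⟩, Fin.cons_zero _ _⟩
      · exact Fin.cases (by simpa using hv) (fun j => by simpa using h1 j) i
      · rw [Fin.sum_univ_succ]; simp only [Fin.cons_zero, Fin.cons_succ]; omega
      · rw [Fin.sum_univ_succ]; simp only [Fin.cons_zero, Fin.cons_succ]; omega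
    · intro x hx
      rw [← (mem_filter.1 hx).2]
      exact Fin.cons_self_tail x
    · intro y _
      exact Fin.tail_cons _ _

/-- The admissible values of a coordinate. -/
def vals (m : Bool) (inc : Bool) : List ℤ :=
  match m, inc with
  | false, true => [2, -2, 6, -6]
  | false, false => [0, 4, -4, 8, -8]
  | true, true => [-1, 3, -5, 7]
  | true, false => [1, -3, 5, -7]

/-- Coordinate lists of a code word of weight `k`. -/
def shape (P : ℤ → Bool) (m : Bool) (k : ℕ) : List (List ℤ) :=
  List.replicate k ((vals m true).filter P) ++ List.replicate (24 - k) ((vals m false).filter P)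

/-- The lattice vectors belonging to a parity and a code word. -/
def piece (P : ℤ → Bool) (N : ℤ) (m : Bool) (c : Finset GolayPt) : Finset (GolayPt → ℤ) :=
  (Fintype.piFinset fun i => ((vals m (decide (i ∈ c))).filter P).toFinset).filter fun x =>
    ∑ i, x i ^ 2 = N ∧ ((if m then 4 else 0) - ∑ i, x i) % 8 = 0

theorem vals_nodup : ∀ m inc, (vals m inc).Nodup := by decide

theorem card_piece (P : ℤ → Bool) (N : ℤ) (m : Bool) (c : Finset GolayPt) :
    (piece P N m c).card = cnt (shape P m c.card) N (if m then 4 else 0) := by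
  classical
  have hk : c.card ≤ 24 := (card_le_univ c).trans (le_of_eq rfl)
  obtain ⟨e, he⟩ : ∃ e : Fin 24 ≃ GolayPt, ∀ i, e i ∈ c ↔ (i : ℕ) < c.card := by
    let e₀ : ∀ b : Bool, {i : Fin 24 // decide ((i : ℕ) < c.card) = b} ≃ {p : GolayPt // decide (p ∈ c) = b} := fun b =>
      Fintype.equivOfCardEq (by
        have h1 : Fintype.card {i : Fin 24 // decide ((i : ℕ) < c.card) = true} = c.card := by
          simp only [decide_eq_true_eq]
          rw [Fintype.card_subtype, Fin.card_filter_val_lt]; omega
        have h2 : Fintype.card {p : GolayPt // decide (p ∈ c) = true} = c.card := by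
          simp only [decide_eq_true_eq]; exact Fintype.card_coe c
        cases b
        · have a1 := Fintype.card_subtype_compl fun i : Fin 24 => decide ((i : ℕ) < c.card) = true
          have a2 := Fintype.card_subtype_compl fun p : GolayPt => decide (p ∈ c) = true
          simp only [Bool.not_eq_true] at a1 a2
          rw [a1, a2, h1, h2]; rfl
        · rw [h1, h2])
    refine ⟨Equiv.ofFiberEquiv e₀, fun i => ?_⟩
    have := Equiv.ofFiberEquiv_map e₀ i
    simpa using this
  have hlist : shape P m c.card = List.ofFn fun i : Fin 24 => (vals m (decide (e i ∈ c))).filter P := by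
    refine List.ext_getElem (by simp [shape]; omega) fun i h1 h2 => ?_
    simp only [shape, List.getElem_append, List.getElem_replicate, List.length_replicate, List.getElem_ofFn]
    by_cases h : i < c.card
    · rw [dif_pos h, decide_eq_true ((he ⟨i, by omega⟩).2 h)]
    · rw [dif_neg h, decide_eq_false (fun h' => h ((he ⟨i, by simp at h2; omega⟩).1 h'))]
  rw [hlist, ← card_vecs _ (fun i => (vals_nodup _ _).filter _)]
  refine card_bij' (fun x _ => fun i => x (e i)) (fun y _ => fun p => y (e.symm p)) ?_ ?_ ?_ ?_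
  · intro x hx
    simp only [piece, vecs, mem_filter, Fintype.mem_piFinset] at hx ⊢
    exact ⟨fun i => hx.1 _, by rw [Equiv.sum_comp e fun p => x p ^ 2]; exact hx.2.1,
      by rw [Equiv.sum_comp e x]; exact hx.2.2⟩
  · intro y hy
    simp only [piece, vecs, mem_filter, Fintype.mem_piFinset] at hy ⊢
    refine ⟨fun p => ?_, ?_, ?_⟩
    · have := hy.1 (e.symm p)
      rwa [e.apply_symm_apply] at this
    · rw [Equiv.sum_comp e.symm fun i => y i ^ 2]; exact hy.2.1
    · rw [Equiv.sum_comp e.symm y]; exact hy.2.2
  · intro x _; funext p; simp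
  · intro y _; funext i; simp

/-- The code words as a finset. -/
noncomputable def codeFinset : Finset (Finset GolayPt) := by
  classical exact univ.filter fun c => c ∈ codeSets

theorem mem_codeFinset {c : Finset GolayPt} : c ∈ codeFinset ↔ c ∈ codeSets := by simp [codeFinset]

theorem ind_mem {c : Finset GolayPt} (hc : c ∈ codeSets) :
    (fun i => if i ∈ c then (1 : ZMod 2) else 0) ∈ golayCode := by
  obtain ⟨w, hw, rfl⟩ := hc
  convert (SetLike.mem_coe.1 hw) using 1
  funext i
  have h2 : ∀ z : ZMod 2, z = 0 ∨ z = 1 := by decide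
  rcases h2 (w i) with h | h <;> simp [support₂, h]

theorem card_codeFinset : codeFinset.card = 4096 := by
  classical
  rw [← code_card, ← Nat.card_eq_finsetCard]
  symm
  refine Nat.card_eq_of_bijective (fun w : golayCode => (⟨support₂ (w : GolayPt → ZMod 2), mem_codeFinset.2 (support_mem w.2)⟩ : ↥codeFinset)) ⟨fun a b h => ?_, fun ⟨c, hc⟩ => ?_⟩
  · have h' := Finset.ext_iff.1 (congrArg Subtype.val h)
    refine Subtype.ext (funext fun i => ?_)
    have := h' i
    simp only [support₂, mem_filter, mem_univ, true_and] at this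
    revert this
    generalize (a : GolayPt → ZMod 2) i = u
    generalize (b : GolayPt → ZMod 2) i = v
    revert u v
    decide
  · obtain ⟨w, hw, rfl⟩ := mem_codeFinset.1 hc
    exact ⟨⟨w, hw⟩, rfl⟩

theorem sum_codeFinset (f : ℕ → ℕ) :
    ∑ c ∈ codeFinset, f c.card = f 0 + 759 * f 8 + 2576 * f 12 + 759 * f 16 + f 24 := by
  classical
  have hone : (fun i : GolayPt => if i ∈ (univ : Finset GolayPt) then (1 : ZMod 2) else 0) = 1 := by funext i; simp
  have h0 : (codeFinset.filter fun c => c.card = 0).card = 1 := card_eq_one.2 ⟨∅, by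
    ext c
    simp only [mem_filter, mem_codeFinset, mem_singleton, card_eq_zero]
    exact ⟨fun h => h.2, fun h => ⟨h ▸ ⟨0, Submodule.zero_mem _, by simp [support₂]⟩, h⟩⟩⟩
  have h24 : (codeFinset.filter fun c => c.card = 24).card = 1 := card_eq_one.2 ⟨univ, by
    ext c
    simp only [mem_filter, mem_codeFinset, mem_singleton]
    exact ⟨fun h => eq_univ_of_card c (h.2.trans rfl), fun h => ⟨h ▸ ⟨1, one_mem, by simp [support₂]⟩, h ▸ rfl⟩⟩⟩
  have h8 : (codeFinset.filter fun c => c.card = 8).card = 759 := by
    rw [← octads_ncard, ← Set.ncard_coe_finset]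
    congr 1
    ext c
    simp [mem_codeFinset, octads, wordsOfWeight]
  have h12 : (codeFinset.filter fun c => c.card = 12).card = 2576 := by
    rw [← dodecads_ncard, ← Set.ncard_coe_finset]
    congr 1
    ext c
    simp [mem_codeFinset, dodecads, wordsOfWeight]
  have hmap : ∀ c ∈ codeFinset, c.card ∈ ({0, 8, 12, 16, 24} : Finset ℕ) := fun c hc => by
    rcases card_cases (mem_codeFinset.1 hc) with h | h | h | h | h <;> simp [h]
  have h16 : (codeFinset.filter fun c => c.card = 16).card = 759 := by
    have h := card_eq_sum_card_fiberwise (s := codeFinset) (f := fun c => c.card) (t := {0, 8, 12, 16, 24}) (fun c hc => hmap c hc)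
    simp only [sum_insert, mem_insert, mem_singleton, sum_singleton, card_codeFinset, h0, h24, h8, h12,
      OfNat.ofNat_eq_ofNat, OfNat.zero_ne_ofNat, Nat.reduceEqDiff, or_self, not_false_eq_true] at h
    omega
  rw [← sum_fiberwise_of_maps_to hmap fun c => f c.card]
  have e : ∀ j, ∑ c ∈ codeFinset.filter (fun c => c.card = j), f c.card = (codeFinset.filter fun c => c.card = j).card * f j :=
    fun j => by rw [← smul_eq_mul, ← sum_const]; exact sum_congr rfl fun c hc => by rw [(mem_filter.1 hc).2]
  simp only [sum_insert, mem_insert, mem_singleton, sum_singleton, e, h0, h8, h12, h16, h24,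
    OfNat.ofNat_eq_ofNat, OfNat.zero_ne_ofNat, Nat.reduceEqDiff, or_self, not_false_eq_true]
  ring

/-- The number of vectors of a shape. -/
def total (P : ℤ → Bool) (N : ℤ) : ℕ :=
  let f := fun k => coef (tab N (shape P false k)) N 0 + coef (tab N (shape P true k)) N 4
  f 0 + 759 * f 8 + 2576 * f 12 + 759 * f 16 + f 24

theorem val_spec (x : ℤ) (hx : x ^ 2 ≤ 64) (m inc : Bool) :
    x ∈ vals m inc ↔ x % 4 = (if m then 1 else 0) + (if inc then 2 else 0) := by
  have h1 : -8 ≤ x := by nlinarith
  have h2 : x ≤ 8 := by nlinarith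
  interval_cases x <;> cases m <;> cases inc <;> decide

theorem census (P : ℤ → Bool) (N : ℤ) (hN : N ≤ 64) :
    {x : GolayPt → ℤ | x ∈ leechLattice ∧ sqNorm x = N ∧ ∀ i, P (x i) = true}.ncard = total P N := by
  classical
  set S := ((univ : Finset Bool) ×ˢ codeFinset).biUnion fun a => piece P N a.1 a.2 with hS
  have hset : {x : GolayPt → ℤ | x ∈ leechLattice ∧ sqNorm x = N ∧ ∀ i, P (x i) = true} = (S : Set (GolayPt → ℤ)) := by
    ext x
    simp only [Set.mem_setOf_eq, hS, coe_biUnion, Set.mem_iUnion, mem_coe, mem_product, mem_univ, true_and,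
      piece, mem_filter, Fintype.mem_piFinset, List.mem_toFinset, List.mem_filter, exists_prop]
    constructor
    · rintro ⟨hx, hn, hP⟩
      obtain ⟨m, y, hm, hy, hs, hw⟩ := mem_iff.1 hx
      refine ⟨(decide (m = 1), support₂ fun i => (y i : ZMod 2)), mem_codeFinset.2 (support_mem hw), fun i => ⟨?_, hP i⟩, hn, ?_⟩
      · have hle : x i ^ 2 ≤ 64 := (single_le_sum (fun j _ => sq_nonneg (x j)) (mem_univ i)).trans (hn.le.trans hN)
        rw [val_spec _ hle, hy i]
        simp only [support_cast, mem_filter, mem_univ, true_and, decide_eq_true_eq]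
        rcases hm with rfl | rfl <;> split_ifs <;> omega
      · rcases hm with rfl | rfl <;>
          simp only [zero_ne_one, decide_false, decide_true, Bool.false_eq_true, if_true, if_false] <;> omega
    · rintro ⟨⟨m, c⟩, hc, hv, hn, hs⟩
      have hmem : ∀ i, x i % 4 = (if m then 1 else 0) + (if i ∈ c then 2 else 0) := fun i => by
        have hle : x i ^ 2 ≤ 64 := (single_le_sum (fun j _ => sq_nonneg (x j)) (mem_univ i)).trans (hn.le.trans hN)
        have := (val_spec _ hle _ _).1 (hv i).1
        simpa using this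
      refine ⟨mem_iff.2 ⟨if m then 1 else 0, fun i => (x i - if m then 1 else 0) / 2, by cases m <;> simp, fun i => ?_, ?_, ?_⟩,
        hn, fun i => (hv i).2⟩
      · have := hmem i
        show x i = _ + 2 * ((x i - _) / 2)
        cases m <;> split_ifs at this ⊢ <;> simp at * <;> omega
      · cases m <;> simp at hs ⊢ <;> omega
      · convert ind_mem (mem_codeFinset.1 hc) using 1
        funext i
        have := hmem i
        by_cases hi : i ∈ c
        · rw [if_pos hi]
          refine ((ZMod.intCast_eq_intCast_iff' _ 1 2).2 ?_).trans Int.cast_one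
          cases m <;> simp [hi] at this ⊢ <;> omega
        · rw [if_neg hi, ZMod.intCast_zmod_eq_zero_iff_dvd]
          cases m <;> simp [hi] at this ⊢ <;> omega
  rw [hset, Set.ncard_coe_finset, hS, card_biUnion, sum_product, Fintype.sum_bool]
  · simp only [card_piece]
    rw [← sum_add_distrib]
    simp only [if_true, Bool.false_eq_true, if_false]
    rw [sum_codeFinset fun k => cnt (shape P true k) N 4 + cnt (shape P false k) N 0]
    simp only [total, coef_tab N _ _ _ le_rfl]
    ring
  · rintro ⟨m, c⟩ - ⟨m', c'⟩ - hne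
    refine disjoint_left.2 fun x hx hx' => hne ?_
    simp only [piece, mem_filter, Fintype.mem_piFinset, List.mem_toFinset, List.mem_filter] at hx hx'
    have hle : ∀ i, x i ^ 2 ≤ 64 := fun i =>
      (single_le_sum (fun j _ => sq_nonneg (x j)) (mem_univ i)).trans (hx.2.1.le.trans hN)
    have h1 : ∀ i, x i % 4 = _ := fun i => (val_spec _ (hle i) _ _).1 (hx.1 i).1
    have h2 : ∀ i, x i % 4 = _ := fun i => (val_spec _ (hle i) _ _).1 (hx'.1 i).1
    have hm : m = m' := by
      have := (h1 none).symm.trans (h2 none)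
      cases m <;> cases m' <;> simp at this ⊢ <;> split_ifs at this <;> omega
    refine Prod.ext hm (Finset.ext fun i => ?_)
    have := (h1 i).symm.trans (h2 i)
    subst hm
    by_cases a : i ∈ c <;> by_cases b : i ∈ c' <;> simp [a, b] at this ⊢ <;> omega

theorem census_all (N : ℤ) (hN : N ≤ 64) :
    {x : GolayPt → ℤ | x ∈ leechLattice ∧ sqNorm x = N}.ncard = total (fun _ => true) N := by
  rw [← census _ N hN]
  congr 1
  ext x
  simp

end Cfsg.Agent.Lib.Leech
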