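import Cfsg.Agent.Lib.Leech.Stab
import Cfsg.Agent.Lib.Golay.Mathieu

/-!
The stabilizer of a minimal vector has no non-trivial normal 2-subgroup.
-/

set_option autoImplicit false

namespace Cfsg.Agent.Lib.Leech

open Cfsg Golay
open scoped Pointwise

/-- A minimal vector with both entries in the second tetrad. -/
def uVec : ↥leechLattice := ⟨frame (pt 13) (pt 18) - frame (pt 18) (pt 18), sub_mem (frame_mem _ _) (frame_mem _ _)⟩

theorem uVec_facts : sqNorm (uVec : GolayPt → ℤ) = 32 ∧ xi (uVec : GolayPt → ℤ) = (uVec : GolayPt → ℤ) ∧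
    pt 13 ≠ pt 18 ∧ (∃ x y : GolayPt, x ≠ y ∧ tid x = tid y ∧ x ≠ pt 13 ∧ x ≠ pt 18 ∧ y ≠ pt 13 ∧ y ≠ pt 18) := by
  refine ⟨?_, ?_, ?_, pt 0, pt 1, ?_⟩ <;> decide +kernel

theorem uVec_apply (p : GolayPt) :
    (uVec : GolayPt → ℤ) p = if p = pt 13 then 4 else if p = pt 18 then -4 else 0 := by
  revert p; decide +kernel

/-- Signed vectors with two entries of absolute value four. -/
def signed (i j : GolayPt) (s t : Bool) : GolayPt → ℤ :=
  fun p => if p = i then (if s then 4 else -4) else if p = j then (if t then 4 else -4) else 0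

theorem exists_sep' {p q : GolayPt} (h : p ≠ q) (s t : Bool) : ∃ c ∈ codeSets,
    (p ∈ c ↔ s = true) ∧ (q ∈ c ↔ t = true) := by
  cases s <;> cases t
  · exact ⟨∅, ⟨0, Submodule.zero_mem _, by simp [support₂]⟩, by simp, by simp⟩
  · obtain ⟨c, hc, h1, h2⟩ := exists_sep h
    exact ⟨c, hc, by simp [h1], by simp [h2]⟩
  · obtain ⟨c, hc, h1, h2⟩ := exists_sep h.symm
    exact ⟨c, hc, by simp [h2], by simp [h1]⟩
  · exact ⟨Finset.univ, ⟨1, one_mem, by simp [support₂]⟩, by simp, by simp⟩

/-- The monomial group is transitive on the signed pairs. -/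
theorem ncard_orbit_uVec : (MulAction.orbit ↥(MulAction.stabilizer ↥Co0 cross0) uVec).ncard = 1104 := by
  classical
  have hu := uVec_facts
  let O : Finset (GolayPt → ℤ) := ((Finset.univ.powersetCard 2 : Finset (Finset GolayPt)).biUnion fun P =>
    (Fintype.piFinset fun p => if p ∈ P then ({4, -4} : Finset ℤ) else {0}))
  have hO : O.card = 1104 := by
    rw [Finset.card_biUnion]
    · rw [Finset.sum_congr rfl (g := fun _ => 4) (fun P hP => ?_), Finset.sum_const, Finset.card_powersetCard,
        Finset.card_univ, show Fintype.card GolayPt = 24 from rfl]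
      · rfl
      rw [Fintype.card_piFinset]
      simp only [apply_ite Finset.card, Finset.card_singleton, show ({4, -4} : Finset ℤ).card = 2 from rfl]
      rw [Finset.prod_ite, Finset.prod_const, Finset.prod_const, one_pow, mul_one, Finset.filter_mem_eq_inter,
        Finset.univ_inter, (Finset.mem_powersetCard.1 hP).2]
      rfl
    · intro P _ P' _ hne
      refine Finset.disjoint_left.2 fun x hx hx' => hne (Finset.ext fun p => ?_)
      rw [Fintype.mem_piFinset] at hx hx'
      have a := hx p; have b := hx' p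
      by_cases h1 : p ∈ P <;> by_cases h2 : p ∈ P' <;> simp [h1, h2] at a b ⊢ <;> omega
  have hset : Subtype.val '' MulAction.orbit ↥(MulAction.stabilizer ↥Co0 cross0) uVec = (O : Set (GolayPt → ℤ)) := by
    ext y
    simp only [O, Finset.mem_coe, Finset.mem_biUnion, Finset.mem_powersetCard, Finset.subset_univ, true_and,
      Fintype.mem_piFinset]
    constructor
    · rintro ⟨_, ⟨⟨g, hg⟩, rfl⟩, rfl⟩
      obtain ⟨⟨c, σ⟩, rfl⟩ := stab_cases hg
      refine ⟨{(σ : Equiv.Perm GolayPt).symm (pt 13), (σ : Equiv.Perm GolayPt).symm (pt 18)},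
        Finset.card_pair (fun e => hu.2.2.1 ((Equiv.injective _) e)), fun p => ?_⟩
      show (if (σ : Equiv.Perm GolayPt) p ∈ (c : Finset GolayPt) then -(uVec : GolayPt → ℤ) ((σ : Equiv.Perm GolayPt) p)
          else (uVec : GolayPt → ℤ) ((σ : Equiv.Perm GolayPt) p)) ∈ _
      simp only [Finset.mem_insert, Finset.mem_singleton, Equiv.eq_symm_apply, uVec_apply]
      by_cases h1 : (σ : Equiv.Perm GolayPt) p = pt 13
      · simp only [h1, true_or, if_true]; split_ifs <;> simp
      · by_cases h2 : (σ : Equiv.Perm GolayPt) p = pt 18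
        · simp only [h2, or_true, if_true, if_neg hu.2.2.1.symm]; split_ifs <;> simp
        · simp [h1, h2]
    · rintro ⟨P, hP, hy⟩
      obtain ⟨i, j, hij, rfl⟩ := Finset.card_eq_two.1 hP
      obtain ⟨c, hc, hci, hcj⟩ := exists_sep' hu.2.2.1 (decide (y i = -4)) (decide (y j = 4))
      obtain ⟨σ, hσ, h1, h2⟩ := M24_trans_pairs hij hu.2.2.1
      let a : ↥codeFinset × ↥M24 := (⟨c, mem_codeFinset.2 hc⟩, ⟨σ, hσ⟩)
      refine ⟨mono a • uVec, ⟨⟨mono a, mono_mem a⟩, rfl⟩, funext fun p => ?_⟩
      show (if σ p ∈ c then -(uVec : GolayPt → ℤ) (σ p) else (uVec : GolayPt → ℤ) (σ p)) = y p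
      have hp := hy p
      simp only [decide_eq_true_eq] at hci hcj
      rw [uVec_apply]
      by_cases e1 : p = i
      · subst e1
        rw [if_pos (by simp), Finset.mem_insert, Finset.mem_singleton] at hp
        rw [h1, if_pos rfl]
        rcases hp with e | e
        · rw [if_neg (fun hm => by have := hci.1 hm; omega), e]
        · rw [if_pos (hci.2 e), e]
      · by_cases e2 : p = j
        · subst e2
          rw [if_pos (by simp), Finset.mem_insert, Finset.mem_singleton] at hp
          rw [h2, if_neg hu.2.2.1.symm, if_pos rfl]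
          rcases hp with e | e
          · rw [if_pos (hcj.2 e), e]; rfl
          · rw [if_neg (fun hm => by have := hcj.1 hm; omega), e]
        · rw [if_neg (by simp [e1, e2]), Finset.mem_singleton] at hp
          have a1 : σ p ≠ pt 13 := fun e => e1 (σ.injective (e.trans h1.symm))
          have a2 : σ p ≠ pt 18 := fun e => e2 (σ.injective (e.trans h2.symm))
          simp [a1, a2, hp]
  rw [← Set.ncard_image_of_injective _ Subtype.val_injective, hset, Set.ncard_coe_finset, hO]

theorem card_stab_uVec : Nat.card (MulAction.stabilizer ↥Co0 uVec) = 42305421312000 := by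
  have horb : (MulAction.orbit ↥Co0 uVec).ncard = 196560 := by
    have : Subtype.val '' MulAction.orbit ↥Co0 uVec = {x : GolayPt → ℤ | x ∈ leechLattice ∧ sqNorm x = 32} := by
      ext y
      constructor
      · rintro ⟨_, ⟨g, rfl⟩, rfl⟩
        exact ⟨(g • uVec).2, (Same.sqNorm_eq ⟨g, rfl⟩).trans uVec_facts.1⟩
      · rintro ⟨h, hn⟩
        obtain ⟨g, hg⟩ := trans_min (v := uVec) (w := ⟨y, h⟩) uVec_facts.1 hn
        exact ⟨⟨y, h⟩, ⟨g, hg⟩, rfl⟩
    rw [← Set.ncard_image_of_injective _ Subtype.val_injective, this, census_all 32 (by norm_num)]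
    decide +kernel
  have h := Subgroup.card_mul_index (MulAction.stabilizer ↥Co0 uVec)
  rw [MulAction.index_stabilizer, horb, card_Co0] at h
  exact Nat.eq_of_mul_eq_mul_right (Nat.succ_pos 196559) (h.trans (by norm_num))

/-- The monomial part of the stabilizer of the minimal vector. -/
def monoU : Subgroup ↥Co0 := MulAction.stabilizer ↥Co0 uVec ⊓ MulAction.stabilizer ↥Co0 cross0

theorem card_monoU : Nat.card monoU * 1104 = 4096 * 244823040 := by
  have h := Subgroup.card_mul_index (MulAction.stabilizer ↥(MulAction.stabilizer ↥Co0 cross0) uVec)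
  rw [MulAction.index_stabilizer, ncard_orbit_uVec, card_stab] at h
  refine Eq.trans (congrArg (· * 1104) ?_) h
  refine Nat.card_congr
    { toFun := fun g => ⟨⟨g.1, g.2.2⟩, g.2.1⟩
      invFun := fun g => ⟨g.1.1, g.2, g.1.2⟩
      left_inv := fun g => rfl
      right_inv := fun g => rfl }

/-- The permutation induced by a monomial isometry. -/
def Moves (g : ↥Co0) (ρ : Equiv.Perm GolayPt) : Prop := ∀ i, g • e8 i = e8 (ρ i) ∨ g • e8 i = -e8 (ρ i)

theorem Moves.mul {g h : ↥Co0} {ρ π : Equiv.Perm GolayPt} (hg : Moves g ρ) (hh : Moves h π) : Moves (g * h) (ρ * π) := by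
  intro i
  rw [mul_smul, Equiv.Perm.mul_apply]
  rcases hh i with e | e <;> rw [e]
  · exact hg _
  · rw [smul_neg']
    rcases hg (π i) with e' | e' <;> rw [e'] <;> simp

theorem Moves.inv {g : ↥Co0} {ρ : Equiv.Perm GolayPt} (hg : Moves g ρ) : Moves g⁻¹ ρ⁻¹ := by
  intro i
  rcases hg (ρ⁻¹ i) with e | e <;> rw [Equiv.Perm.coe_inv, Equiv.apply_symm_apply] at e
  · left; rw [← e, inv_smul_smul]; rfl
  · right
    have := congrArg (fun x => g⁻¹ • x) e
    simp only [inv_smul_smul, smul_neg'] at this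
    rw [Equiv.Perm.coe_inv, this, neg_neg]

theorem moves_one : Moves 1 1 := fun i => Or.inl (by rw [one_smul]; rfl)

theorem Moves.unique {g : ↥Co0} {ρ π : Equiv.Perm GolayPt} (h : Moves g ρ) (h' : Moves g π) : ρ = π := by
  refine Equiv.ext fun i => ?_
  rcases h i with a | a <;> rcases h' i with b | b <;> rw [a] at b
  · exact e8_inj b
  · exact absurd b (e8_ne_neg _ _)
  · exact absurd b.symm (e8_ne_neg _ _)
  · exact e8_inj (neg_injective b)

theorem moves_mono (a : ↥codeFinset × ↥M24) : Moves (mono a) (a.2 : Equiv.Perm GolayPt)⁻¹ := fun i => by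
  rw [mono_e8]; split_ifs
  · exact Or.inr rfl
  · exact Or.inl rfl

/-- The stabilizer of a minimal vector has trivial 2-core. -/
theorem two_normal_bot (N : Subgroup ↥Co0) (hN : N ≤ MulAction.stabilizer ↥Co0 uVec) (hp : IsPGroup 2 N)
    (hnorm : ∀ k ∈ MulAction.stabilizer ↥Co0 uVec, ∀ n ∈ N, k * n * k⁻¹ ∈ N) : N = ⊥ := by
  classical
  haveI : Fact (Nat.Prime 2) := ⟨Nat.prime_two⟩
  haveI : Finite ↥Co0 := Nat.finite_of_card_ne_zero (by rw [card_Co0]; norm_num)
  set K := MulAction.stabilizer ↥Co0 uVec with hK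
  have hMK : monoU ≤ K := inf_le_left
  -- a Sylow subgroup inside the monomial part
  have hNM : N ≤ monoU := by
    obtain ⟨P⟩ : Nonempty (Sylow 2 ↥monoU) := inferInstance
    have hcardP : Nat.card ((P : Subgroup ↥monoU).map monoU.subtype) = 2 ^ (Nat.card ↥K).factorization 2 := by
      rw [Nat.card_congr ((P : Subgroup ↥monoU).equivMapOfInjective monoU.subtype monoU.subtype_injective).toEquiv.symm,
        P.card_eq_multiplicity]
      congr 1
      have hm : Nat.card ↥monoU = 908328960 :=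
        Nat.eq_of_mul_eq_mul_right (Nat.succ_pos 1103) (card_monoU.trans (by norm_num))
      rw [hm, hK, card_stab_uVec]
      have e1 : (908328960 : ℕ) = 2 ^ 18 * 3465 := by norm_num
      have e2 : (42305421312000 : ℕ) = 2 ^ 18 * 161382375 := by norm_num
      rw [e1, e2, Nat.factorization_mul (by norm_num) (by norm_num), Nat.factorization_mul (by norm_num) (by norm_num)]
      simp only [Finsupp.add_apply, Nat.Prime.factorization_pow Nat.prime_two, Finsupp.single_eq_same]
      rw [Nat.factorization_eq_zero_of_not_dvd (by norm_num : ¬ 2 ∣ 3465),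
        Nat.factorization_eq_zero_of_not_dvd (by norm_num : ¬ 2 ∣ 161382375)]
    set P' := (P : Subgroup ↥monoU).map monoU.subtype with hP'
    have hP'K : P' ≤ K := (Subgroup.map_subtype_le _).trans hMK
    let S : Sylow 2 ↥K := Sylow.ofCard (P'.subgroupOf K) (by
      rw [Nat.card_congr (Subgroup.subgroupOfEquivOfLe hP'K).toEquiv, hcardP])
    haveI : (N.subgroupOf K).Normal := ⟨fun n hn k => hnorm k k.2 n hn⟩
    have hNp : IsPGroup 2 (N.subgroupOf K) := hp.of_equiv (Subgroup.subgroupOfEquivOfLe hN).symm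
    have hle : N.subgroupOf K ≤ (S : Subgroup ↥K) := by
      have h := IsPGroup.to_sup_of_normal_right S.2 hNp
      have := S.3 h le_sup_left
      exact le_sup_right.trans this.le
    intro n hn
    have := hle (show (⟨n, hN hn⟩ : ↥K) ∈ N.subgroupOf K from hn)
    exact (Subgroup.map_subtype_le _ : P' ≤ monoU) this
  -- the permutations induced by `N`
  have hmoves : ∀ n ∈ N, ∃ ρ, Moves n ρ ∧ ρ ∈ M24 := fun n hn => by
    obtain ⟨a, rfl⟩ := stab_cases (g := n) (hNM hn).2
    exact ⟨_, moves_mono a, inv_mem a.2.2⟩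
  let PiN : Subgroup (Equiv.Perm GolayPt) :=
    { carrier := {ρ | ∃ n ∈ N, Moves n ρ}
      one_mem' := ⟨1, N.one_mem, moves_one⟩
      mul_mem' := fun ⟨n, hn, h⟩ ⟨m, hm, h'⟩ => ⟨n * m, mul_mem hn hm, h.mul h'⟩
      inv_mem' := fun ⟨n, hn, h⟩ => ⟨n⁻¹, inv_mem hn, h.inv⟩ }
  have hab := uVec_facts.2.2.1
  have hfixU : ∀ {g : ↥Co0} {ρ : Equiv.Perm GolayPt}, g • uVec = uVec → Moves g ρ →
      (ρ (pt 13) = pt 13 ∨ ρ (pt 13) = pt 18) ∧ (ρ (pt 18) = pt 13 ∨ ρ (pt 18) = pt 18) := by
    intro g ρ hg hm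
    obtain ⟨a, ha⟩ := stab_cases (g := g) (by
      refine Set.eq_of_subset_of_ncard_le ?_ (by rw [Set.ncard_smul_set])
        (Set.finite_of_ncard_pos (by rw [ncard_cross0]; norm_num))
      rintro _ ⟨x, hx, rfl⟩
      rcases hx with ⟨i, rfl⟩ | ⟨i, rfl⟩
      · rcases hm i with e | e
        · exact Or.inl ⟨_, e.symm⟩
        · exact Or.inr ⟨_, e.symm⟩
      · show g • (-e8 i) ∈ cross0
        rw [smul_neg']
        rcases hm i with e | e
        · exact Or.inr ⟨_, by rw [e]⟩
        · exact Or.inl ⟨_, by rw [e, neg_neg]⟩)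
    subst ha
    obtain rfl := hm.unique (moves_mono a)
    have key : ∀ p, (uVec : GolayPt → ℤ) ((a.2 : Equiv.Perm GolayPt) p) = 0 ↔ (uVec : GolayPt → ℤ) p = 0 := by
      intro p
      have h := congrArg (fun t : ↥leechLattice => (t : GolayPt → ℤ) p) hg
      change (if (a.2 : Equiv.Perm GolayPt) p ∈ (a.1 : Finset GolayPt) then -(uVec : GolayPt → ℤ) ((a.2 : Equiv.Perm GolayPt) p)
        else (uVec : GolayPt → ℤ) ((a.2 : Equiv.Perm GolayPt) p)) = _ at h
      split_ifs at h <;> omega
    have hz : ∀ p, (uVec : GolayPt → ℤ) p ≠ 0 ↔ p = pt 13 ∨ p = pt 18 := fun p => by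
      rw [uVec_apply]; split_ifs <;> simp_all
    constructor <;> refine (hz _).1 fun h0 => ?_
    · have := key ((a.2 : Equiv.Perm GolayPt)⁻¹ (pt 13))
      rw [Equiv.Perm.coe_inv, Equiv.apply_symm_apply, uVec_apply (pt 13), if_pos rfl] at this
      exact absurd (this.2 h0) (by norm_num)
    · have := key ((a.2 : Equiv.Perm GolayPt)⁻¹ (pt 18))
      rw [Equiv.Perm.coe_inv, Equiv.apply_symm_apply, uVec_apply (pt 18), if_neg hab.symm, if_pos rfl] at this
      exact absurd (this.2 h0) (by norm_num)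
  have hPi24 : ∀ ρ ∈ PiN, ρ ∈ M24 := fun ρ ⟨n, hn, h⟩ => by
    obtain ⟨π, hπ, hπ'⟩ := hmoves n hn
    rwa [h.unique hπ]
  have hperm : ∀ τ ∈ st2 (pt 13) (pt 18), ∃ t ∈ K, Moves t τ ∧ Moves t⁻¹ τ⁻¹ := by
    intro τ hτ
    have hτ24 : τ ∈ M24 := hτ.1.1
    have h1 : τ (pt 13) = pt 13 := hτ.1.2
    have h2 : τ (pt 18) = pt 18 := hτ.2
    let a : ↥codeFinset × ↥M24 := (⟨∅, mem_codeFinset.2 ⟨0, Submodule.zero_mem _, by simp [support₂]⟩⟩, ⟨τ⁻¹, inv_mem hτ24⟩)
    have hm : Moves (mono a) τ := by
      have := moves_mono a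
      rwa [show ((a.2 : Equiv.Perm GolayPt))⁻¹ = τ from inv_inv τ] at this
    refine ⟨mono a, Subtype.ext (funext fun p => ?_), hm, hm.inv⟩
    show (if τ⁻¹ p ∈ (∅ : Finset GolayPt) then -(uVec : GolayPt → ℤ) (τ⁻¹ p) else (uVec : GolayPt → ℤ) (τ⁻¹ p)) = _
    rw [if_neg (Finset.notMem_empty _), uVec_apply, uVec_apply]
    simp only [Equiv.Perm.coe_inv, Equiv.symm_apply_eq, h1, h2]
  have hPi2 : ∀ ρ ∈ PiN, ∃ k : ℕ, ρ ^ 2 ^ k = 1 := by
    rintro ρ ⟨n, hn, h⟩
    obtain ⟨k, hk⟩ := hp ⟨n, hn⟩
    have hpow : ∀ m : ℕ, Moves (n ^ m) (ρ ^ m) := fun m => by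
      induction m with
      | zero => rw [pow_zero, pow_zero]; exact moves_one
      | succ m ih => rw [pow_succ, pow_succ]; exact ih.mul h
    refine ⟨k, (hpow _).unique ?_⟩
    rw [show n ^ 2 ^ k = 1 from congrArg Subtype.val hk]
    exact moves_one
  -- intersection with the two-point stabilizer
  have hbot : ∀ ρ ∈ PiN, ρ ∈ st2 (pt 13) (pt 18) → ρ = 1 := by
    haveI := st2_simple hab
    haveI hnorm' : (PiN.subgroupOf (st2 (pt 13) (pt 18))).Normal := by
      refine ⟨fun ρ hρ τ => ?_⟩
      obtain ⟨n, hn, h⟩ := hρ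
      obtain ⟨t, ht, htm, htm'⟩ := hperm τ τ.2
      exact ⟨t * n * t⁻¹, hnorm t ht n hn, (htm.mul h).mul htm'⟩
    intro ρ hρ hρ2
    rcases hnorm'.eq_bot_or_eq_top with h | h
    · have hm : (⟨ρ, hρ2⟩ : ↥(st2 (pt 13) (pt 18))) ∈ PiN.subgroupOf (st2 (pt 13) (pt 18)) := hρ
      rw [h, Subgroup.mem_bot] at hm
      exact congrArg Subtype.val hm
    · exfalso
      have h7 : 7 ∣ Nat.card ↥(st2 (pt 13) (pt 18)) := by rw [st2_card hab]; norm_num
      haveI : Fact (Nat.Prime 7) := ⟨by norm_num⟩
      obtain ⟨x, hx⟩ := exists_prime_orderOf_dvd_card' (G := ↥(st2 (pt 13) (pt 18))) 7 h7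
      obtain ⟨k, hk⟩ := hPi2 x (show x ∈ PiN.subgroupOf (st2 (pt 13) (pt 18)) from h ▸ Subgroup.mem_top x)
      have hdvd : orderOf x ∣ 2 ^ k := orderOf_dvd_of_pow_eq_one (Subtype.ext (by simpa using hk))
      rw [hx] at hdvd
      exact absurd ((Nat.prime_dvd_prime_iff_eq (by norm_num) Nat.prime_two).1 ((Nat.Prime.dvd_of_dvd_pow (by norm_num) hdvd))) (by norm_num)
  have hPi1 : ∀ ρ ∈ PiN, ρ = 1 := by
    intro ρ hρ
    obtain ⟨n, hn, hnm⟩ := hρ
    obtain ⟨p1, p2⟩ := hfixU (hN hn) hnm
    have hcomm : ∀ τ ∈ st2 (pt 13) (pt 18), ∀ i, τ (ρ i) = ρ (τ i) := by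
      intro τ hτ i
      obtain ⟨t, ht, htm, htm'⟩ := hperm τ hτ
      have hmem : τ * ρ * τ⁻¹ * ρ⁻¹ ∈ PiN :=
        ⟨t * n * t⁻¹ * n⁻¹, mul_mem (hnorm t ht n hn) (inv_mem hn), ((htm.mul hnm).mul htm').mul hnm.inv⟩
      have h1 : τ (pt 13) = pt 13 := hτ.1.2
      have h2 : τ (pt 18) = pt 18 := hτ.2
      have q13 : (τ * ρ * τ⁻¹ * ρ⁻¹) (pt 13) = pt 13 ∧ (τ * ρ * τ⁻¹ * ρ⁻¹) (pt 18) = pt 18 := by
        have i1 : τ.symm (pt 13) = pt 13 := by rw [Equiv.symm_apply_eq, h1]
        have i2 : τ.symm (pt 18) = pt 18 := by rw [Equiv.symm_apply_eq, h2]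
        simp only [Equiv.Perm.mul_apply, Equiv.Perm.coe_inv]
        rcases p1 with e | e
        · have e' : ρ (pt 18) = pt 18 := p2.resolve_left fun e2 => hab (ρ.injective (e.trans e2.symm))
          have j1 : ρ.symm (pt 13) = pt 13 := by rw [Equiv.symm_apply_eq, e]
          have j2 : ρ.symm (pt 18) = pt 18 := by rw [Equiv.symm_apply_eq, e']
          exact ⟨by rw [j1, i1, e, h1], by rw [j2, i2, e', h2]⟩
        · have e' : ρ (pt 18) = pt 13 := p2.resolve_right fun e2 => hab (ρ.injective (e.trans e2.symm))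
          have j1 : ρ.symm (pt 13) = pt 18 := by rw [Equiv.symm_apply_eq, e']
          have j2 : ρ.symm (pt 18) = pt 13 := by rw [Equiv.symm_apply_eq, e]
          exact ⟨by rw [j1, i2, e', h1], by rw [j2, i1, e, h2]⟩
      have h := hbot _ hmem ⟨⟨hPi24 _ hmem, q13.1⟩, q13.2⟩
      have h' : τ * ρ = ρ * τ := by
        calc τ * ρ = (τ * ρ * τ⁻¹ * ρ⁻¹) * (ρ * τ) := by group
          _ = ρ * τ := by rw [h, one_mul]
      exact congrArg (fun σ : Equiv.Perm GolayPt => σ i) h'
    have hother : ∀ i, i ≠ pt 13 → i ≠ pt 18 → ρ i = i := by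
      intro i h13 h18
      by_contra hne
      have hj13 : ρ i ≠ pt 13 := fun e => by
        rcases p1 with a | a
        · exact h13 (ρ.injective (e.trans a.symm))
        · exact h18 (ρ.injective (e.trans (p2.resolve_right fun e2 => hab (ρ.injective (a.trans e2.symm))).symm))
      have hj18 : ρ i ≠ pt 18 := fun e => by
        rcases p1 with a | a
        · exact h18 (ρ.injective (e.trans (p2.resolve_left fun e2 => hab (ρ.injective (a.trans e2.symm))).symm))
        · exact h13 (ρ.injective (e.trans a.symm))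
      obtain ⟨k, hk⟩ : ∃ k, k ∉ ({pt 13, pt 18, i, ρ i} : Finset GolayPt) := by
        by_contra h
        push Not at h
        have := Finset.card_le_card (fun k _ => h k : (Finset.univ : Finset GolayPt) ⊆ {pt 13, pt 18, i, ρ i})
        have h4 := (Finset.card_le_four (a := pt 13) (b := pt 18) (c := i) (d := ρ i))
        rw [Finset.card_univ, show Fintype.card GolayPt = 24 from rfl] at this
        omega
      simp only [Finset.mem_insert, Finset.mem_singleton, not_or] at hk
      obtain ⟨τ, hτ, hτm⟩ := exists_M24_map (k := 4) (by norm_num) ![pt 13, pt 18, i, ρ i] ![pt 13, pt 18, i, k]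
        (by intro a b; fin_cases a <;> fin_cases b <;>
              simp [hab, Ne.symm hab, h13, Ne.symm h13, h18, Ne.symm h18, hj13, Ne.symm hj13, hj18, Ne.symm hj18, hne, Ne.symm hne])
        (by intro a b; fin_cases a <;> fin_cases b <;>
              simp [hab, Ne.symm hab, h13, Ne.symm h13, h18, Ne.symm h18, hk.1, Ne.symm hk.1, hk.2.1, Ne.symm hk.2.1, hk.2.2.1, Ne.symm hk.2.2.1])
      have a0 : τ (pt 13) = pt 13 := hτm 0
      have a1 : τ (pt 18) = pt 18 := hτm 1
      have a2 : τ i = i := hτm 2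
      have a3 : τ (ρ i) = k := hτm 3
      have := hcomm τ ⟨⟨hτ, a0⟩, a1⟩ i
      rw [a2, a3] at this
      exact hk.2.2.2 this
    refine Equiv.ext fun i => ?_
    by_cases h13 : i = pt 13
    · subst h13
      rcases p1 with a | a
      · exact a
      · exfalso
        obtain ⟨c, hc, hc1, hc2⟩ := exists_sep hab
        have hρc : ρ • c ∈ codeSets := mem_codeSets_smul (hPi24 ρ ⟨n, hn, hnm⟩) hc
        have hsd := card_cases (codeSets_symmDiff hc hρc)
        have hsub : symmDiff c (ρ • c) ⊆ {pt 13, pt 18} := by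
          intro q hq
          by_contra hqm
          simp only [Finset.mem_insert, Finset.mem_singleton, not_or] at hqm
          have hiff : q ∈ ρ • c ↔ q ∈ c := by
            conv_lhs => rw [← hother q hqm.1 hqm.2]
            exact Finset.smul_mem_smul_finset_iff ρ
          rw [Finset.mem_symmDiff, hiff] at hq
          tauto
        have hle := (Finset.card_le_card hsub).trans Finset.card_le_two
        have h18 : pt 18 ∈ symmDiff c (ρ • c) := by
          rw [Finset.mem_symmDiff]
          left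
          refine ⟨hc2, fun h => hc1 ?_⟩
          rw [← a] at h
          exact (Finset.smul_mem_smul_finset_iff ρ).1 h
        have := Finset.card_pos.2 ⟨_, h18⟩
        omega
    · by_cases h18 : i = pt 18
      · subst h18
        rcases p2 with a | a
        · exfalso
          rcases p1 with b | b
          · exact hab (ρ.injective (b.trans a.symm))
          · obtain ⟨c, hc, hc1, hc2⟩ := exists_sep hab
            have hρc : ρ • c ∈ codeSets := mem_codeSets_smul (hPi24 ρ ⟨n, hn, hnm⟩) hc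
            have hsd := card_cases (codeSets_symmDiff hc hρc)
            have hsub : symmDiff c (ρ • c) ⊆ {pt 13, pt 18} := by
              intro q hq
              by_contra hqm
              simp only [Finset.mem_insert, Finset.mem_singleton, not_or] at hqm
              have hiff : q ∈ ρ • c ↔ q ∈ c := by
                conv_lhs => rw [← hother q hqm.1 hqm.2]
                exact Finset.smul_mem_smul_finset_iff ρ
              rw [Finset.mem_symmDiff, hiff] at hq
              tauto
            have hle := (Finset.card_le_card hsub).trans Finset.card_le_two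
            have h18 : pt 18 ∈ symmDiff c (ρ • c) := by
              rw [Finset.mem_symmDiff]
              left
              refine ⟨hc2, fun h => hc1 ?_⟩
              rw [← b] at h
              exact (Finset.smul_mem_smul_finset_iff ρ).1 h
            have := Finset.card_pos.2 ⟨_, h18⟩
            omega
        · exact a
      · exact hother i h13 h18
  -- elements of `N` are sign changes
  have hflip : ∀ n ∈ N, ∀ i, n • e8 i = e8 i ∨ n • e8 i = -e8 i := fun n hn i => by
    obtain ⟨ρ, h, -⟩ := hmoves n hn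
    have := h i
    rwa [hPi1 ρ ⟨n, hn, h⟩, Equiv.Perm.one_apply] at this
  have happ : ∀ n ∈ N, ∃ c : Finset GolayPt, c ∈ codeSets ∧ (∀ (x : ↥leechLattice) p,
      ((n • x : ↥leechLattice) : GolayPt → ℤ) p = if p ∈ c then -(x : GolayPt → ℤ) p else (x : GolayPt → ℤ) p) ∧
      (∀ p q, tid p = tid q → p ∈ c → q ∈ c) := by
    intro n hn
    obtain ⟨a, ha⟩ := stab_cases (g := n) (hNM hn).2
    have h1 : (a.2 : Equiv.Perm GolayPt) = 1 := by
      have := hPi1 _ ⟨n, hn, ha ▸ moves_mono a⟩
      exact inv_eq_one.1 this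
    have hv : ∀ (x : ↥leechLattice) p, ((n • x : ↥leechLattice) : GolayPt → ℤ) p =
        if p ∈ (a.1 : Finset GolayPt) then -(x : GolayPt → ℤ) p else (x : GolayPt → ℤ) p := fun x p => by
      rw [← ha]
      show (if (a.2 : Equiv.Perm GolayPt) p ∈ (a.1 : Finset GolayPt) then _ else _) = _
      rw [h1]; rfl
    refine ⟨a.1, mem_codeFinset.1 a.1.2, hv, fun p q hpq hp => ?_⟩
    have hxK : xiCo ∈ K := Subtype.ext (by rw [coe_xiCo]; exact uVec_facts.2.1)
    have hm := hnorm xiCo hxK n hn
    have hxi2 : xiCo⁻¹ = xiCo := by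
      refine inv_eq_of_mul_eq_one_right (co_ext fun i => ?_)
      rw [mul_smul, one_smul]
      exact Subtype.ext (xi_xi (e8 i).2)
    rw [hxi2] at hm
    have hnz : ∀ r s : GolayPt, tid r = tid s → xi (fun t => if t = r then (8 : ℤ) else 0) s ≠ 0 := by decide +kernel
    have hxe : ((xiCo • e8 p : ↥leechLattice) : GolayPt → ℤ) = xi fun t => if t = p then (8 : ℤ) else 0 := by
      rw [coe_xiCo, coe_e8]; congr 1; funext t; simp [Pi.single_apply]
    have hsq : ∀ v : ↥leechLattice, xiCo • xiCo • v = v := fun v => by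
      have := inv_smul_smul xiCo v
      rwa [hxi2] at this
    rcases hflip _ hm p with e | e
    · have e2 : n • xiCo • e8 p = xiCo • e8 p := by
        have := congrArg (fun t => xiCo • t) e
        simp only [mul_smul] at this
        rwa [hsq] at this
      have hc := congrArg (fun t : ↥leechLattice => (t : GolayPt → ℤ) p) e2
      simp only [hv, if_pos hp, hxe] at hc
      have := hnz p p rfl
      omega
    · have e2 : n • xiCo • e8 p = -(xiCo • e8 p) := by
        have := congrArg (fun t => xiCo • t) e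
        simp only [mul_smul] at this
        rw [hsq, smul_neg'] at this
        exact this
      by_contra hq
      have hc := congrArg (fun t : ↥leechLattice => (t : GolayPt → ℤ) q) e2
      simp only [AddSubgroup.coe_neg, Pi.neg_apply, hv, if_neg hq, hxe] at hc
      have := hnz p q hpq
      omega
  rw [Subgroup.eq_bot_iff_forall]
  intro n hn
  obtain ⟨c, hc, hv, -⟩ := happ n hn
  have hcu : pt 13 ∉ c ∧ pt 18 ∉ c := by
    have h0 : n • uVec = uVec := hN hn
    refine ⟨fun h => ?_, fun h => ?_⟩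
    · have := congrArg (fun t : ↥leechLattice => (t : GolayPt → ℤ) (pt 13)) h0
      simp only [hv, if_pos h, uVec_apply] at this
      simp at this
    · have := congrArg (fun t : ↥leechLattice => (t : GolayPt → ℤ) (pt 18)) h0
      simp only [hv, if_pos h, uVec_apply, if_neg hab.symm] at this
      simp at this
  by_cases hce : c = ∅
  · subst hce
    refine co_ext fun i => Subtype.ext (funext fun p => ?_)
    rw [hv, one_smul, if_neg (Finset.notMem_empty p)]
  exfalso
  obtain ⟨p, hp⟩ := Finset.nonempty_iff_ne_empty.2 hce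
  obtain ⟨q, hq, hq13, hq18⟩ : ∃ q, q ∉ c ∧ q ≠ pt 13 ∧ q ≠ pt 18 := by
    by_contra h
    push Not at h
    have hsub : (Finset.univ : Finset GolayPt) \ {pt 13, pt 18} ⊆ c := fun q hq => by
      simp only [Finset.mem_sdiff, Finset.mem_univ, true_and, Finset.mem_insert, Finset.mem_singleton, not_or] at hq
      by_contra hqc
      exact hq.2 (h q hqc hq.1)
    have h22 := Finset.card_le_card hsub
    rw [Finset.card_sdiff, Finset.inter_univ, Finset.card_univ, show Fintype.card GolayPt = 24 from rfl, Finset.card_pair hab] at h22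
    have h23 : c.card ≤ 22 := by
      have hs : c ⊆ (Finset.univ : Finset GolayPt) \ {pt 13, pt 18} := fun q hq => by
        simp only [Finset.mem_sdiff, Finset.mem_univ, true_and, Finset.mem_insert, Finset.mem_singleton, not_or]
        exact ⟨fun e => hcu.1 (e ▸ hq), fun e => hcu.2 (e ▸ hq)⟩
      refine (Finset.card_le_card hs).trans ?_
      rw [Finset.card_sdiff, Finset.inter_univ, Finset.card_univ, show Fintype.card GolayPt = 24 from rfl, Finset.card_pair hab]
    have := card_cases hc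
    omega
  obtain ⟨-, -, -, x, y, hxy, htid, hx1, hx2, hy1, hy2⟩ := uVec_facts
  have hp13 : p ≠ pt 13 := fun e => hcu.1 (e ▸ hp)
  have hp18 : p ≠ pt 18 := fun e => hcu.2 (e ▸ hp)
  have hpq : p ≠ q := fun e => hq (e ▸ hp)
  obtain ⟨σ, hσ, hσm⟩ := exists_M24_map (k := 4) (by norm_num) ![pt 13, pt 18, x, y] ![pt 13, pt 18, p, q]
    (by intro a b; fin_cases a <;> fin_cases b <;>
          simp [hab, Ne.symm hab, hxy, Ne.symm hxy, hx1, Ne.symm hx1, hx2, Ne.symm hx2, hy1, Ne.symm hy1, hy2, Ne.symm hy2])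
    (by intro a b; fin_cases a <;> fin_cases b <;>
          simp [hab, Ne.symm hab, hpq, Ne.symm hpq, hp13, Ne.symm hp13, hp18, Ne.symm hp18, hq13, Ne.symm hq13, hq18, Ne.symm hq18])
  have a0 : σ (pt 13) = pt 13 := hσm 0
  have a1 : σ (pt 18) = pt 18 := hσm 1
  have a2 : σ x = p := hσm 2
  have a3 : σ y = q := hσm 3
  have htK : permCo σ hσ ∈ K := by
    refine Subtype.ext (funext fun r => ?_)
    show (uVec : GolayPt → ℤ) (σ r) = _
    rw [uVec_apply, uVec_apply]
    simp only [← σ.injective.eq_iff (a := r), a0, a1]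
  obtain ⟨d, -, hd, hdt⟩ := happ _ (hnorm _ htK n hn)
  have hval : ∀ r, (r ∈ d ↔ σ r ∈ c) := by
    intro r
    have h := hd (e8 r) r
    rw [mul_smul, mul_smul] at h
    have hinv : (permCo σ hσ)⁻¹ • e8 r = e8 (σ r) := by
      rw [inv_smul_eq_iff, perm_e8, Equiv.symm_apply_apply]
    rw [hinv, coe_permCo] at h
    beta_reduce at h
    rw [hv] at h
    simp only [coe_e8, Pi.single_eq_same] at h
    split_ifs at h with h1 h2 h2 <;> simp_all
  have hxd : x ∈ d := (hval x).2 (a2.symm ▸ hp)
  exact hq (a3 ▸ (hval y).1 (hdt x y htid hxd))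

end Cfsg.Agent.Lib.Leech
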