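import Cfsg.Agent.Lib.Leech.Irreducible

/-! # Invariant functionals on the lattice modulo two -/

set_option autoImplicit false

namespace Cfsg.Agent.Lib.Leech

open Cfsg Golay
open scoped Pointwise

theorem codeSet_of_isCode {m : ℕ} (h : isCode m = true) : toSet m ∈ codeSets := mem_codeSets.2 ⟨m, h, rfl⟩

theorem f_flip : (fun p : GolayPt => if p ∈ toSet 0xc75001 then 2 * frame none (pt 1) p else 0) = frame none none := by
  simp only [mem_toSet]; decide +kernel

theorem odd_flip : (fun p : GolayPt => if p ∈ toSet 0x49f002 then 2 * oddVec p else 0) = twoW 0x49f002 := by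
  simp only [mem_toSet]; decide +kernel

theorem oct_flip : (fun p : GolayPt => if p ∈ toSet 0x3da100 then 2 * twoW 0xc75001 p else 0) = frame (pt 16) (pt 18) := by
  simp only [mem_toSet]; decide +kernel

/-- A functional invariant under the monomial group kills all even vectors. -/
theorem even_eq_zero (L : ↥leechLattice →+ ZMod 2)
    (hflip : ∀ c (hc : c ∈ codeSets) (v : ↥leechLattice), L (flipCo c hc • v) = L v)
    (hperm : ∀ σ (hσ : σ ∈ M24) (v : ↥leechLattice), L (permCo σ hσ • v) = L v) :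
    ∀ v : ↥leechLattice, (∀ i, (2 : ℤ) ∣ (v : GolayPt → ℤ) i) → L v = 0 := by
  let H : AddSubgroup (GolayPt → ℤ) := L.ker.map leechLattice.subtype
  have hHmem : ∀ x, x ∈ H ↔ ∃ h : x ∈ leechLattice, L ⟨x, h⟩ = 0 := fun x =>
    ⟨fun ⟨v, hv, e⟩ => e ▸ ⟨v.2, hv⟩, fun ⟨h, e⟩ => ⟨⟨x, h⟩, e, rfl⟩⟩
  have hd : ∀ m : ℕ, isCode m = true → ∀ x ∈ leechLattice, (fun p => if p ∈ toSet m then 2 * x p else 0) ∈ H := by
    intro m hm x hx
    refine ⟨⟨x, hx⟩ - flipCo (toSet m) (codeSet_of_isCode hm) • ⟨x, hx⟩, ?_, ?_⟩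
    · rw [SetLike.mem_coe, AddMonoidHom.mem_ker, map_sub, hflip, sub_self]
    · funext p
      show x p - (if p ∈ toSet m then -x p else x p) = _
      split_ifs <;> ring
  have hp : ∀ σ (_ : σ ∈ M24), ∀ x ∈ H, (fun p => x (σ p)) ∈ H := by
    rintro σ hσ _ ⟨v, hv, rfl⟩
    exact ⟨permCo σ hσ • v, by rw [SetLike.mem_coe, AddMonoidHom.mem_ker, hperm]; exact hv, rfl⟩
  have hf : frame none none ∈ H := f_flip ▸ hd _ (by decide +kernel) _ (frame_mem none (pt 1))
  have h1618 : frame (pt 16) (pt 18) ∈ H := oct_flip ▸ hd _ (by decide +kernel) _ (twoW_mem _ (by decide))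
  have hfr : ∀ i, frame i none ∈ H := by
    intro i
    by_cases hi : i = none
    · rw [hi]; exact hf
    obtain ⟨σ, hσ, ea, eb⟩ := M24_trans_pairs hi (show pt 16 ≠ pt 18 by decide)
    convert hp σ hσ _ h1618 using 1
    funext p
    simp only [frame, ← ea, ← eb, σ.injective.eq_iff]
  have hB0 : twoW 0x49f002 ∈ H := odd_flip ▸ hd _ (by decide +kernel) _ oddVec_mem
  have hbas : ∀ B ∈ basis, twoW B ∈ H := by
    intro B hB
    have hb := List.all_eq_true.1 basis_oct B hB
    simp only [Bool.and_eq_true, beq_iff_eq] at hb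
    obtain ⟨σ, hσ, e⟩ := M24_trans_octads (o := toSet B) (o' := toSet 0x49f002)
      ⟨codeSet_of_isCode hb.1, by rw [card_toSet]; exact hb.2⟩
      ⟨codeSet_of_isCode (by decide +kernel), by rw [card_toSet]; decide +kernel⟩
    convert hp σ hσ _ hB0 using 1
    funext p
    have hps : σ p ∈ toSet 0x49f002 ↔ p ∈ toSet B := by
      rw [← e, ← Equiv.Perm.smul_def, Finset.smul_mem_smul_finset_iff]
    simp only [mem_toSet] at hps
    simp only [twoW, hps]
  intro v hv
  obtain ⟨_, h⟩ := (hHmem _).1 (even_le hbas hfr v.2 hv)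
  exact h

theorem functional_eq (L : ↥leechLattice →+ ZMod 2)
    (hflip : ∀ c (hc : c ∈ codeSets) (v : ↥leechLattice), L (flipCo c hc • v) = L v)
    (hperm : ∀ σ (hσ : σ ∈ M24) (v : ↥leechLattice), L (permCo σ hσ • v) = L v) (v : ↥leechLattice) :
    L v = L ⟨oddVec, oddVec_mem⟩ * (((v : GolayPt → ℤ) none : ℤ) : ZMod 2) := by
  obtain ⟨m, y, -, hy, -⟩ := mem_iff.1 v.2
  have h := even_eq_zero L hflip hperm (v - m • ⟨oddVec, oddVec_mem⟩) fun i => by
    simp only [AddSubgroup.coe_sub, AddSubgroup.coe_zsmul, Pi.sub_apply, Pi.smul_apply, smul_eq_mul, hy, oddVec]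
    split_ifs <;> omega
  rw [map_sub, map_zsmul, sub_eq_zero] at h
  rw [h, hy, zsmul_eq_mul, Int.cast_add, Int.cast_mul]
  rw [show ((2 : ℤ) : ZMod 2) = 0 from rfl, zero_mul, add_zero, mul_comm]

end Cfsg.Agent.Lib.Leech
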