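import Cfsg.Agent.Lib.Leech.Census
import Cfsg.Agent.Lib.Leech.Functional
import Cfsg.Agent.Lib.Golay.Octads

/-!
Counting short lattice vectors by their inner product with a fixed vector.
-/

set_option autoImplicit false

namespace Cfsg.Agent.Lib.Leech

open Cfsg Golay Finset

/-- A state: square sum, sum, inner product. -/
abbrev St : Type := ℤ × ℤ × ℤ

/-- Sum of states. -/
def sadd (d e : St) : St := (d.1 + e.1, d.2.1 + e.2.1, d.2.2 + e.2.2)

theorem sadd_left_comm (a b c : St) : sadd a (sadd b c) = sadd b (sadd a c) := by
  simp only [sadd, add_left_comm]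

/-- Number of choices whose total satisfies a predicate. -/
def cw : List (List St) → (St → Bool) → ℕ
  | [], q => if q (0, 0, 0) then 1 else 0
  | l :: ls, q => (l.map fun d => cw ls fun s => q (sadd d s)).sum

theorem sum_comm_list {α β : Type*} (l : List α) (m : List β) (F : α → β → ℕ) :
    (l.map fun a => (m.map fun b => F a b).sum).sum = (m.map fun b => (l.map fun a => F a b).sum).sum := by
  induction l with
  | nil => simp
  | cons a l ih => simp [ih, List.sum_map_add]

theorem cw_perm {L M : List (List St)} (h : L.Perm M) : ∀ q, cw L q = cw M q := by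
  induction h with
  | nil => intro q; rfl
  | cons a _ ih => intro q; simp only [cw, ih]
  | swap a b l =>
    intro q
    simp only [cw]
    rw [sum_comm_list]
    simp only [sadd_left_comm]
  | trans _ _ i1 i2 => intro q; rw [i1, i2]

/-- The coefficient of a table. -/
def coefW (t : List (St × ℕ)) (q : St → Bool) : ℕ := (t.map fun e => if q e.1 then e.2 else 0).sum

/-- Comparison of states. -/
def slt (a b : St) : Bool :=
  decide (a.1 < b.1) || (decide (a.1 = b.1) && (decide (a.2.1 < b.2.1) || (decide (a.2.1 = b.2.1) && decide (a.2.2 < b.2.2))))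

/-- Merging of tables, with fuel. -/
def mrgF : ℕ → List (St × ℕ) → List (St × ℕ) → List (St × ℕ)
  | 0, as, bs => as ++ bs
  | _ + 1, [], bs => bs
  | _ + 1, a :: as, [] => a :: as
  | n + 1, a :: as, b :: bs =>
    if slt a.1 b.1 then a :: mrgF n as (b :: bs)
    else if a.1 == b.1 then (a.1, a.2 + b.2) :: mrgF n as bs
    else b :: mrgF n (a :: as) bs

/-- Merging of tables. -/
def mrg (as bs : List (St × ℕ)) : List (St × ℕ) := mrgF (as.length + bs.length) as bs

theorem coef_mrgF (q : St → Bool) : ∀ (n : ℕ) (as bs : List (St × ℕ)),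
    coefW (mrgF n as bs) q = coefW as q + coefW bs q
  | 0, as, bs => by simp [mrgF, coefW]
  | n + 1, [], bs => by simp [mrgF, coefW]
  | n + 1, a :: as, [] => by simp [mrgF, coefW]
  | n + 1, a :: as, b :: bs => by
    simp only [mrgF]
    split_ifs with h1 h2
    · have := coef_mrgF q n as (b :: bs)
      simp only [coefW, List.map_cons, List.sum_cons] at this ⊢
      omega
    · have := coef_mrgF q n as bs
      have e : a.1 = b.1 := by simpa using h2
      simp only [coefW, List.map_cons, List.sum_cons, e] at this ⊢
      split_ifs at this ⊢ <;> omega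
    · have := coef_mrgF q n (a :: as) bs
      simp only [coefW, List.map_cons, List.sum_cons] at this ⊢
      omega

theorem coef_mrg (as bs : List (St × ℕ)) (q : St → Bool) : coefW (mrg as bs) q = coefW as q + coefW bs q :=
  coef_mrgF q _ as bs

/-- One coordinate added to a table. -/
def shiftW (B : ℤ) (d : St) (t : List (St × ℕ)) : List (St × ℕ) :=
  (t.filter fun e => decide (e.1.1 + d.1 ≤ B)).map fun e => (sadd d e.1, e.2)

/-- The table of a list of coordinates. -/
def tabW (B : ℤ) : List (List St) → List (St × ℕ)
  | [] => [((0, 0, 0), 1)]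
  | l :: ls => let t := tabW B ls; l.foldr (fun d acc => mrg (shiftW B d t) acc) []

theorem coef_shiftW (B : ℤ) (d : St) (t : List (St × ℕ)) (q : St → Bool) (hq : ∀ s, q s = true → s.1 ≤ B) :
    coefW (shiftW B d t) q = coefW t fun s => q (sadd d s) := by
  induction t with
  | nil => rfl
  | cons e t ih =>
    simp only [coefW, shiftW] at ih ⊢
    by_cases h : e.1.1 + d.1 ≤ B
    · rw [List.filter_cons_of_pos (by simpa using h)]
      simp only [List.map_cons, List.sum_cons, ih]
    · rw [List.filter_cons_of_neg (by simpa using h)]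
      simp only [List.map_cons, List.sum_cons, ih]
      rw [if_neg]
      · omega
      · intro hs
        have := hq _ hs
        simp only [sadd] at this
        omega

theorem coef_tabW (B : ℤ) : ∀ (ls : List (List St)), (∀ l ∈ ls, ∀ d ∈ l, (0 : ℤ) ≤ d.1) → ∀ q : St → Bool,
    (∀ s, q s = true → s.1 ≤ B) → coefW (tabW B ls) q = cw ls q
  | [], _, q, _ => by simp [tabW, coefW, cw]
  | l :: ls, hpos, q, hq => by
    rw [tabW, cw]
    have hl := hpos l (by simp)

    induction l with
    | nil => rfl
    | cons d l ih =>
      rw [List.foldr_cons, coef_mrg, List.map_cons, List.sum_cons,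
        ih (fun m hm => by
          rcases List.mem_cons.1 hm with rfl | hm
          · exact fun e he => hl e (List.mem_cons_of_mem _ he)
          · exact hpos m (List.mem_cons_of_mem _ hm)) (fun e he => hl e (List.mem_cons_of_mem _ he)),
        coef_shiftW B d _ q hq,
        coef_tabW B ls (fun m hm => hpos m (List.mem_cons_of_mem _ hm)) _ (fun s hs => by
          have := hq _ hs
          have := hl d (by simp)
          simp only [sadd] at *
          omega)]

/-- The predicate of a count. -/
def target (N r k : ℤ) : St → Bool := fun s => decide (s.1 = N) && decide ((r - s.2.1) % 8 = 0) && decide (s.2.2 = k)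

/-- The states of a coordinate. -/
def states (w : ℤ) (l : List ℤ) : List St := l.map fun v => (v ^ 2, v, w * v)

/-- The vectors counted. -/
def vecsW {n : ℕ} (f : Fin n → List ℤ) (w : Fin n → ℤ) (q : St → Bool) : Finset (Fin n → ℤ) :=
  (Fintype.piFinset fun i => (f i).toFinset).filter fun x => q (∑ i, x i ^ 2, ∑ i, x i, ∑ i, w i * x i) = true

theorem card_vecsW : ∀ {n : ℕ} (f : Fin n → List ℤ) (w : Fin n → ℤ), (∀ i, (f i).Nodup) → ∀ q,
    (vecsW f w q).card = cw (List.ofFn fun i => states (w i) (f i)) q
  | 0, f, w, _, q => by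
    rw [List.ofFn_zero, cw, vecsW, card_filter, sum_eq_single (fun i => Fin.elim0 i)]
    · simp
    · exact fun b _ hb => absurd (funext fun i => Fin.elim0 i) hb
    · intro h; exact absurd (Fintype.mem_piFinset.2 fun i => Fin.elim0 i) h
  | n + 1, f, w, hf, q => by
    rw [List.ofFn_succ, cw, states, List.map_map, ← List.sum_toFinset _ (hf 0),
      card_eq_sum_card_fiberwise (s := vecsW f w q) (f := fun x => x 0) (t := (f 0).toFinset)
        (fun x hx => Fintype.mem_piFinset.1 (mem_filter.1 hx).1 0)]
    refine sum_congr rfl fun v hv => ?_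
    simp only [Function.comp]
    refine Eq.trans ?_ (card_vecsW (fun i => f i.succ) (fun i => w i.succ) (fun i => hf _) _)
    refine card_bij' (fun x _ => Fin.tail x) (fun y _ => Fin.cons v y) ?_ ?_ ?_ ?_
    · intro x hx
      simp only [vecsW, mem_filter, Fintype.mem_piFinset] at hx ⊢
      obtain ⟨⟨h1, h2⟩, h4⟩ := hx
      rw [Fin.sum_univ_succ, Fin.sum_univ_succ, Fin.sum_univ_succ, h4] at h2
      exact ⟨fun i => h1 i.succ, h2⟩
    · intro y hy
      simp only [vecsW, mem_filter, Fintype.mem_piFinset] at hy ⊢
      obtain ⟨h1, h2⟩ := hy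
      refine ⟨⟨fun i => ?_, ?_⟩, Fin.cons_zero _ _⟩
      · exact Fin.cases (by simpa using hv) (fun j => by simpa using h1 j) i
      · rw [Fin.sum_univ_succ, Fin.sum_univ_succ, Fin.sum_univ_succ]
        simp only [Fin.cons_zero, Fin.cons_succ]
        exact h2
    · intro x hx
      rw [← (mem_filter.1 hx).2]
      exact Fin.cons_self_tail x
    · intro y _
      exact Fin.tail_cons _ _

/-- A point by its index. -/
def pEquiv : Fin 24 ≃ GolayPt where
  toFun i := pt i
  invFun p := ⟨ix p, ix_lt p⟩
  left_inv i := Fin.ext (ix_pt i.2)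
  right_inv p := pt_ix p

/-- The lattice vectors of a parity and a code word with prescribed norm and inner product. -/
def pieceW (wt : GolayPt → ℤ) (N k : ℤ) (m : Bool) (c : Finset GolayPt) : Finset (GolayPt → ℤ) :=
  (Fintype.piFinset fun i => (vals m (decide (i ∈ c))).toFinset).filter fun x =>
    ∑ i, x i ^ 2 = N ∧ ((if m then 4 else 0) - ∑ i, x i) % 8 = 0 ∧ ∑ i, wt i * x i = k

/-- The class of an index. -/
def cls24 (wt : GolayPt → ℤ) (c : ℕ) : List (ℤ × Bool) := idx.map fun i => (wt (pt i), c.testBit i)

/-- The class counts of a code word. -/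
def prof (wt : GolayPt → ℤ) (cls : List (ℤ × Bool)) (c : ℕ) : List ℕ :=
  let L := cls24 wt c
  cls.map fun a => L.count a

/-- The coordinates of a profile. -/
def expand (m : Bool) (cls : List (ℤ × Bool)) (p : List ℕ) : List (List St) :=
  ((cls.zip p).map fun e => List.replicate e.2 (states e.1.1 (vals m e.1.2))).flatten

/-- The count of a profile. -/
def cntP (cls : List (ℤ × Bool)) (N k : ℤ) (p : List ℕ) : ℕ :=
  coefW (tabW N (expand false cls p)) (target N 0 k) + coefW (tabW N (expand true cls p)) (target N 4 k)

theorem card_pieceW (wt : GolayPt → ℤ) (N k : ℤ) (m : Bool) (c : ℕ) :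
    (pieceW wt N k m (toSet c)).card =
      cw ((cls24 wt c).map fun a => states a.1 (vals m a.2)) (target N (if m then 4 else 0) k) := by
  have hlist : ((cls24 wt c).map fun a => states a.1 (vals m a.2)) =
      List.ofFn fun i : Fin 24 => states (wt (pEquiv i)) (vals m (decide (pEquiv i ∈ toSet c))) := by
    refine List.ext_getElem (by simp [cls24, idx]) fun i h1 h2 => ?_
    simp only [List.length_map, cls24] at h1
    have hi : idx[i]'(by simpa using h1) = i := by
      have : i < 24 := by simpa [idx] using h1
      interval_cases i <;> rfl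
    simp only [cls24, List.getElem_map, List.getElem_ofFn, hi, pEquiv, Equiv.coe_fn_mk, mem_toSet,
      ix_pt (show i < 24 by simpa [idx] using h1), Bool.decide_eq_true]
  rw [hlist, ← card_vecsW _ _ (fun i => vals_nodup _ _)]
  refine card_bij' (fun x _ => fun i => x (pEquiv i)) (fun y _ => fun p => y (pEquiv.symm p)) ?_ ?_ ?_ ?_
  · intro x hx
    simp only [pieceW, vecsW, mem_filter, Fintype.mem_piFinset] at hx ⊢
    refine ⟨fun i => hx.1 _, ?_⟩
    rw [Equiv.sum_comp pEquiv fun p => x p ^ 2, Equiv.sum_comp pEquiv x, Equiv.sum_comp pEquiv fun p => wt p * x p]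
    simp only [target, Bool.and_eq_true, decide_eq_true_eq]
    exact ⟨⟨hx.2.1, hx.2.2.1⟩, hx.2.2.2⟩
  · intro y hy
    simp only [pieceW, vecsW, mem_filter, Fintype.mem_piFinset] at hy ⊢
    have h2 := hy.2
    simp only [target, Bool.and_eq_true, decide_eq_true_eq] at h2
    refine ⟨fun p => ?_, ?_, ?_, ?_⟩
    · have := hy.1 (pEquiv.symm p)
      rwa [pEquiv.apply_symm_apply] at this
    · rw [Equiv.sum_comp pEquiv.symm fun i => y i ^ 2]; exact h2.1.1
    · rw [Equiv.sum_comp pEquiv.symm y]; exact h2.1.2
    · rw [← Equiv.sum_comp pEquiv fun p => wt p * y (pEquiv.symm p)]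
      simpa using h2.2
  · intro x _; funext p; simp
  · intro y _; funext i; simp

theorem cls_perm {L : List (ℤ × Bool)} {cls : List (ℤ × Bool)} (hnd : cls.Nodup) (hmem : ∀ a ∈ L, a ∈ cls) :
    L.Perm ((cls.map fun a => List.replicate (L.count a) a).flatten) := by
  rw [List.perm_iff_count]
  intro a
  induction cls generalizing L with
  | nil =>
    rw [List.count_eq_zero.2 fun h => absurd (hmem a h) (List.not_mem_nil), List.map_nil, List.flatten_nil, List.count_nil]
  | cons b cls ih =>
    obtain ⟨hb, hnd'⟩ := List.nodup_cons.1 hnd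
    rw [List.map_cons, List.flatten_cons, List.count_append, List.count_replicate]
    by_cases hab : b = a
    · subst hab
      rw [if_pos (beq_self_eq_true _), (List.count_eq_zero (l := (cls.map _).flatten)).2]
      · omega
      · intro h
        simp only [List.mem_flatten, List.mem_map] at h
        obtain ⟨_, ⟨e, he, rfl⟩, hr⟩ := h
        exact hb ((List.eq_of_mem_replicate hr) ▸ he)
    · rw [if_neg (by simpa using hab), Nat.zero_add]
      have h2 := ih (L := L.filter fun e => !(e == b)) hnd' fun e he => by
        rw [List.mem_filter] at he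
        rcases List.mem_cons.1 (hmem e he.1) with h | h
        · simp [h] at he
        · exact h
      have e1 : ∀ e, e ≠ b → (L.filter fun e => !(e == b)).count e = L.count e := fun e he =>
        List.count_filter (by simpa using he)
      rw [e1 a (Ne.symm hab)] at h2
      rw [h2]
      congr 2
      refine List.map_congr_left fun e he => ?_
      rw [e1 e fun h => hb (h ▸ he)]

theorem expand_eq (m : Bool) (cls : List (ℤ × Bool)) (L : List (ℤ × Bool)) :
    ((cls.map fun a => List.replicate (L.count a) a).flatten).map (fun a => states a.1 (vals m a.2)) =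
      expand m cls (cls.map fun a => L.count a) := by
  induction cls with
  | nil => rfl
  | cons a cls ih =>
    simp only [expand] at ih
    simp [expand, ← ih, List.map_replicate]

/-- Grouping of equal profiles. -/
def addP (p : List ℕ) : List (List ℕ × ℕ) → List (List ℕ × ℕ)
  | [] => [(p, 1)]
  | e :: t => if e.1 == p then (e.1, e.2 + 1) :: t else e :: addP p t

/-- Total of a grouped list. -/
def wsum (F : List ℕ → ℕ) (t : List (List ℕ × ℕ)) : ℕ := (t.map fun e => e.2 * F e.1).sum

theorem wsum_addP (F : List ℕ → ℕ) (p : List ℕ) : ∀ t, wsum F (addP p t) = wsum F t + F p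
  | [] => by simp [wsum, addP]
  | e :: t => by
    have ih := wsum_addP F p t
    simp only [addP, wsum] at ih ⊢
    split_ifs with h
    · obtain rfl : e.1 = p := by simpa using h
      simp only [List.map_cons, List.sum_cons, Nat.add_mul]
      omega
    · simp only [List.map_cons, List.sum_cons, ih]
      omega

theorem wsum_group (F : List ℕ → ℕ) : ∀ L : List (List ℕ), wsum F (L.foldr addP []) = (L.map F).sum
  | [] => rfl
  | p :: L => by rw [List.foldr_cons, wsum_addP, wsum_group F L, List.map_cons, List.sum_cons]; omega

/-- The grouped profiles of the code words. -/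
def table (wt : GolayPt → ℤ) (cls : List (ℤ × Bool)) : List (List ℕ × ℕ) :=
  (codeList.map (prof wt cls)).foldr addP []

/-- The check of a class list. -/
def clsOK (wt : GolayPt → ℤ) (cls : List (ℤ × Bool)) : Bool :=
  idx.all fun i => cls.contains (wt (pt i), true) && cls.contains (wt (pt i), false)

theorem table_sum (F : List ℕ → ℕ) (wt : GolayPt → ℤ) (cls : List (ℤ × Bool)) :
    wsum F (table wt cls) = (codeList.map fun c => F (prof wt cls c)).sum := by
  rw [show table wt cls = (codeList.map (prof wt cls)).foldr addP [] from rfl, wsum_group, List.map_map]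
  rfl

theorem code_sum (F : Finset GolayPt → ℕ) : ∑ c ∈ codeFinset, F c = (codeList.map fun m => F (toSet m)).sum := by
  have hinj : ∀ a ∈ codeList, ∀ b ∈ codeList, toSet a = toSet b → a = b := fun a ha b hb h =>
    eq_of_toSet_eq (lt_of_isCode (mem_codeList.1 ha)) (lt_of_isCode (mem_codeList.1 hb)) h
  have hnd : codeList.Nodup := by
    refine List.Nodup.map_on (fun a ha b hb h => ?_) List.nodup_range
    rw [← enc_mod a (List.mem_range.1 ha), h, enc_mod b (List.mem_range.1 hb)]
  have hset : codeFinset = (codeList.map toSet).toFinset := by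
    ext c
    simp only [mem_codeFinset, List.mem_toFinset, List.mem_map, mem_codeList]
    rw [mem_codeSets]
  rw [hset, List.sum_toFinset _ (List.Nodup.map_on hinj hnd), List.map_map]
  rfl

/-- The count of short lattice vectors with a prescribed inner product. -/
theorem census_dot (wt : GolayPt → ℤ) (N k : ℤ) (hN : N ≤ 64) (cls : List (ℤ × Bool)) (hnd : cls.Nodup)
    (hcls : clsOK wt cls = true) :
    {x : GolayPt → ℤ | x ∈ leechLattice ∧ sqNorm x = N ∧ dotInt wt x = k}.ncard = wsum (cntP cls N k) (table wt cls) := by
  classical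
  set S := ((univ : Finset Bool) ×ˢ codeFinset).biUnion fun a => pieceW wt N k a.1 a.2 with hS
  have hset : {x : GolayPt → ℤ | x ∈ leechLattice ∧ sqNorm x = N ∧ dotInt wt x = k} = (S : Set (GolayPt → ℤ)) := by
    ext x
    simp only [Set.mem_setOf_eq, hS, coe_biUnion, Set.mem_iUnion, mem_coe, mem_product, mem_univ, true_and,
      pieceW, mem_filter, Fintype.mem_piFinset, List.mem_toFinset, exists_prop]
    constructor
    · rintro ⟨hx, hn, hk⟩
      obtain ⟨m, y, hm, hy, hs, hw⟩ := mem_iff.1 hx
      refine ⟨(decide (m = 1), support₂ fun i => (y i : ZMod 2)), mem_codeFinset.2 (support_mem hw), fun i => ?_, hn, ?_, hk⟩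
      · have hle : x i ^ 2 ≤ 64 := (single_le_sum (fun j _ => sq_nonneg (x j)) (mem_univ i)).trans (hn.le.trans hN)
        rw [val_spec _ hle, hy i]
        simp only [support_cast, mem_filter, mem_univ, true_and, decide_eq_true_eq]
        rcases hm with rfl | rfl <;> split_ifs <;> omega
      · rcases hm with rfl | rfl <;>
          simp only [zero_ne_one, decide_false, decide_true, Bool.false_eq_true, if_true, if_false] <;> omega
    · rintro ⟨⟨m, c⟩, hc, hv, hn, hs, hk⟩
      have hmem : ∀ i, x i % 4 = (if m then 1 else 0) + (if i ∈ c then 2 else 0) := fun i => by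
        have hle : x i ^ 2 ≤ 64 := (single_le_sum (fun j _ => sq_nonneg (x j)) (mem_univ i)).trans (hn.le.trans hN)
        have := (val_spec _ hle _ _).1 (hv i)
        simpa using this
      refine ⟨mem_iff.2 ⟨if m then 1 else 0, fun i => (x i - if m then 1 else 0) / 2, by cases m <;> simp, fun i => ?_, ?_, ?_⟩,
        hn, hk⟩
      · have := hmem i
        show x i = _ + 2 * ((x i - _) / 2)
        cases m <;> split_ifs at this ⊢ <;> simp at * <;> omega
      · cases m <;> simp at hs ⊢ <;> omega
      · convert ind_mem (mem_codeFinset.1 hc) using 1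
        funext i
        have := hmem i
        by_cases hi : i ∈ c
        · rw [if_pos hi]
          refine ((ZMod.intCast_eq_intCast_iff' _ 1 2).2 ?_).trans Int.cast_one
          cases m <;> simp [hi] at this ⊢ <;> omega
        · rw [if_neg hi, ZMod.intCast_zmod_eq_zero_iff_dvd]
          cases m <;> simp [hi] at this ⊢ <;> omega
  rw [hset, Set.ncard_coe_finset, hS, card_biUnion, sum_product, Fintype.sum_bool]
  · refine (sum_add_distrib.symm.trans (code_sum _)).trans (Eq.trans ?_ (table_sum _ _ _).symm)
    refine congrArg List.sum (List.map_congr_left fun c hc => ?_)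
    have hmem : ∀ a ∈ cls24 wt c, a ∈ cls := by
      intro a ha
      obtain ⟨i, hi, rfl⟩ := List.mem_map.1 ha
      have := List.all_eq_true.1 hcls i hi
      simp only [Bool.and_eq_true, List.contains_iff_mem] at this
      cases c.testBit i
      · exact this.2
      · exact this.1
    have key : ∀ m : Bool, (pieceW wt N k m (toSet c)).card =
        coefW (tabW N (expand m cls (prof wt cls c))) (target N (if m then 4 else 0) k) := fun m => by
      rw [card_pieceW, cw_perm ((cls_perm hnd hmem).map fun a => states a.1 (vals m a.2)), expand_eq, coef_tabW]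
      · rfl
      · intro l hl d hd
        simp only [expand, List.mem_flatten, List.mem_map] at hl
        obtain ⟨_, ⟨e, -, rfl⟩, hr⟩ := hl
        rw [List.eq_of_mem_replicate hr, states, List.mem_map] at hd
        obtain ⟨v, -, rfl⟩ := hd
        exact sq_nonneg v
      · intro s hs
        simp only [target, Bool.and_eq_true, decide_eq_true_eq] at hs
        exact hs.1.1.le
    rw [key, key]
    simp only [Function.comp, cntP, Bool.false_eq_true, if_true, if_false]
    omega
  · rintro ⟨m, c⟩ - ⟨m', c'⟩ - hne
    refine disjoint_left.2 fun x hx hx' => hne ?_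
    simp only [pieceW, mem_filter, Fintype.mem_piFinset, List.mem_toFinset] at hx hx'
    have hle : ∀ i, x i ^ 2 ≤ 64 := fun i =>
      (single_le_sum (fun j _ => sq_nonneg (x j)) (mem_univ i)).trans (hx.2.1.le.trans hN)
    have h1 : ∀ i, x i % 4 = _ := fun i => (val_spec _ (hle i) _ _).1 (hx.1 i)
    have h2 : ∀ i, x i % 4 = _ := fun i => (val_spec _ (hle i) _ _).1 (hx'.1 i)
    have hm : m = m' := by
      have := (h1 none).symm.trans (h2 none)
      cases m <;> cases m' <;> simp at this ⊢ <;> split_ifs at this <;> omega
    refine Prod.ext hm (Finset.ext fun i => ?_)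
    have := (h1 i).symm.trans (h2 i)
    subst hm
    by_cases a : i ∈ c <;> by_cases b : i ∈ c' <;> simp [a, b] at this ⊢ <;> omega

end Cfsg.Agent.Lib.Leech
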