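import Cfsg.Agent.Lib.Leech.Sextet
import Cfsg.Agent.Lib.Golay.Action

/-! # The lattice modulo two is irreducible under its isometry group -/

set_option autoImplicit false

namespace Cfsg.Agent.Lib.Leech

open Cfsg Golay
open scoped Pointwise

theorem code_dual (w : GolayPt → ZMod 2) (h : ∀ c ∈ golayCode, ∑ i, w i * c i = 0) : w ∈ golayCode := by
  let B : LinearMap.BilinForm (ZMod 2) (GolayPt → ZMod 2) :=
    Matrix.toBilin' (1 : Matrix GolayPt GolayPt (ZMod 2))
  have hB : ∀ u v : GolayPt → ZMod 2, B u v = ∑ i, u i * v i := fun u v => by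
    simp [B, Matrix.toBilin'_apply', dotProduct]
  have hnd : B.Nondegenerate := Matrix.Nondegenerate.toBilin' (Matrix.nondegenerate_of_det_ne_zero (by simp))
  have hself : ∀ u ∈ golayCode, ∀ v ∈ golayCode, ∑ i, u i * v i = 0 := fun u hu v hv => by
    have h2 := inter_even (support_mem hu) (support_mem hv)
    rw [Finset.sum_congr rfl (g := fun i => if i ∈ support₂ u ∩ support₂ v then (1 : ZMod 2) else 0) fun i _ => by
      simp only [support₂, Finset.mem_inter, Finset.mem_filter, Finset.mem_univ, true_and]
      exact (by decide : ∀ a b : ZMod 2, a * b = if a ≠ 0 ∧ b ≠ 0 then 1 else 0) _ _,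
      Finset.sum_boole, Finset.filter_mem_eq_inter, Finset.univ_inter, ZMod.natCast_eq_zero_iff_even,
      even_iff_two_dvd]
    exact h2
  have hle : golayCode ≤ B.orthogonal golayCode := fun u hu => by
    rw [LinearMap.BilinForm.mem_orthogonal_iff]
    intro v hv
    rw [hB]; exact hself v hv u hu
  have hfr : Module.finrank (ZMod 2) (B.orthogonal golayCode) = 12 := by
    rw [LinearMap.BilinForm.finrank_orthogonal hnd, code_finrank, Module.finrank_pi, show Fintype.card GolayPt = 24 from rfl]
  have heq := Submodule.eq_of_le_of_finrank_eq hle (code_finrank.trans hfr.symm)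
  rw [heq, LinearMap.BilinForm.mem_orthogonal_iff]
  intro v hv
  rw [hB, ← h v hv]
  exact Finset.sum_congr rfl fun i _ => mul_comm _ _

theorem separated : ∀ k < 4096, enc k = 0 ∨ enc k = FULL ∨
    basis.any (fun B => basis.any fun B' => pc (enc k &&& B &&& B') % 2 == 1) = true := by
  have h : ((List.range 4096).all fun k => enc k == 0 || enc k == FULL ||
      basis.any (fun B => basis.any fun B' => pc (enc k &&& B &&& B') % 2 == 1)) = true := by decide +kernel
  intro k hk
  have h' := List.all_eq_true.1 h k (List.mem_range.2 hk)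
  simpa [or_assoc] using h'

theorem diff05 : ∀ p : GolayPt, ((if p = pt 0 then (4 : ℤ) else 0) - if p = pt 5 then 4 else 0) =
    (if (0x824001 : ℕ).testBit (ix p) = true then 4 else 0) - if (0x824020 : ℕ).testBit (ix p) = true then 4 else 0 := by
  decide +kernel

theorem xi_eight : xi (frame none none) = fun p => frame none none p - (if p ∈ toSet 0x824020 then 4 else 0) := by
  simp only [mem_toSet]; decide +kernel

theorem xi_pair : xi (fun p => (if p = pt 0 then 4 else 0) - (if p = pt 5 then 4 else 0)) =
    fun p => twoW (0xf ||| 0x824020) p - frame (pt 0) (pt 5) p := by decide +kernel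

theorem xi_odd_basis : ∃ B ∈ basis, xi (twoW B) none % 2 = 1 := by decide +kernel

theorem oct_code : isCode (0xf ||| 0x824020) = true ∧ pc (0xf ||| 0x824020) = 8 := by decide +kernel

theorem basis_oct : basis.all (fun B => isCode B && pc B == 8) = true := by decide +kernel

variable {M : AddSubgroup (GolayPt → ℤ)}
  (h2 : ∀ v ∈ leechLattice, (2 : ℤ) • v ∈ M) (hle : M ≤ leechLattice)
  (hinv : ∀ g : ↥Co0, ∀ v : ↥leechLattice, (v : GolayPt → ℤ) ∈ M → ((g • v : ↥leechLattice) : GolayPt → ℤ) ∈ M)

include hle hinv in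
theorem flip_inv {c : Finset GolayPt} (hc : c ∈ codeSets) {x : GolayPt → ℤ} (hx : x ∈ M) :
    (fun i => if i ∈ c then -x i else x i) ∈ M := hinv (flipCo c hc) ⟨x, hle hx⟩ hx

include hle hinv in
theorem perm_inv {σ : Equiv.Perm GolayPt} (hσ : σ ∈ M24) {x : GolayPt → ℤ} (hx : x ∈ M) :
    (fun i => x (σ i)) ∈ M := hinv (permCo σ hσ) ⟨x, hle hx⟩ hx

include hle hinv in
theorem xi_inv {x : GolayPt → ℤ} (hx : x ∈ M) : xi x ∈ M := hinv xiCo ⟨x, hle hx⟩ hx

include h2 in
theorem eight_mem (u : GolayPt → ℤ) (hodd : ¬ (2 : ℤ) ∣ ∑ i, u i) (hu : (fun i => 8 * u i) ∈ M) :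
    frame none none ∈ M := by
  have h4 : (fun i => 4 * (u i - if i = none then 1 else 0)) ∈ leechLattice := by
    refine mem_iff.2 ⟨0, fun i => 2 * (u i - if i = none then 1 else 0), Or.inl rfl, fun i => by ring, ?_, ?_⟩
    · rw [← Finset.mul_sum, Finset.sum_sub_distrib, Finset.sum_ite_eq']; simp only [Finset.mem_univ, if_true]; omega
    · convert Submodule.zero_mem golayCode using 1
      funext i
      simp [show (2 : ZMod 2) = 0 from rfl]
  convert M.sub_mem hu (h2 _ h4) using 1
  funext i
  simp only [frame, Pi.sub_apply, Pi.smul_apply, smul_eq_mul]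
  split_ifs <;> ring

include hle hinv in
theorem flip_diff {c : Finset GolayPt} (hc : c ∈ codeSets) {x : GolayPt → ℤ} (hx : x ∈ M) :
    (fun i => if i ∈ c then 2 * x i else 0) ∈ M := by
  convert M.sub_mem hx (flip_inv hle hinv hc hx) using 1
  funext i
  simp only [Pi.sub_apply]
  split_ifs <;> ring

include h2 hle hinv in
theorem frame_mem_of_ne {x : GolayPt → ℤ} (hx : x ∈ M) (hx2 : ∀ w ∈ leechLattice, x ≠ (2 : ℤ) • w) :
    frame none none ∈ M := by
  -- first the vectors divisible by four
  have case4 : ∀ x ∈ M, (∀ w ∈ leechLattice, x ≠ (2 : ℤ) • w) → (∀ i, (4 : ℤ) ∣ x i) → frame none none ∈ M := by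
    intro x hx hx2 h4
    choose z hz using h4
    by_cases hall : ∀ c ∈ golayCode, (∑ i, (z i : ZMod 2) * c i) = 0
    · have hD := code_dual _ hall
      obtain ⟨u, hu⟩ : ∃ u : GolayPt → ℤ, ∀ i, z i = ((((z i : ZMod 2)).val : ℤ)) + 2 * u i := by
        refine ⟨fun i => z i / 2, fun i => ?_⟩
        show z i = _ + 2 * (z i / 2)
        rw [ZMod.val_intCast]; omega
      have hw : (fun i => 2 * ((((z i : ZMod 2)).val : ℤ))) ∈ leechLattice := by
        refine mem_iff.2 ⟨0, fun i => (((z i : ZMod 2)).val : ℤ), Or.inl rfl, fun i => by ring, ?_, ?_⟩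
        · have e : ∑ i, (((z i : ZMod 2)).val : ℤ) = ((support₂ fun i => (z i : ZMod 2)).card : ℤ) := by
            rw [support₂, ← Finset.sum_boole]
            exact Finset.sum_congr rfl fun i _ => (by decide : ∀ a : ZMod 2, ((a.val : ℤ)) = if a ≠ 0 then 1 else 0) _
          have := card_cases (support_mem hD)
          rw [← Finset.mul_sum, e]
          omega
        · simpa using hD
      refine eight_mem h2 u (fun hdvd => ?_) ?_
      · have h4u : (fun i => 4 * u i) ∈ leechLattice := by
          refine mem_iff.2 ⟨0, fun i => 2 * u i, Or.inl rfl, fun i => by ring, ?_, ?_⟩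
          · rw [← Finset.mul_sum]; omega
          · convert Submodule.zero_mem golayCode using 1
            funext i; simp [show (2 : ZMod 2) = 0 from rfl]
        exact hx2 _ (add_mem hw h4u) (funext fun i => by
          simp only [Pi.smul_apply, Pi.add_apply, smul_eq_mul]; have := hu i; rw [hz i]; omega)
      · convert M.sub_mem hx (h2 _ hw) using 1
        funext i
        simp only [Pi.sub_apply, Pi.smul_apply, smul_eq_mul]
        have := hu i; rw [hz i]; omega
    · push Not at hall
      obtain ⟨c, hc, hne⟩ := hall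
      refine eight_mem h2 (fun i => if i ∈ support₂ c then z i else 0) (fun hdvd => hne ?_) ?_
      · rw [← (ZMod.intCast_zmod_eq_zero_iff_dvd _ 2).2 hdvd, Int.cast_sum]
        refine Finset.sum_congr rfl fun i _ => ?_
        simp only [support₂, Finset.mem_filter, Finset.mem_univ, true_and]
        rcases (by decide : ∀ a : ZMod 2, a = 0 ∨ a = 1) (c i) with h | h <;> simp [h]
      · convert flip_diff hle hinv (support_mem hc) hx using 1
        funext i
        rw [hz i]
        split_ifs <;> ring
  -- even vectors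
  have case2 : ∀ x ∈ M, (∀ w ∈ leechLattice, x ≠ (2 : ℤ) • w) → (∀ i, (2 : ℤ) ∣ x i) → frame none none ∈ M := by
    intro x hx hx2 heven
    obtain ⟨m, y, hm, hy, -, hw⟩ := mem_iff.1 (hle hx)
    obtain rfl : m = 0 := by have := heven none; rw [hy] at this; omega
    obtain ⟨k, hk4, hk⟩ := mem_code_iff.1 hw
    have hpar : ∀ i, ((enc k).testBit (ix i) = true ↔ ¬ (2 : ℤ) ∣ y i) := fun i => by
      have h := congrFun hk i
      simp only [word] at h
      rw [← Nat.cast_two, ← ZMod.intCast_zmod_eq_zero_iff_dvd]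
      cases hb : (enc k).testBit (ix i) <;> simp [hb] at h <;> simp [← h]
    rcases separated k hk4 with h | h | h
    · exact case4 x hx hx2 fun i => by
        have := hpar i; rw [h] at this; simp at this; rw [hy]; omega
    · refine case4 (x - (2 : ℤ) • oddVec) (M.sub_mem hx (h2 _ oddVec_mem)) (fun w hw e => hx2 (w + oddVec)
        (add_mem hw oddVec_mem) (by rw [smul_add, ← e]; abel)) fun i => ?_
      have h1 := hpar i
      rw [h] at h1
      have : FULL.testBit (ix i) = true := mem_toSet.1 (by rw [toSet_full]; exact Finset.mem_univ i)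
      have hodd := h1.1 this
      simp only [Pi.sub_apply, Pi.smul_apply, smul_eq_mul, hy, oddVec]
      split_ifs <;> omega
    · simp only [List.any_eq_true, beq_iff_eq] at h
      obtain ⟨B, hB, B', hB', hodd⟩ := h
      have hc : ∀ B ∈ basis, toSet B ∈ codeSets := fun B hB => by
        have := List.all_eq_true.1 basis_oct B hB
        simp only [Bool.and_eq_true] at this
        exact mem_codeSets.2 ⟨B, this.1, rfl⟩
      refine eight_mem h2 (fun i => if i ∈ toSet B' then (if i ∈ toSet B then y i else 0) else 0) (fun hdvd => ?_) ?_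
      · rw [← Nat.cast_two, ← ZMod.intCast_zmod_eq_zero_iff_dvd, Int.cast_sum] at hdvd
        have e : ((pc (enc k &&& B &&& B') : ℕ) : ZMod 2) = 0 := by
          rw [← hdvd, ← card_toSet, toSet_and, toSet_and]
          rw [show ((toSet (enc k) ∩ toSet B ∩ toSet B').card : ZMod 2) =
            ∑ i, if i ∈ toSet (enc k) ∩ toSet B ∩ toSet B' then (1 : ZMod 2) else 0 by
              rw [Finset.sum_ite_mem, Finset.univ_inter]; simp]
          refine Finset.sum_congr rfl fun i _ => ?_
          have h := congrFun hk i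
          simp only [word] at h
          simp only [Finset.mem_inter, mem_toSet]
          rcases Bool.eq_false_or_eq_true ((enc k).testBit (ix i)) with a | a <;>
            rcases Bool.eq_false_or_eq_true (B.testBit (ix i)) with b | b <;>
            rcases Bool.eq_false_or_eq_true (B'.testBit (ix i)) with c | c <;>
            simp [a, b, c] at h ⊢ <;> exact h
        rw [ZMod.natCast_eq_zero_iff_even, Nat.even_iff] at e
        omega
      · convert flip_diff hle hinv (hc B' hB') (flip_diff hle hinv (hc B hB) hx) using 1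
        funext i
        simp only [hy]
        split_ifs <;> ring
  by_cases heven : ∀ i, (2 : ℤ) ∣ x i
  · exact case2 x hx hx2 heven
  obtain ⟨m, y, hm, hy, -, -⟩ := mem_iff.1 (hle hx)
  obtain rfl : m = 1 := by
    rcases hm with rfl | rfl
    · exact absurd (fun i => ⟨y i, by rw [hy]; ring⟩) heven
    · rfl
  have hc : toSet (0xf ||| 0x824020) ∈ codeSets := mem_codeSets.2 ⟨_, oct_code.1, rfl⟩
  refine case2 _ (flip_diff hle hinv hc hx) (fun w hw e => ?_) fun i => by split_ifs <;> simp
  obtain ⟨m', y', -, hy', -, -⟩ := mem_iff.1 hw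
  have h0 : pt 0 ∈ toSet (0xf ||| 0x824020) := mem_toSet.2 (by decide +kernel)
  have h4 : pt 4 ∉ toSet (0xf ||| 0x824020) := fun h => absurd (mem_toSet.1 h) (by decide +kernel)
  have e0 := congrFun e (pt 0)
  have e4 := congrFun e (pt 4)
  simp only [h0, h4, if_true, if_false, Pi.smul_apply, smul_eq_mul, hy, hy'] at e0 e4
  omega

include h2 hle hinv in
theorem eq_top_of_frame (hf : frame none none ∈ M) : M = leechLattice := by
  have hT : (fun p => if p ∈ toSet 0x824020 then (4 : ℤ) else 0) ∈ M := by
    convert M.sub_mem hf (xi_inv hle hinv hf) using 1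
    rw [xi_eight]; funext p; simp
  have hd05 : (fun p => (if p = pt 0 then (4 : ℤ) else 0) - (if p = pt 5 then 4 else 0)) ∈ M := by
    obtain ⟨σ, hσ, e⟩ := M24_trans_sets (s := toSet 0x824001) (t := toSet 0x824020)
      (by rw [card_toSet]; decide +kernel) (by rw [card_toSet, card_toSet]; decide +kernel)
    convert M.sub_mem (perm_inv hle hinv hσ hT) hT using 1
    funext p
    have hp : σ p ∈ toSet 0x824020 ↔ p ∈ toSet 0x824001 := by
      rw [← e, ← Equiv.Perm.smul_def, Finset.smul_mem_smul_finset_iff]
    simp only [Pi.sub_apply, hp]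
    simp only [mem_toSet]
    exact diff05 p
  have hd : ∀ a b : GolayPt, a ≠ b → (fun p => (if p = a then (4 : ℤ) else 0) - (if p = b then 4 else 0)) ∈ M := by
    intro a b hab
    obtain ⟨σ, hσ, ea, eb⟩ := M24_trans_pairs hab (show pt 0 ≠ pt 5 by decide)
    convert perm_inv hle hinv hσ hd05 using 1
    funext p
    simp only [← ea, ← eb, σ.injective.eq_iff]
  have hfr : ∀ i, frame i none ∈ M := fun i => by
    by_cases hi : i = none
    · rw [hi]; exact hf
    convert M.add_mem (hd i none hi) hf using 1
    funext p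
    simp only [frame, Pi.add_apply]; split_ifs <;> ring
  have hfr2 : ∀ i j, frame i j ∈ M := fun i j => by
    convert M.sub_mem (M.add_mem (hfr i) (hfr j)) hf using 1
    funext p
    simp only [frame, Pi.add_apply, Pi.sub_apply]; ring
  have hoct : twoW (0xf ||| 0x824020) ∈ M := by
    convert M.add_mem (xi_inv hle hinv hd05) (hfr2 (pt 0) (pt 5)) using 1
    rw [xi_pair]; funext p; simp
  have hbas : ∀ B ∈ basis, twoW B ∈ M := by
    intro B hB
    have hb := List.all_eq_true.1 basis_oct B hB
    simp only [Bool.and_eq_true, beq_iff_eq] at hb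
    obtain ⟨σ, hσ, e⟩ := M24_trans_octads (o := toSet B) (o' := toSet (0xf ||| 0x824020))
      ⟨mem_codeSets.2 ⟨B, hb.1, rfl⟩, by rw [card_toSet]; exact hb.2⟩
      ⟨mem_codeSets.2 ⟨_, oct_code.1, rfl⟩, by rw [card_toSet]; exact oct_code.2⟩
    convert perm_inv hle hinv hσ hoct using 1
    funext p
    have hp : σ p ∈ toSet (0xf ||| 0x824020) ↔ p ∈ toSet B := by
      rw [← e, ← Equiv.Perm.smul_def, Finset.smul_mem_smul_finset_iff]
    simp only [mem_toSet] at hp
    simp only [twoW, hp]
  -- an odd vector
  obtain ⟨B, hB, hodd⟩ := xi_odd_basis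
  have hz := xi_inv hle hinv (hbas B hB)
  have hev : ∀ y ∈ leechLattice, (2 : ℤ) ∣ y none → y ∈ M := by
    intro y hy hy2
    obtain ⟨m, yy, hm, hyy, -, -⟩ := mem_iff.1 hy
    refine even_le hbas hfr hy fun i => ?_
    rw [hyy] at hy2 ⊢
    omega
  refine le_antisymm hle fun y hy => ?_
  by_cases h : (2 : ℤ) ∣ y none
  · exact hev y hy h
  · have h1 := hev (y - xi (twoW B)) (sub_mem hy (hle hz)) (by simp only [Pi.sub_apply]; omega)
    simpa using M.add_mem h1 hz

include h2 hle hinv in
theorem irreducible : (∀ x ∈ M, ∃ w ∈ leechLattice, x = (2 : ℤ) • w) ∨ M = leechLattice := by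
  by_contra h
  push Not at h
  obtain ⟨⟨x, hx, hx2⟩, hne⟩ := h
  exact hne (eq_top_of_frame h2 hle hinv (frame_mem_of_ne h2 hle hinv hx hx2))

end Cfsg.Agent.Lib.Leech
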