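import Cfsg.Agent.Lib.Leech.Index
import Cfsg.Agent.Lib.Leech.Irreducible

/-!
Orbits of the isometry group on short lattice vectors.
-/

set_option autoImplicit false

namespace Cfsg.Agent.Lib.Leech

open Cfsg Golay
open scoped Pointwise

/-- Two vectors lie in one orbit. -/
def Same (x y : ↥leechLattice) : Prop := ∃ g : ↥Co0, g • x = y

theorem Same.refl (x : ↥leechLattice) : Same x x := ⟨1, one_smul _ x⟩

theorem Same.symm {x y : ↥leechLattice} (h : Same x y) : Same y x := by
  obtain ⟨g, rfl⟩ := h; exact ⟨g⁻¹, inv_smul_smul g x⟩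

theorem Same.trans {x y w : ↥leechLattice} (h : Same x y) (h' : Same y w) : Same x w := by
  obtain ⟨g, rfl⟩ := h; obtain ⟨g', rfl⟩ := h'; exact ⟨g' * g, mul_smul g' g x⟩

theorem Same.sqNorm_eq {x y : ↥leechLattice} (h : Same x y) : sqNorm (y : GolayPt → ℤ) = sqNorm (x : GolayPt → ℤ) := by
  obtain ⟨g, rfl⟩ := h; exact g.2.2 x

theorem coe_xiCo (x : ↥leechLattice) : ((xiCo • x : ↥leechLattice) : GolayPt → ℤ) = xi x := rfl

theorem coe_permCo {σ : Equiv.Perm GolayPt} (hσ : σ ∈ M24) (x : ↥leechLattice) :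
    ((permCo σ hσ • x : ↥leechLattice) : GolayPt → ℤ) = fun p => (x : GolayPt → ℤ) (σ p) := rfl

theorem le_sq_of_norm {x : GolayPt → ℤ} {N : ℤ} (h : sqNorm x ≤ N) (i : GolayPt) : x i ^ 2 ≤ N :=
  (Finset.single_le_sum (fun j _ => sq_nonneg (x j)) (Finset.mem_univ i)).trans h

/-- An odd vector can be made congruent to `1` modulo 4 in every coordinate. -/
theorem odd_normal (x : ↥leechLattice) (hodd : ∀ i, (x : GolayPt → ℤ) i % 2 = 1) :
    ∃ y, Same x y ∧ (∀ i, (y : GolayPt → ℤ) i % 4 = 1) ∧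
      ∀ i, (y : GolayPt → ℤ) i = (x : GolayPt → ℤ) i ∨ (y : GolayPt → ℤ) i = -(x : GolayPt → ℤ) i := by
  obtain ⟨m, w, hm, hw, -, hc⟩ := mem_iff.1 x.2
  obtain rfl : m = 1 := by have := hodd none; rw [hw] at this; omega
  have hs := support_mem hc
  refine ⟨flipCo _ hs • x, ⟨_, rfl⟩, fun i => ?_, fun i => ?_⟩
  swap
  · show (if i ∈ support₂ (fun j => (w j : ZMod 2)) then -(x : GolayPt → ℤ) i else (x : GolayPt → ℤ) i) = _ ∨
      (if i ∈ support₂ (fun j => (w j : ZMod 2)) then -(x : GolayPt → ℤ) i else (x : GolayPt → ℤ) i) = _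
    split_ifs <;> simp
  show (if i ∈ support₂ (fun j => (w j : ZMod 2)) then -(x : GolayPt → ℤ) i else (x : GolayPt → ℤ) i) % 4 = 1
  simp only [support_cast, Finset.mem_filter, Finset.mem_univ, true_and]
  have := hw i
  split_ifs <;> omega

theorem exists_move {A B A' B' : Finset GolayPt} (hAB : Disjoint A B) (hAB' : Disjoint A' B')
    (hA : A.card = A'.card) (hB : B.card = B'.card) (h5 : A.card + B.card ≤ 5) :
    ∃ σ ∈ M24, (∀ p, σ p ∈ A' ↔ p ∈ A) ∧ ∀ p, σ p ∈ B' ↔ p ∈ B := by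
  classical
  have e : ∀ (S T : Finset GolayPt), Disjoint S T → ∃ f : Fin (S.card + T.card) → GolayPt,
      Function.Injective f ∧ ∀ i, (f i ∈ S ↔ (i : ℕ) < S.card) ∧ (f i ∈ T ↔ S.card ≤ (i : ℕ)) := by
    intro S T hd
    refine ⟨fun i => Sum.elim (fun a => (S.equivFin.symm a : GolayPt)) (fun b => (T.equivFin.symm b : GolayPt))
      (finSumFinEquiv.symm i), ?_, fun i => ?_⟩
    · refine Function.Injective.comp (Sum.elim_injective.2 ⟨?_, ?_, ?_⟩) finSumFinEquiv.symm.injective
      · exact Subtype.val_injective.comp S.equivFin.symm.injective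
      · exact Subtype.val_injective.comp T.equivFin.symm.injective
      · intro a b h
        exact Finset.disjoint_left.1 hd (S.equivFin.symm a).2 (h ▸ (T.equivFin.symm b).2)
    · obtain ⟨j, rfl⟩ := finSumFinEquiv.surjective i
      simp only [Equiv.symm_apply_apply]
      rcases j with a | b
      · simp only [Sum.elim_inl, finSumFinEquiv_apply_left, Fin.val_castAdd, Finset.coe_mem, a.2, true_iff]
        refine ⟨by simp, ?_⟩
        refine iff_of_false (Finset.disjoint_left.1 hd (S.equivFin.symm a).2) (not_le.2 a.2)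
      · simp only [Sum.elim_inr, finSumFinEquiv_apply_right, Fin.val_natAdd, Finset.coe_mem, le_add_iff_nonneg_right,
          zero_le, iff_true, and_true]
        refine iff_of_false (Finset.disjoint_right.1 hd (T.equivFin.symm b).2) (by omega)
  obtain ⟨f, hf, hf'⟩ := e A B hAB
  obtain ⟨g, hg, hg'⟩ := e A' B' hAB'
  let g₀ : Fin (A.card + B.card) → GolayPt := fun i => g (Fin.cast (by omega) i)
  obtain ⟨σ, hσ, hσf⟩ := exists_M24_map h5 f g₀ hf (hg.comp (Fin.cast_injective _))
  have surj : ∀ p, p ∈ A ∪ B → ∃ i, f i = p := by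
    intro p hp
    have : Finset.univ.image f = A ∪ B := by
      refine Finset.eq_of_subset_of_card_le (fun q hq => ?_) ?_
      · obtain ⟨i, -, rfl⟩ := Finset.mem_image.1 hq
        rcases lt_or_ge (i : ℕ) A.card with h | h
        · exact Finset.mem_union_left _ ((hf' i).1.2 h)
        · exact Finset.mem_union_right _ ((hf' i).2.2 h)
      · rw [Finset.card_image_of_injective _ hf, Finset.card_union_of_disjoint hAB]; simp
    obtain ⟨i, -, hi⟩ := Finset.mem_image.1 (this.symm ▸ hp : p ∈ Finset.univ.image f)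
    exact ⟨i, hi⟩
  have key : ∀ (S S' : Finset GolayPt), S.card = S'.card → (∀ p ∈ S, σ p ∈ S') → ∀ p, σ p ∈ S' ↔ p ∈ S := by
    intro S S' hc hs p
    refine ⟨fun h => ?_, hs p⟩
    have : S.image σ = S' := Finset.eq_of_subset_of_card_le (Finset.image_subset_iff.2 hs)
      (by rw [Finset.card_image_of_injective _ σ.injective, hc])
    obtain ⟨q, hq, e⟩ := Finset.mem_image.1 (this.symm ▸ h : σ p ∈ S.image σ)
    exact σ.injective e ▸ hq
  refine ⟨σ, hσ, key A A' hA (fun p hp => ?_), key B B' hB (fun p hp => ?_)⟩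
  · obtain ⟨i, rfl⟩ := surj p (Finset.mem_union_left _ hp)
    rw [hσf i]
    exact (hg' _).1.2 (by have := (hf' i).1.1 hp; simp only [Fin.val_cast]; omega)
  · obtain ⟨i, rfl⟩ := surj p (Finset.mem_union_right _ hp)
    rw [hσf i]
    exact (hg' _).2.2 (by have := (hf' i).2.1 hp; simp only [Fin.val_cast]; omega)

/-- The positions carrying a given value. -/
def posOf (x : GolayPt → ℤ) (a : ℤ) : Finset GolayPt := Finset.univ.filter fun i => x i = a

theorem same_normal {x y : ↥leechLattice}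
    (hx : ∀ i, (x : GolayPt → ℤ) i = 1 ∨ (x : GolayPt → ℤ) i = -3 ∨ (x : GolayPt → ℤ) i = 5)
    (hy : ∀ i, (y : GolayPt → ℤ) i = 1 ∨ (y : GolayPt → ℤ) i = -3 ∨ (y : GolayPt → ℤ) i = 5)
    (hA : (posOf x (-3)).card = (posOf y (-3)).card) (hB : (posOf x 5).card = (posOf y 5).card)
    (h5 : (posOf x (-3)).card + (posOf x 5).card ≤ 5) : Same x y := by
  have hd : ∀ w : ↥leechLattice, Disjoint (posOf w (-3)) (posOf w 5) := fun w =>
    Finset.disjoint_left.2 fun p h h' => by
      simp only [posOf, Finset.mem_filter] at h h'; omega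
  obtain ⟨σ, hσ, h1, h2⟩ := exists_move (hd y) (hd x) hA.symm hB.symm (by omega)
  refine ⟨permCo σ hσ, Subtype.ext (funext fun p => ?_)⟩
  show (x : GolayPt → ℤ) (σ p) = (y : GolayPt → ℤ) p
  have a := h1 p; have b := h2 p
  simp only [posOf, Finset.mem_filter, Finset.mem_univ, true_and] at a b
  rcases hx (σ p) with e | e | e <;> rcases hy p with e' | e' | e' <;> omega

theorem normal_values {x : ↥leechLattice} (h1 : ∀ i, (x : GolayPt → ℤ) i % 4 = 1) (hn : sqNorm (x : GolayPt → ℤ) ≤ 64) :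
    (∀ i, (x : GolayPt → ℤ) i = 1 ∨ (x : GolayPt → ℤ) i = -3 ∨ (x : GolayPt → ℤ) i = 5) ∧
      sqNorm (x : GolayPt → ℤ) = 24 + 8 * ((posOf x (-3)).card : ℤ) + 24 * ((posOf x 5).card : ℤ) := by
  classical
  have hv : ∀ i, (x : GolayPt → ℤ) i = 1 ∨ (x : GolayPt → ℤ) i = -3 ∨ (x : GolayPt → ℤ) i = 5 := by
    intro i
    have h := le_sq_of_norm hn i
    have : -8 ≤ (x : GolayPt → ℤ) i := by nlinarith
    have : (x : GolayPt → ℤ) i ≤ 8 := by nlinarith
    by_contra hne
    push Not at hne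
    have := h1 i
    have hi : (x : GolayPt → ℤ) i = -7 := by omega
    -- the other coordinates are non-zero
    have hle := Finset.sum_le_sum (s := Finset.univ) (f := fun j : GolayPt => if j = i then (49 : ℤ) else 1)
      (g := fun j => (x : GolayPt → ℤ) j ^ 2) fun j _ => by
        show (if j = i then (49 : ℤ) else 1) ≤ (x : GolayPt → ℤ) j ^ 2
        split_ifs with e
        · rw [e, hi]; norm_num
        · exact Int.add_one_le_iff.2 (pow_two_pos_of_ne_zero fun e => by have := h1 j; omega)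
    rw [Finset.sum_ite, Finset.sum_const, Finset.sum_const, Finset.filter_eq', if_pos (Finset.mem_univ _),
      Finset.card_singleton, Finset.filter_ne', Finset.card_erase_of_mem (Finset.mem_univ _), Finset.card_univ,
      show Fintype.card GolayPt = 24 from rfl] at hle
    have h64 : ∑ j, (x : GolayPt → ℤ) j ^ 2 ≤ 64 := hn
    simp at hle h64
    omega
  refine ⟨hv, ?_⟩
  have e : ∀ i, (x : GolayPt → ℤ) i ^ 2 = 1 + (if (x : GolayPt → ℤ) i = -3 then 8 else 0) + (if (x : GolayPt → ℤ) i = 5 then 24 else 0) :=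
    fun i => by rcases hv i with e | e | e <;> rw [e] <;> norm_num
  rw [sqNorm, Finset.sum_congr rfl fun i _ => e i, Finset.sum_add_distrib, Finset.sum_add_distrib, ← Finset.sum_filter,
    ← Finset.sum_filter, Finset.sum_const, Finset.sum_const, Finset.sum_const, Finset.card_univ,
    show Fintype.card GolayPt = 24 from rfl]
  simp only [posOf, nsmul_eq_mul]
  push_cast; ring

/-- Odd short vectors: normal form, with the shape read off the vector. -/
theorem odd_classify (x : ↥leechLattice) (hodd : ∀ i, (x : GolayPt → ℤ) i % 2 = 1) (hn : sqNorm (x : GolayPt → ℤ) ≤ 64) :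
    ∃ y, Same x y ∧ (∀ i, (y : GolayPt → ℤ) i = 1 ∨ (y : GolayPt → ℤ) i = -3 ∨ (y : GolayPt → ℤ) i = 5) ∧
      sqNorm (x : GolayPt → ℤ) = 24 + 8 * ((posOf y (-3)).card : ℤ) + 24 * ((posOf y 5).card : ℤ) ∧
      (posOf y (-3)).card = (Finset.univ.filter fun i => (x : GolayPt → ℤ) i = 3 ∨ (x : GolayPt → ℤ) i = -3).card := by
  obtain ⟨y, hxy, hy, habs⟩ := odd_normal x hodd
  obtain ⟨h1, h2⟩ := normal_values hy (hxy.sqNorm_eq.le.trans hn)
  refine ⟨y, hxy, h1, hxy.sqNorm_eq.symm.trans h2, ?_⟩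
  congr 1
  refine Finset.filter_congr fun i _ => ?_
  have := habs i; have := h1 i
  omega

theorem tsum_eq_of_sextet (x : GolayPt → ℤ) (t : Fin 6) (p : GolayPt) (hp : tid p = t) :
    xi x p = (if t = 0 then -1 else 1) * (x p - tsum x t / 2) := by rw [xi, hp]

/-- Parity of a coordinate sum along an injective four-tuple. -/
theorem exists_odd_four {P : GolayPt → ℤ} {p q : GolayPt} (hpq : P p % 2 ≠ P q % 2) :
    ∃ T : Finset GolayPt, T.card = 4 ∧ (∑ i ∈ T, P i) % 2 = 1 := by
  classical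
  obtain ⟨R, hR, hRc⟩ := Finset.exists_subset_card_eq (s := (Finset.univ : Finset GolayPt) \ {p, q}) (n := 3)
    (by rw [Finset.card_sdiff, Finset.inter_univ, Finset.card_univ, show Fintype.card GolayPt = 24 from rfl]
        have := Finset.card_le_two (a := p) (b := q); omega)
  have hp : p ∉ R := fun h => by simpa using Finset.mem_sdiff.1 (hR h)
  have hq : q ∉ R := fun h => by simpa using Finset.mem_sdiff.1 (hR h)
  by_cases h : (∑ i ∈ insert p R, P i) % 2 = 1
  · exact ⟨insert p R, by rw [Finset.card_insert_of_notMem hp, hRc], h⟩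
  · refine ⟨insert q R, by rw [Finset.card_insert_of_notMem hq, hRc], ?_⟩
    rw [Finset.sum_insert hp] at h
    rw [Finset.sum_insert hq]
    omega

/-- Move a four-set onto the first tetrad. -/
theorem exists_to_tetrad {T : Finset GolayPt} (hT : T.card = 4) :
    ∃ σ, ∃ hσ : σ ∈ M24, ∀ x : ↥leechLattice,
      tsum ((permCo σ hσ • x : ↥leechLattice) : GolayPt → ℤ) 0 = ∑ i ∈ T, (x : GolayPt → ℤ) i := by
  classical
  obtain ⟨σ, hσ, h1, -⟩ := exists_move (A := Finset.univ.filter fun q => tid q = 0) (A' := T) (B := ∅) (B' := ∅)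
    (Finset.disjoint_empty_right _) (Finset.disjoint_empty_right _) (by rw [tid_card, hT]) rfl (by rw [tid_card]; simp)
  refine ⟨σ, hσ, fun x => ?_⟩
  rw [tsum, coe_permCo]
  refine Finset.sum_nbij σ (fun p hp => (h1 p).2 hp) σ.injective.injOn (fun q hq => ?_) (fun p _ => rfl)
  exact ⟨σ.symm q, (h1 _).1 (by simpa using hq), by simp⟩

/-- Even vectors not congruent modulo 4 to a constant can be moved to odd vectors. -/
theorem even_to_odd (x : ↥leechLattice) (heven : ∀ i, (x : GolayPt → ℤ) i % 2 = 0) {p q : GolayPt}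
    (hpq : (x : GolayPt → ℤ) p % 4 ≠ (x : GolayPt → ℤ) q % 4) :
    ∃ y, Same x y ∧ ∀ i, (y : GolayPt → ℤ) i % 2 = 1 := by
  obtain ⟨T, hT, hsum⟩ := exists_odd_four (P := fun i => (x : GolayPt → ℤ) i / 2) (p := p) (q := q)
    (by have := heven p; have := heven q; omega)
  obtain ⟨σ, hσ, hts⟩ := exists_to_tetrad hT
  refine ⟨xiCo • permCo σ hσ • x, ⟨xiCo * permCo σ hσ, mul_smul _ _ x⟩, fun i => ?_⟩
  set w : ↥leechLattice := permCo σ hσ • x with hw
  have hhalf : (∑ i ∈ T, (x : GolayPt → ℤ) i) = 2 * ∑ i ∈ T, (x : GolayPt → ℤ) i / 2 := by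
    rw [Finset.mul_sum]; exact Finset.sum_congr rfl fun i _ => by have := heven i; omega
  have h0 : (none : GolayPt) = none := rfl
  obtain ⟨p0, hp0⟩ : ∃ p0, tid p0 = 0 := ⟨pt 0, by decide⟩
  have hp1 : ((xiCo • w : ↥leechLattice) : GolayPt → ℤ) p0 % 2 = 1 := by
    rw [coe_xiCo, tsum_eq_of_sextet _ 0 p0 hp0, if_pos rfl, hts, hhalf]
    have := heven (σ p0)
    show (-1 * ((x : GolayPt → ℤ) (σ p0) - 2 * _ / 2)) % 2 = 1
    omega
  obtain ⟨m, y, -, hy, -⟩ := mem_iff.1 (xiCo • w).2
  rw [hy p0] at hp1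
  rw [hy i]
  omega

/-- A short vector is `±8e` or lies in the orbit of an odd vector. -/
theorem to_odd (x : ↥leechLattice) (hx : x ≠ 0) (hn : sqNorm (x : GolayPt → ℤ) ≤ 64) :
    (∃ i, (x : GolayPt → ℤ) = Pi.single i 8 ∨ (x : GolayPt → ℤ) = Pi.single i (-8)) ∨
      ∃ y, Same x y ∧ ∀ i, (y : GolayPt → ℤ) i % 2 = 1 := by
  classical
  obtain ⟨m, y, hm, hy, -, hc⟩ := mem_iff.1 x.2
  rcases hm with rfl | rfl
  swap
  · exact Or.inr ⟨x, Same.refl x, fun i => by have := hy i; omega⟩
  have heven : ∀ i, (x : GolayPt → ℤ) i % 2 = 0 := fun i => by have := hy i; omega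
  by_cases hpq : ∃ p q, (x : GolayPt → ℤ) p % 4 ≠ (x : GolayPt → ℤ) q % 4
  · obtain ⟨p, q, hpq⟩ := hpq
    exact Or.inr (even_to_odd x heven hpq)
  push Not at hpq
  by_cases h2 : (x : GolayPt → ℤ) none % 4 = 2
  · exfalso
    have := Finset.sum_le_sum (s := Finset.univ) (f := fun _ : GolayPt => (4 : ℤ)) (g := fun j => (x : GolayPt → ℤ) j ^ 2)
      fun j _ => by
        have := hpq j none
        have h : (x : GolayPt → ℤ) j ≤ -2 ∨ 2 ≤ (x : GolayPt → ℤ) j := by omega
        rcases h with h | h <;> nlinarith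
    rw [Finset.sum_const, Finset.card_univ, show Fintype.card GolayPt = 24 from rfl] at this
    unfold sqNorm at hn
    simp at this
    simp at hn
    omega
  have h4 : ∀ i, (x : GolayPt → ℤ) i % 4 = 0 := fun i => by have := hpq i none; have := heven none; omega
  by_cases hz : ∀ i, (x : GolayPt → ℤ) i % 8 = 0
  · -- a single coordinate `±8`
    left
    obtain ⟨i, hi⟩ : ∃ i, (x : GolayPt → ℤ) i ≠ 0 := by
      by_contra h; push Not at h; exact hx (Subtype.ext (funext h))
    refine ⟨i, ?_⟩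
    have h64 : 64 ≤ (x : GolayPt → ℤ) i ^ 2 := by
      have : (x : GolayPt → ℤ) i ≤ -8 ∨ 8 ≤ (x : GolayPt → ℤ) i := by have := hz i; omega
      rcases this with h | h <;> nlinarith
    have hother : ∀ j, j ≠ i → (x : GolayPt → ℤ) j = 0 := by
      intro j hj
      have h := Finset.sum_le_sum_of_subset_of_nonneg (f := fun q => (x : GolayPt → ℤ) q ^ 2)
        (Finset.subset_univ ({i, j} : Finset GolayPt)) (fun q _ _ => sq_nonneg _)
      rw [Finset.sum_pair (Ne.symm hj)] at h
      unfold sqNorm at hn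
      have : (x : GolayPt → ℤ) j ^ 2 ≤ 0 := by linarith
      exact pow_eq_zero_iff two_ne_zero |>.1 (le_antisymm this (sq_nonneg _))
    have h8 : (x : GolayPt → ℤ) i = 8 ∨ (x : GolayPt → ℤ) i = -8 := by
      have := le_sq_of_norm hn i
      have : -8 ≤ (x : GolayPt → ℤ) i := by nlinarith
      have : (x : GolayPt → ℤ) i ≤ 8 := by nlinarith
      have := hz i
      omega
    rcases h8 with h | h
    · left; funext j; by_cases hj : j = i
      · subst hj; simp [h]
      · simp [hj, hother j hj]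
    · right; funext j; by_cases hj : j = i
      · subst hj; simp [h]
      · simp [hj, hother j hj]
  push Not at hz
  obtain ⟨p, hp⟩ := hz
  obtain ⟨q, hq⟩ : ∃ q, (x : GolayPt → ℤ) q % 8 = 0 := by
    by_contra hne
    push Not at hne
    have := Finset.sum_le_sum (s := Finset.univ) (f := fun _ : GolayPt => (16 : ℤ)) (g := fun j => (x : GolayPt → ℤ) j ^ 2)
      fun j _ => by
        have := h4 j; have := hne j
        have h : (x : GolayPt → ℤ) j ≤ -4 ∨ 4 ≤ (x : GolayPt → ℤ) j := by omega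
        rcases h with h | h <;> nlinarith
    rw [Finset.sum_const, Finset.card_univ, show Fintype.card GolayPt = 24 from rfl] at this
    unfold sqNorm at hn
    simp at this
    simp at hn
    omega
  -- one application of the sextet map leaves the residue class `0` modulo 4
  obtain ⟨T, hT, hsum⟩ := exists_odd_four (P := fun i => (x : GolayPt → ℤ) i / 4) (p := p) (q := q)
    (by have := h4 p; omega)
  obtain ⟨σ, hσ, hts⟩ := exists_to_tetrad hT
  set v : ↥leechLattice := xiCo • permCo σ hσ • x with hv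
  have hxv : Same x v := ⟨xiCo * permCo σ hσ, mul_smul _ _ x⟩
  have hq4 : (∑ i ∈ T, (x : GolayPt → ℤ) i) = 4 * ∑ i ∈ T, (x : GolayPt → ℤ) i / 4 := by
    rw [Finset.mul_sum]; exact Finset.sum_congr rfl fun i _ => by have := h4 i; omega
  obtain ⟨p0, hp0⟩ : ∃ p0, tid p0 = 0 := ⟨pt 0, by decide⟩
  have hv2 : (v : GolayPt → ℤ) p0 % 4 = 2 := by
    rw [hv, coe_xiCo, tsum_eq_of_sextet _ 0 p0 hp0, if_pos rfl, hts, hq4]
    have := h4 (σ p0)
    show (-1 * ((x : GolayPt → ℤ) (σ p0) - 4 * _ / 2)) % 4 = 2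
    omega
  obtain ⟨m', y', hm', hy', -⟩ := mem_iff.1 v.2
  have hveven : ∀ i, (v : GolayPt → ℤ) i % 2 = 0 := fun i => by
    have h0 := hy' p0
    have := hy' i
    omega
  obtain ⟨r, hr⟩ : ∃ r, (v : GolayPt → ℤ) r % 4 = 0 := by
    by_contra hne
    push Not at hne
    have := Finset.sum_le_sum (s := Finset.univ) (f := fun _ : GolayPt => (4 : ℤ)) (g := fun j => (v : GolayPt → ℤ) j ^ 2)
      fun j _ => by
        have := hveven j; have := hne j
        have h : (v : GolayPt → ℤ) j ≤ -2 ∨ 2 ≤ (v : GolayPt → ℤ) j := by omega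
        rcases h with h | h <;> nlinarith
    have hn' := hxv.sqNorm_eq.le.trans hn
    rw [Finset.sum_const, Finset.card_univ, show Fintype.card GolayPt = 24 from rfl] at this
    unfold sqNorm at hn'
    simp at this
    simp at hn'
    omega
  obtain ⟨w, hvw, hw⟩ := even_to_odd v hveven (p := p0) (q := r) (by omega)
  exact Or.inr ⟨w, hxv.trans hvw, hw⟩

theorem genT_mem : toPerm genT ∈ M24 := toPerm_mem_M24 (List.all_eq_true.1 inM24_gens genT (by simp))

/-- Transitivity on the minimal vectors. -/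
theorem trans_min {v w : ↥leechLattice} (hv : sqNorm (v : GolayPt → ℤ) = 32) (hw : sqNorm (w : GolayPt → ℤ) = 32) :
    Same v w := by
  have key : ∀ v : ↥leechLattice, sqNorm (v : GolayPt → ℤ) = 32 → ∃ y, Same v y ∧
      (∀ i, (y : GolayPt → ℤ) i = 1 ∨ (y : GolayPt → ℤ) i = -3 ∨ (y : GolayPt → ℤ) i = 5) ∧
      (posOf y (-3)).card = 1 ∧ (posOf y 5).card = 0 := by
    intro v hv
    rcases to_odd v (fun h => by rw [h] at hv; simp [sqNorm] at hv) (by omega) with ⟨i, h⟩ | ⟨y, hvy, hy⟩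
    · rcases h with h | h <;> rw [h] at hv <;> simp [sqNorm, Pi.single_apply] at hv
    · obtain ⟨u, hyu, hu, hN, -⟩ := odd_classify y hy (by rw [hvy.sqNorm_eq]; omega)
      rw [hvy.sqNorm_eq, hv] at hN
      exact ⟨u, hvy.trans hyu, hu, by omega, by omega⟩
  obtain ⟨a, hva, ha, ha1, ha2⟩ := key v hv
  obtain ⟨b, hwb, hb, hb1, hb2⟩ := key w hw
  exact (hva.trans (same_normal ha hb (by omega) (by omega) (by omega))).trans hwb.symm

theorem five_check : check (fun p => if p = none then (5 : ℤ) else 1) = true := by decide +kernel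

/-- An odd vector of norm 48 with one coordinate of absolute value five. -/
def vFive : ↥leechLattice := ⟨fun p => if p = none then (5 : ℤ) else 1, mem_of_check five_check⟩

theorem vFive_shape : sqNorm (vFive : GolayPt → ℤ) = 48 ∧
    (Finset.univ.filter fun i => (vFive : GolayPt → ℤ) i = 3 ∨ (vFive : GolayPt → ℤ) i = -3).card = 0 ∧
    (∀ i, (vFive : GolayPt → ℤ) i % 2 = 1) ∧
    (Finset.univ.filter fun i => xi (vFive : GolayPt → ℤ) i = 3 ∨ xi (vFive : GolayPt → ℤ) i = -3).card = 3 ∧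
    (∀ i, xi (vFive : GolayPt → ℤ) i % 2 = 1) := by
  refine ⟨?_, ?_, ?_, ?_, ?_⟩ <;> decide +kernel

/-- Transitivity on the vectors of norm 48. -/
theorem trans_48 {v w : ↥leechLattice} (hv : sqNorm (v : GolayPt → ℤ) = 48) (hw : sqNorm (w : GolayPt → ℤ) = 48) :
    Same v w := by
  suffices key : ∀ v : ↥leechLattice, sqNorm (v : GolayPt → ℤ) = 48 → Same v vFive from (key v hv).trans (key w hw).symm
  intro v hv
  obtain ⟨s1, s2, s3, s4, s5⟩ := vFive_shape
  obtain ⟨a, ha, ha1, haN, ha3⟩ := odd_classify vFive s3 (by omega)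
  have hxv : Same vFive (xiCo • vFive) := ⟨_, rfl⟩
  obtain ⟨b, hb, hb1, hbN, hb3⟩ := odd_classify (xiCo • vFive) (fun i => by rw [coe_xiCo]; exact s5 i)
    (by rw [hxv.sqNorm_eq]; omega)
  rw [s2] at ha3
  rw [show (Finset.univ.filter fun i => ((xiCo • vFive : ↥leechLattice) : GolayPt → ℤ) i = 3 ∨
    ((xiCo • vFive : ↥leechLattice) : GolayPt → ℤ) i = -3).card = 3 from s4] at hb3
  rw [s1] at haN
  rw [hxv.sqNorm_eq, s1] at hbN
  rcases to_odd v (fun h => by rw [h] at hv; simp [sqNorm] at hv) (by omega) with ⟨i, h⟩ | ⟨y, hvy, hy⟩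
  · rcases h with h | h <;> rw [h] at hv <;> simp [sqNorm, Pi.single_apply] at hv
  obtain ⟨u, hyu, hu, hN, -⟩ := odd_classify y hy (by rw [hvy.sqNorm_eq]; omega)
  rw [hvy.sqNorm_eq, hv] at hN
  by_cases h5 : (posOf u 5).card = 0
  · exact ((hvy.trans hyu).trans (same_normal hu hb1 (by omega) (by omega) (by omega))).trans (hb.symm.trans hxv.symm)
  · exact ((hvy.trans hyu).trans (same_normal hu ha1 (by omega) (by omega) (by omega))).trans ha.symm

end Cfsg.Agent.Lib.Leech
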