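import Cfsg.Agent.Lib.Leech.Co3Data
import Cfsg.Agent.Lib.Leech.Dots
import Cfsg.Agent.Lib.Leech.Orbit

/-!
Kernel checks for the orbits of the stabilizer of a vector of norm 48.
-/

set_option autoImplicit false
set_option maxRecDepth 100000

namespace Cfsg.Agent.Lib.Leech

open Cfsg Golay

/-- The classes for the vector with one special coordinate. -/
def fiveCls : List (ℤ × Bool) := [(1, false), (1, true), (5, false), (5, true)]

theorem five_counts : (clsOK (vFive : GolayPt → ℤ) fiveCls &&
    (wsum (cntP fiveCls 32 24) (table (vFive : GolayPt → ℤ) fiveCls) == 552) &&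
    (wsum (cntP fiveCls 32 (-16)) (table (vFive : GolayPt → ℤ) fiveCls) == 11178)) = true := by decide +kernel

theorem pair_orbit_ok : orbitOK Co3Orb.gens Co3Orb.pairTree Co3Orb.pairStart 552 = true := by decide +kernel

theorem neg_orbit_ok : orbitOK Co3Orb.gens Co3Orb.hsTree 9933566065615327173164223714701502297802788 11178 = true := by decide +kernel

end Cfsg.Agent.Lib.Leech
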