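import Cfsg.Agent.Lib.Leech.Words

/-! Generators and spanning trees for the stabilizer of a vector of norm 48. -/

set_option autoImplicit false
set_option maxRecDepth 20000

namespace Cfsg.Agent.Lib.Leech.Co3Orb

/-- Generators. -/
def gens : List (List Op) := [
  [.perm 958241225628886311854360080399355021],
  [.perm 984639527609615198651048301965921954],
  [.sext, .flip 8241104, .perm 552008174849838304979606382336911475, .flip 8241104, .sext, .perm 262498328562369344188227987756944561]]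

def five : ℕ := 13075139297948014163340882439618235763923041

def pairStart : ℕ := 12721159215431655065856188498782547486050340

def hsStart : ℕ := 12721159215431655065856188498782547486050332

def pairTree_0 : List (ℕ × ℕ) := [
  (0, 0), (0, 0), (0, 0), (0, 0), (2, 0), (2, 0), (1, 0), (1, 0), (1, 5), (0, 0), (2, 1), (1, 0), (2, 0), (2, 2),
  (2, 3), (0, 0), (0, 0), (0, 0), (1, 1), (1, 2), (0, 0), (2, 0), (1, 2), (1, 0), (2, 2), (2, 3), (1, 0), (2, 1),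
  (0, 0), (1, 1), (1, 5), (0, 0), (2, 0), (0, 0), (0, 0), (1, 1), (1, 2), (0, 0), (2, 1), (2, 4), (2, 0), (0, 0),
  (0, 0), (2, 1), (2, 2), (2, 4), (0, 0), (0, 0), (0, 0), (0, 0), (2, 1), (1, 2), (2, 0), (1, 0), (2, 3), (1, 0),
  (0, 0), (2, 1), (2, 2), (0, 0), (1, 4), (1, 0), (0, 0), (2, 3), (0, 0), (2, 1), (1, 3), (0, 0), (1, 0), (2, 0),
  (1, 0), (2, 3), (1, 2), (1, 0), (0, 0), (1, 1), (2, 3), (0, 0), (1, 0), (2, 1), (2, 0), (1, 3), (0, 0), (1, 1),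
  (0, 0), (2, 2), (2, 2), (0, 0), (1, 1), (2, 0), (2, 2), (2, 0), (2, 5), (0, 0), (0, 0), (0, 0), (1, 2), (0, 0),
  (2, 0), (2, 2), (2, 2), (0, 0), (2, 1), (1, 3), (1, 0), (0, 0), (2, 2), (1, 5), (1, 0), (0, 0), (2, 0), (0, 0),
  (1, 1), (2, 4), (0, 0), (0, 0), (1, 0), (1, 0), (2, 2), (2, 0), (1, 3), (2, 1), (0, 0), (2, 0), (1, 2), (2, 0),
  (2, 2), (1, 3), (1, 0), (0, 0), (1, 1), (2, 2), (2, 0), (0, 0), (1, 1), (2, 1), (2, 4), (1, 0), (1, 0), (1, 0),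
  (2, 2), (0, 0), (1, 1), (2, 0), (2, 2), (2, 3), (0, 0), (2, 0), (2, 2), (2, 0), (2, 0), (2, 7), (0, 0), (2, 1),
  (0, 0), (1, 0), (1, 0), (2, 1), (2, 2), (2, 0), (1, 3), (1, 0), (1, 0), (2, 2), (1, 0), (1, 0), (2, 2), (2, 0),
  (2, 4), (0, 0), (0, 0), (2, 0), (1, 3), (0, 0), (1, 1), (2, 1), (0, 0), (1, 1), (2, 3), (0, 0), (1, 0), (1, 2),
  (0, 0), (1, 0), (1, 2), (2, 1), (1, 0), (2, 3), (2, 0), (2, 0), (1, 8), (0, 0), (0, 0), (1, 0), (2, 0), (0, 0),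
  (0, 0), (2, 2), (1, 4), (2, 0), (0, 0), (0, 0), (1, 0), (2, 1), (1, 2), (2, 0), (1, 3), (0, 0), (1, 0), (2, 1),
  (1, 2), (1, 0), (0, 0), (2, 1), (2, 4), (0, 0), (1, 0), (2, 2), (1, 0), (2, 5), (0, 0), (1, 1), (0, 0), (0, 0),
  (1, 0), (1, 2), (2, 1), (1, 0), (1, 0), (2, 2), (2, 3), (0, 0), (0, 0), (1, 2), (2, 1), (0, 0), (2, 4), (0, 0),
  (0, 0), (1, 1), (2, 1), (2, 2), (0, 0), (1, 1), (0, 0), (1, 1), (1, 6), (0, 0), (2, 0), (1, 0), (0, 0), (0, 0),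
  (2, 2), (1, 0), (2, 3), (0, 0), (2, 1), (1, 0), (2, 1), (2, 5), (0, 0), (2, 0), (1, 0), (1, 3), (0, 0), (1, 0),
  (2, 2), (0, 0), (1, 0), (2, 2), (0, 0), (2, 6), (0, 0), (0, 0), (0, 0), (0, 0), (2, 1), (2, 0), (2, 3), (0, 0),
  (1, 0), (2, 1), (2, 2), (1, 3), (0, 0), (0, 0), (1, 1), (2, 1), (1, 2), (2, 0), (2, 2), (0, 0), (2, 1), (2, 0),
  (2, 4), (1, 0), (1, 0), (0, 0), (2, 2), (2, 0), (2, 3), (2, 0), (0, 0), (1, 1), (1, 0), (1, 6), (0, 0), (0, 0),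
  (0, 0), (2, 1), (1, 2), (0, 0), (2, 2), (0, 0), (1, 0), (2, 1), (1, 2), (2, 0), (1, 4), (0, 0), (1, 0), (2, 2),
  (0, 0), (1, 1), (2, 3), (0, 0), (1, 0), (2, 0), (1, 3), (2, 0), (2, 4), (0, 0), (0, 0), (0, 0), (1, 0), (1, 2),
  (1, 0), (2, 2), (0, 0), (1, 3), (0, 0), (2, 1), (1, 3), (0, 0), (0, 0), (2, 0), (1, 3), (0, 0), (2, 1), (0, 0),
  (2, 3), (0, 0), (1, 1), (2, 1), (2, 0), (2, 4), (0, 0), (0, 0), (2, 0), (2, 3), (0, 0), (2, 0), (1, 2), (1, 0),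
  (2, 2), (1, 0), (2, 7), (0, 0), (1, 0), (0, 0), (0, 0), (1, 0), (0, 0), (2, 2), (2, 0), (1, 3), (1, 0), (2, 2),
  (1, 0), (0, 0), (1, 1), (2, 1), (1, 4), (1, 0), (0, 0), (2, 1), (2, 2), (0, 0), (0, 0), (2, 4), (0, 0), (0, 0),
  (2, 1), (1, 2), (0, 0), (2, 2), (0, 0), (1, 1), (2, 0), (2, 5), (0, 0), (1, 0), (0, 0), (2, 3), (1, 0), (1, 4),
  (0, 0), (0, 0), (0, 0), (0, 0), (0, 0), (1, 1), (1, 2), (1, 2), (0, 0), (2, 1), (2, 2), (1, 0), (1, 3), (0, 0),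
  (2, 1), (2, 2), (1, 0), (1, 0), (2, 1), (2, 2), (1, 3), (0, 0), (0, 0), (2, 0), (2, 0), (2, 3), (0, 0), (0, 0),
  (1, 4), (0, 0), (1, 0), (2, 1), (2, 2), (0, 0), (2, 1), (2, 0), (2, 4), (0, 0), (1, 1), (1, 0), (2, 1), (2, 4),
  (0, 0), (0, 0), (2, 0), (1, 2), (1, 2), (1, 0), (2, 0), (1, 0), (2, 3), (1, 0), (2, 3), (1, 0), (2, 0), (2, 0),
  (2, 6), (0, 0), (0, 0), (0, 0), (0, 0), (2, 1), (1, 2), (2, 1), (0, 0), (1, 1), (1, 0), (2, 2), (1, 3), (1, 0),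
  (0, 0), (1, 1), (1, 0), (2, 2), (2, 2), (1, 0), (0, 0), (2, 4), (0, 0), (0, 0), (2, 2), (0, 0), (0, 0), (1, 1),
  (1, 2), (2, 1), (1, 4), (0, 0), (0, 0), (2, 0), (1, 2), (1, 0), (2, 2), (1, 0)]

def pairTree_1 : List (ℕ × ℕ) := [
  (1, 0), (2, 2), (1, 3), (0, 0), (0, 0), (2, 1), (0, 0), (2, 3), (0, 0), (1, 1), (2, 1), (2, 3), (0, 0), (2, 0),
  (1, 0), (1, 3), (0, 0), (0, 0), (1, 2), (2, 1), (0, 0), (0, 0), (1, 2), (2, 3), (2, 3), (0, 0), (0, 0), (0, 0),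
  (1, 2), (2, 1), (1, 0), (2, 1), (1, 3), (0, 0), (2, 0), (1, 2), (2, 0), (2, 2), (0, 0), (2, 0), (1, 2), (2, 3),
  (0, 0), (0, 0), (1, 2), (2, 0), (2, 2), (0, 0), (1, 0), (2, 1), (2, 2)]

/-- A spanning tree. -/
def pairTree : List (ℕ × ℕ) := pairTree_0 ++ pairTree_1

def hsTree_0 : List (ℕ × ℕ) := [
  (0, 0), (0, 0), (0, 0), (0, 0), (2, 0), (0, 0), (1, 0), (0, 0), (1, 0), (1, 2), (0, 0), (1, 1), (2, 3), (0, 0),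
  (2, 0), (1, 2), (1, 0), (2, 0), (2, 2), (1, 4), (1, 0), (0, 0), (2, 1), (0, 0), (1, 0), (2, 0), (2, 5), (0, 0),
  (0, 0), (1, 0), (2, 1), (1, 2), (0, 0), (1, 3), (1, 0), (2, 2), (0, 0), (2, 1), (0, 0), (1, 0), (1, 2), (2, 5),
  (0, 0), (0, 0), (0, 0), (1, 2), (1, 0), (2, 2), (2, 2), (0, 0), (0, 0), (2, 0), (0, 0), (1, 4), (0, 0), (0, 0),
  (2, 2), (0, 0), (2, 3), (0, 0), (1, 1), (2, 0), (2, 2), (1, 6), (0, 0), (0, 0), (2, 0), (1, 0), (1, 0), (2, 1),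
  (2, 2), (0, 0), (2, 1), (1, 0), (2, 1), (2, 5), (0, 0), (0, 0), (1, 0), (0, 0), (2, 2), (1, 0), (0, 0), (1, 4),
  (1, 2), (0, 0), (0, 0), (1, 1), (1, 2), (0, 0), (1, 1), (2, 2), (0, 0), (1, 1), (2, 3), (0, 0), (1, 0), (1, 2),
  (2, 0), (1, 0), (2, 3), (1, 0), (1, 0), (2, 2), (1, 0), (2, 6), (1, 0), (0, 0), (0, 0), (0, 0), (1, 1), (2, 1),
  (2, 0), (2, 3), (1, 0), (2, 0), (1, 4), (0, 0), (2, 2), (0, 0), (0, 0), (1, 0), (2, 1), (1, 2), (2, 0), (1, 3),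
  (1, 0), (2, 1), (1, 0), (1, 0), (2, 2), (2, 3), (2, 0), (2, 0), (2, 0), (2, 6), (0, 0), (0, 0), (0, 0), (1, 0),
  (2, 1), (1, 2), (2, 0), (2, 2), (0, 0), (1, 1), (1, 3), (1, 0), (0, 0), (2, 2), (1, 3), (1, 0), (0, 0), (2, 2),
  (0, 0), (1, 0), (2, 1), (2, 2), (2, 0), (2, 4), (0, 0), (0, 0), (0, 0), (1, 1), (1, 0), (1, 3), (1, 2), (0, 0),
  (0, 0), (1, 2), (0, 0), (1, 1), (2, 1), (2, 2), (0, 0), (1, 1), (2, 1), (2, 3), (0, 0), (0, 0), (2, 0), (2, 2),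
  (1, 2), (0, 0), (1, 1), (0, 0), (2, 3), (0, 0), (2, 1), (2, 7), (0, 0), (0, 0), (0, 0), (0, 0), (0, 0), (1, 1),
  (2, 0), (2, 3), (0, 0), (1, 0), (2, 0), (1, 5), (2, 0), (2, 2), (0, 0), (0, 0), (0, 0), (1, 2), (0, 0), (1, 1),
  (2, 1), (0, 0), (1, 4), (0, 0), (1, 1), (0, 0), (1, 0), (2, 3), (2, 0), (2, 3), (0, 0), (1, 1), (1, 0), (0, 0),
  (2, 3), (1, 4), (1, 0), (0, 0), (1, 0), (2, 1), (2, 2), (0, 0), (1, 0), (2, 1), (2, 0), (1, 3), (1, 0), (2, 1),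
  (2, 4), (0, 0), (1, 0), (1, 2), (0, 0), (2, 1), (0, 0), (2, 3), (2, 0), (0, 0), (2, 5), (0, 0), (0, 0), (0, 0),
  (2, 0), (2, 2), (1, 0), (1, 4), (0, 0), (0, 0), (2, 2), (0, 0), (0, 0), (1, 1), (2, 1), (2, 2), (1, 0), (2, 1),
  (2, 4), (0, 0), (1, 4), (0, 0), (0, 0), (1, 0), (2, 0), (1, 3), (2, 0), (0, 0), (2, 1), (0, 0), (0, 0), (1, 2),
  (2, 4), (0, 0), (1, 1), (0, 0), (1, 1), (0, 0), (2, 3), (1, 0), (0, 0), (2, 2), (0, 0), (1, 1), (2, 1), (1, 5),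
  (0, 0), (0, 0), (0, 0), (2, 1), (2, 2), (2, 0), (2, 3), (0, 0), (0, 0), (2, 0), (2, 2), (1, 2), (1, 0), (2, 0),
  (2, 2), (0, 0), (2, 1), (2, 5), (0, 0), (0, 0), (0, 0), (2, 1), (0, 0), (1, 3), (0, 0), (2, 1), (1, 0), (2, 1),
  (2, 3), (1, 0), (2, 1), (2, 3), (0, 0), (0, 0), (1, 0), (1, 2), (0, 0), (2, 2), (2, 2), (0, 0), (2, 0), (1, 2),
  (0, 0), (1, 1), (2, 2), (2, 0), (1, 0), (2, 7), (0, 0), (0, 0), (0, 0), (1, 0), (2, 2), (0, 0), (1, 1), (1, 0),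
  (2, 2), (0, 0), (1, 1), (1, 4), (1, 0), (0, 0), (1, 1), (2, 2), (2, 2), (0, 0), (2, 1), (0, 0), (1, 0), (2, 1),
  (1, 2), (0, 0), (1, 1), (2, 1), (1, 5), (0, 0), (0, 0), (1, 0), (2, 1), (1, 0), (1, 3), (0, 0), (2, 1), (1, 0),
  (1, 4), (0, 0), (0, 0), (0, 0), (2, 1), (2, 0), (2, 3), (0, 0), (1, 3), (0, 0), (1, 1), (2, 1), (2, 2), (0, 0),
  (1, 0), (1, 2), (0, 0), (2, 4), (0, 0), (0, 0), (1, 0), (1, 2), (0, 0), (2, 1), (1, 3), (0, 0), (1, 1), (2, 1),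
  (1, 0), (2, 1), (2, 3), (0, 0), (1, 0), (1, 2), (1, 0), (1, 0), (2, 2), (2, 5), (0, 0), (0, 0), (2, 0), (1, 2),
  (1, 0), (0, 0), (2, 2), (2, 0), (2, 3), (0, 0), (0, 0), (1, 4), (0, 0), (0, 0), (1, 0), (2, 1), (2, 2), (2, 0),
  (1, 3), (1, 0), (0, 0), (2, 2), (1, 0), (2, 3), (0, 0), (2, 1), (2, 3), (0, 0), (1, 0), (0, 0), (2, 2), (1, 0),
  (1, 3), (1, 0), (2, 1), (0, 0), (2, 3), (0, 0), (0, 0), (0, 0), (1, 3), (1, 0), (2, 1), (2, 2), (1, 0), (0, 0),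
  (2, 2), (1, 8), (0, 0), (2, 0), (0, 0), (0, 0), (1, 0), (0, 0), (2, 1), (2, 2), (0, 0), (2, 0), (1, 2), (1, 0),
  (2, 1), (1, 0), (2, 3), (0, 0), (2, 1), (1, 4), (1, 0), (2, 0), (0, 0), (2, 1), (2, 3), (0, 0), (2, 3), (0, 0),
  (2, 0), (2, 2), (0, 0), (1, 1), (2, 1), (0, 0), (1, 5), (0, 0), (1, 0), (2, 1)]

def hsTree_1 : List (ℕ × ℕ) := [
  (2, 0), (1, 3), (1, 0), (0, 0), (1, 1), (2, 1), (0, 0), (2, 1), (2, 3), (0, 0), (2, 0), (1, 2), (1, 0), (2, 2),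
  (0, 0), (2, 1), (0, 0), (2, 5), (0, 0), (1, 1), (2, 0), (2, 2), (2, 3), (0, 0), (0, 0), (0, 0), (2, 1), (0, 0),
  (2, 1), (1, 0), (1, 4), (0, 0), (0, 0), (2, 1), (1, 2), (2, 0), (2, 3), (1, 0), (2, 1), (1, 3), (0, 0), (0, 0),
  (1, 0), (1, 3), (0, 0), (0, 0), (1, 2), (2, 1), (2, 2), (0, 0), (1, 1), (0, 0), (2, 2), (2, 0), (2, 4), (2, 0),
  (0, 0), (2, 0), (1, 2), (0, 0), (2, 1), (2, 2), (2, 6), (0, 0), (0, 0), (0, 0), (0, 0), (0, 0), (2, 0), (2, 2),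
  (2, 0), (2, 3), (0, 0), (0, 0), (2, 1), (1, 2), (2, 1), (0, 0), (1, 4), (1, 0), (0, 0), (2, 0), (1, 2), (2, 0),
  (0, 0), (2, 3), (1, 0), (2, 4), (0, 0), (0, 0), (1, 0), (1, 2), (0, 0), (1, 3), (0, 0), (0, 0), (1, 2), (1, 0),
  (2, 1), (2, 2), (1, 0), (2, 1), (2, 3), (0, 0), (1, 0), (2, 0), (1, 6), (1, 0), (0, 0), (2, 0), (2, 0), (1, 3),
  (0, 0), (1, 1), (1, 0), (2, 2), (2, 3), (0, 0), (0, 0), (0, 0), (2, 1), (2, 2), (1, 2), (2, 0), (2, 2), (0, 0),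
  (1, 0), (2, 0), (1, 3), (0, 0), (1, 0), (1, 2), (2, 1), (2, 2), (1, 0), (2, 5), (0, 0), (0, 0), (2, 0), (1, 2),
  (1, 0), (1, 0), (2, 2), (2, 2), (0, 0), (1, 1), (1, 0), (2, 2), (0, 0), (1, 1), (1, 4), (1, 0), (2, 1), (0, 0),
  (0, 0), (1, 0), (2, 3), (2, 3), (0, 0), (0, 0), (1, 0), (1, 2), (2, 0), (2, 2), (1, 2), (0, 0), (1, 0), (2, 3),
  (0, 0), (1, 0), (1, 2), (2, 1), (1, 0), (1, 6), (0, 0), (0, 0), (0, 0), (0, 0), (0, 0), (2, 2), (1, 0), (1, 3),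
  (0, 0), (2, 0), (1, 2), (0, 0), (2, 1), (2, 2), (2, 0), (0, 0), (2, 4), (0, 0), (0, 0), (1, 2), (1, 0), (2, 2),
  (2, 0), (1, 4), (0, 0), (1, 1), (0, 0), (2, 1), (2, 0), (2, 3), (0, 0), (0, 0), (1, 2), (2, 0), (1, 5), (0, 0),
  (0, 0), (1, 0), (1, 0), (2, 2), (1, 2), (0, 0), (1, 1), (2, 2), (2, 0), (2, 3), (0, 0), (0, 0), (1, 1), (2, 1),
  (0, 0), (2, 1), (2, 3), (0, 0), (2, 0), (2, 5), (0, 0), (0, 0), (1, 0), (1, 0), (2, 2), (0, 0), (1, 1), (2, 0),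
  (1, 4), (0, 0), (2, 0), (1, 2), (2, 2), (1, 0), (2, 0), (1, 4), (0, 0), (1, 1), (0, 0), (1, 1), (2, 0), (2, 2),
  (2, 2), (0, 0), (1, 1), (2, 0), (2, 2), (2, 3), (0, 0), (0, 0), (2, 2), (0, 0), (1, 1), (0, 0), (2, 1), (2, 2),
  (0, 0), (2, 6), (0, 0), (0, 0), (0, 0), (0, 0), (1, 0), (2, 1), (1, 2), (2, 2), (0, 0), (0, 0), (1, 2), (1, 0),
  (2, 2), (0, 0), (1, 4), (2, 0), (0, 0), (2, 0), (1, 0), (1, 3), (0, 0), (2, 1), (2, 4), (1, 0), (1, 0), (2, 2),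
  (2, 0), (1, 4), (0, 0), (0, 0), (1, 0), (2, 0), (1, 3), (0, 0), (2, 0), (0, 0), (1, 3), (2, 1), (0, 0), (1, 1),
  (2, 1), (2, 3), (0, 0), (0, 0), (1, 2), (0, 0), (1, 1), (2, 2), (1, 0), (1, 4), (1, 0), (0, 0), (0, 0), (2, 2),
  (2, 0), (2, 4), (1, 0), (0, 0), (1, 0), (2, 1), (1, 2), (1, 0), (2, 2), (0, 0), (1, 0), (2, 1), (1, 2), (2, 0),
  (2, 4), (0, 0), (1, 0), (1, 2), (1, 0), (2, 1), (2, 2), (2, 4), (0, 0), (0, 0), (0, 0), (2, 1), (1, 0), (2, 0),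
  (2, 4), (0, 0), (1, 0), (2, 2), (1, 3), (0, 0), (2, 0), (0, 0), (2, 1), (1, 3), (0, 0), (0, 0), (0, 0), (1, 2),
  (2, 1), (1, 2), (2, 2), (0, 0), (1, 0), (1, 2), (1, 0), (2, 2), (2, 3), (1, 0), (0, 0), (0, 0), (1, 1), (1, 2),
  (1, 0), (0, 0), (2, 3), (0, 0), (1, 1), (2, 3), (0, 0), (1, 0), (2, 1), (1, 2), (1, 0), (2, 1), (2, 8), (0, 0),
  (0, 0), (0, 0), (0, 0), (1, 0), (2, 0), (0, 0), (2, 1), (2, 4), (0, 0), (1, 0), (1, 2), (1, 0), (2, 1), (1, 0),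
  (2, 3), (0, 0), (1, 0), (1, 0), (2, 1), (1, 3), (2, 1), (1, 0), (0, 0), (2, 2), (0, 0), (1, 6), (0, 0), (0, 0),
  (1, 0), (2, 0), (2, 2), (2, 0), (2, 3), (1, 0), (2, 0), (2, 2), (2, 0), (2, 4), (2, 2), (1, 0), (0, 0), (0, 0),
  (1, 1), (1, 0), (1, 3), (0, 0), (0, 0), (1, 1), (1, 2), (1, 0), (2, 1), (2, 3), (0, 0), (1, 1), (2, 1), (2, 3),
  (0, 0), (1, 0), (2, 0), (1, 3), (2, 0), (2, 0), (2, 3), (1, 0), (1, 0), (2, 1), (2, 2), (1, 5), (0, 0), (0, 0),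
  (0, 0), (2, 0), (1, 2), (0, 0), (2, 1), (2, 0), (2, 3), (2, 2), (0, 0), (1, 0), (2, 2), (1, 3), (2, 0), (0, 0),
  (0, 0), (1, 0), (1, 2), (1, 2), (2, 0), (2, 2), (0, 0), (2, 1), (1, 0), (2, 1), (2, 5), (0, 0), (0, 0), (0, 0),
  (2, 0), (1, 2), (2, 1), (1, 2), (1, 0), (0, 0), (2, 1), (2, 2), (1, 3), (0, 0)]

def hsTree_2 : List (ℕ × ℕ) := [
  (2, 0), (0, 0), (0, 0), (2, 2), (2, 0), (1, 4), (2, 0), (2, 2), (0, 0), (2, 0), (1, 2), (2, 1), (2, 0), (2, 4),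
  (0, 0), (0, 0), (0, 0), (1, 1), (2, 1), (1, 2), (1, 0), (2, 1), (2, 3), (0, 0), (1, 0), (2, 1), (2, 2), (2, 5),
  (0, 0), (0, 0), (0, 0), (2, 1), (1, 2), (0, 0), (2, 0), (2, 2), (2, 0), (2, 3), (0, 0), (0, 0), (2, 0), (1, 0),
  (1, 3), (0, 0), (2, 2), (2, 0), (1, 3), (1, 0), (2, 1), (2, 4), (0, 0), (0, 0), (1, 0), (2, 1), (2, 0), (1, 3),
  (1, 0), (0, 0), (2, 2), (1, 0), (2, 1), (2, 3), (2, 0), (1, 3), (0, 0), (2, 1), (2, 2), (0, 0), (0, 0), (0, 0),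
  (1, 1), (2, 1), (1, 0), (1, 3), (1, 0), (1, 3), (0, 0), (0, 0), (2, 2), (2, 0), (2, 3), (0, 0), (1, 0), (1, 2),
  (2, 1), (1, 6), (0, 0), (0, 0), (0, 0), (0, 0), (0, 0), (2, 1), (0, 0), (1, 3), (1, 0), (2, 1), (0, 0), (2, 3),
  (0, 0), (1, 1), (0, 0), (1, 4), (2, 1), (0, 0), (1, 0), (2, 0), (1, 3), (1, 0), (1, 0), (2, 1), (2, 3), (0, 0),
  (1, 1), (1, 0), (2, 2), (0, 0), (1, 5), (2, 1), (0, 0), (0, 0), (1, 0), (2, 1), (2, 0), (1, 3), (2, 0), (1, 0),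
  (2, 3), (0, 0), (0, 0), (1, 2), (1, 0), (2, 2), (1, 3), (0, 0), (1, 1), (1, 0), (2, 1), (2, 2), (1, 0), (0, 0),
  (2, 2), (0, 0), (2, 4), (0, 0), (0, 0), (1, 1), (1, 2), (2, 0), (2, 2), (1, 4), (0, 0), (0, 0), (0, 0), (2, 0),
  (0, 0), (2, 3), (1, 0), (2, 1), (2, 0), (1, 4), (1, 0), (2, 0), (2, 0), (2, 4), (0, 0), (1, 1), (1, 0), (2, 0),
  (2, 2), (1, 0), (2, 3), (1, 0), (2, 0), (1, 5), (0, 0), (1, 0), (2, 0), (1, 0), (1, 0), (2, 2), (2, 3), (0, 0),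
  (1, 3), (0, 0), (2, 1), (2, 0), (2, 0), (2, 4), (0, 0), (0, 0), (2, 0), (1, 2), (0, 0), (1, 3), (1, 0), (2, 2),
  (0, 0), (0, 0), (1, 1), (0, 0), (1, 3), (0, 0), (2, 1), (1, 0), (2, 3), (0, 0), (2, 1), (2, 5), (0, 0), (0, 0),
  (1, 0), (0, 0), (1, 3), (1, 0), (1, 0), (2, 3), (0, 0), (0, 0), (2, 0), (1, 5), (0, 0), (1, 1), (0, 0), (1, 1),
  (2, 1), (0, 0), (2, 3), (0, 0), (1, 1), (0, 0), (1, 1), (2, 4), (0, 0), (0, 0), (1, 2), (2, 1), (0, 0), (1, 1),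
  (2, 5), (0, 0), (0, 0), (0, 0), (1, 0), (1, 2), (2, 1), (0, 0), (2, 1), (0, 0), (1, 0), (1, 2), (2, 1), (2, 0),
  (1, 5), (0, 0), (2, 0), (1, 0), (2, 1), (2, 0), (2, 4), (0, 0), (1, 1), (2, 1), (1, 4), (1, 0), (0, 0), (1, 1),
  (0, 0), (2, 2), (0, 0), (2, 1), (2, 0), (2, 0), (2, 5), (0, 0), (1, 1), (1, 0), (2, 2), (0, 0), (0, 0), (1, 2),
  (1, 0), (2, 1), (2, 0), (2, 3), (1, 0), (2, 5), (1, 0), (1, 0), (2, 2), (0, 0), (2, 1), (2, 5), (0, 0), (0, 0),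
  (0, 0), (1, 0), (2, 0), (2, 2), (1, 2), (1, 0), (0, 0), (2, 1), (0, 0), (2, 3), (1, 0), (2, 1), (2, 3), (0, 0),
  (0, 0), (0, 0), (1, 2), (0, 0), (2, 1), (2, 2), (0, 0), (2, 1), (1, 3), (1, 0), (0, 0), (2, 2), (0, 0), (2, 1),
  (2, 3), (0, 0), (0, 0), (1, 1), (2, 1), (1, 2), (2, 0), (1, 5), (0, 0), (0, 0), (1, 0), (1, 2), (1, 2), (1, 0),
  (1, 0), (2, 1), (1, 0), (2, 3), (0, 0), (2, 3), (1, 0), (1, 0), (2, 1), (2, 4), (0, 0), (0, 0), (1, 0), (2, 2),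
  (2, 0), (2, 3), (0, 0), (0, 0), (1, 1), (2, 1), (1, 2), (0, 0), (0, 0), (1, 2), (2, 1), (2, 0), (2, 3), (0, 0),
  (1, 1), (1, 0), (2, 1), (2, 2), (1, 0), (1, 6), (0, 0), (0, 0), (0, 0), (2, 0), (1, 0), (2, 1), (2, 0), (2, 4),
  (0, 0), (1, 1), (1, 0), (1, 4), (1, 0), (2, 1), (2, 2), (0, 0), (0, 0), (0, 0), (2, 1), (2, 0), (1, 4), (2, 0),
  (1, 0), (2, 3), (1, 3), (0, 0), (0, 0), (2, 1), (2, 0), (1, 0), (1, 4), (0, 0), (1, 0), (2, 2), (0, 0), (2, 3),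
  (1, 0), (0, 0), (1, 1), (2, 1), (2, 2), (2, 0), (0, 0), (2, 5), (0, 0), (0, 0), (0, 0), (0, 0), (1, 2), (2, 1),
  (1, 0), (1, 3), (0, 0), (2, 1), (1, 3), (1, 0), (0, 0), (2, 2), (0, 0), (1, 0), (1, 2), (2, 0), (1, 0), (2, 5),
  (0, 0), (0, 0), (2, 0), (1, 2), (2, 0), (2, 2), (0, 0), (1, 1), (1, 3), (0, 0), (0, 0), (1, 2), (2, 0), (2, 2),
  (0, 0), (2, 3), (0, 0), (1, 1), (1, 0), (2, 1), (0, 0), (2, 3), (2, 0), (0, 0), (2, 1), (2, 7), (0, 0), (0, 0),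
  (0, 0), (1, 0), (1, 2), (1, 0), (2, 1), (0, 0), (2, 3), (0, 0), (1, 0), (1, 2), (0, 0), (1, 1), (2, 1), (1, 0),
  (2, 3), (0, 0), (2, 1), (2, 4), (1, 0), (2, 1), (0, 0), (1, 1), (2, 0), (1, 5), (0, 0), (0, 0), (0, 0), (1, 1),
  (1, 0), (2, 2), (0, 0), (1, 1), (2, 1), (2, 3), (1, 0), (2, 0), (2, 2), (1, 3)]

def hsTree_3 : List (ℕ × ℕ) := [
  (0, 0), (1, 0), (1, 0), (2, 2), (1, 2), (0, 0), (0, 0), (1, 2), (0, 0), (2, 1), (2, 3), (1, 0), (2, 3), (0, 0),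
  (0, 0), (0, 0), (1, 3), (0, 0), (0, 0), (2, 1), (1, 2), (2, 2), (2, 3), (1, 0), (0, 0), (0, 0), (1, 1), (1, 2),
  (2, 0), (2, 2), (0, 0), (1, 0), (2, 1), (1, 0), (1, 3), (2, 1), (0, 0), (2, 1), (2, 4), (0, 0), (1, 0), (1, 0),
  (2, 1), (1, 3), (0, 0), (0, 0), (2, 1), (1, 2), (0, 0), (2, 2), (2, 2), (0, 0), (0, 0), (1, 1), (2, 1), (1, 2),
  (0, 0), (2, 0), (2, 2), (2, 2), (1, 0), (2, 1), (1, 9), (0, 0), (2, 0), (0, 0), (0, 0), (0, 0), (2, 1), (1, 0),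
  (2, 0), (1, 0), (2, 3), (2, 0), (1, 4), (0, 0), (0, 0), (2, 1), (2, 0), (0, 0), (1, 1), (1, 4), (2, 0), (1, 0),
  (2, 1), (2, 0), (2, 4), (0, 0), (1, 0), (1, 2), (2, 1), (1, 0), (0, 0), (2, 2), (2, 0), (2, 5), (0, 0), (0, 0),
  (0, 0), (2, 0), (1, 2), (2, 1), (0, 0), (1, 3), (0, 0), (1, 1), (0, 0), (2, 1), (2, 3), (1, 2), (0, 0), (2, 0),
  (2, 0), (1, 3), (2, 2), (0, 0), (0, 0), (1, 1), (1, 0), (2, 3), (1, 0), (2, 1), (1, 5), (0, 0), (0, 0), (0, 0),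
  (0, 0), (1, 1), (2, 1), (1, 0), (1, 3), (0, 0), (2, 3), (0, 0), (0, 0), (1, 0), (1, 2), (2, 0), (2, 0), (1, 4),
  (1, 0), (2, 0), (2, 3), (0, 0), (1, 0), (1, 2), (0, 0), (2, 1), (2, 2), (2, 0), (1, 0), (1, 6), (0, 0), (2, 0),
  (0, 0), (0, 0), (1, 2), (2, 1), (1, 3), (0, 0), (2, 0), (1, 2), (1, 0), (2, 2), (2, 2), (0, 0), (1, 0), (2, 1),
  (2, 0), (1, 3), (0, 0), (1, 1), (2, 1), (1, 0), (2, 3), (0, 0), (2, 0), (2, 2), (0, 0), (1, 1), (2, 1), (2, 5),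
  (0, 0), (1, 0), (0, 0), (2, 1), (1, 0), (2, 3), (1, 0), (1, 3), (1, 0), (0, 0), (1, 1), (2, 1), (2, 2), (1, 0),
  (2, 5), (0, 0), (0, 0), (0, 0), (0, 0), (2, 0), (1, 2), (2, 1), (0, 0), (1, 3), (1, 0), (2, 0), (2, 3), (0, 0),
  (1, 1), (0, 0), (2, 1), (1, 0), (2, 3), (1, 0), (1, 0), (2, 2), (1, 4), (1, 0), (0, 0), (1, 0), (2, 2), (2, 2),
  (0, 0), (0, 0), (1, 1), (1, 2), (0, 0), (2, 1), (2, 4), (2, 0), (1, 3), (0, 0), (0, 0), (0, 0), (1, 1), (2, 1),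
  (0, 0), (1, 3), (1, 0), (2, 1), (1, 0), (2, 1), (2, 3), (0, 0), (2, 1), (1, 3), (0, 0), (0, 0), (0, 0), (1, 2),
  (2, 1), (2, 2), (1, 0), (2, 1), (2, 0), (2, 4), (0, 0), (1, 0), (0, 0), (2, 1), (1, 3), (2, 0), (1, 0), (2, 3),
  (0, 0), (2, 0), (1, 2), (2, 4), (0, 0), (0, 0), (0, 0), (2, 1), (0, 0), (2, 1), (1, 3), (0, 0), (1, 0), (0, 0),
  (2, 2), (1, 2), (1, 3), (2, 0), (0, 0), (0, 0), (2, 1), (1, 0), (2, 3), (0, 0), (2, 4), (2, 0), (0, 0), (1, 1),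
  (2, 1), (0, 0), (2, 1), (1, 8), (0, 0), (2, 0), (0, 0), (0, 0), (0, 0), (1, 1), (2, 0), (2, 0), (2, 3), (0, 0),
  (2, 0), (1, 2), (2, 1), (0, 0), (1, 4), (0, 0), (2, 0), (2, 2), (0, 0), (1, 1), (2, 1), (0, 0), (1, 1), (1, 5),
  (0, 0), (1, 0), (1, 2), (2, 0), (2, 2), (0, 0), (0, 0), (2, 0), (1, 2), (1, 2), (1, 0), (0, 0), (2, 3), (0, 0),
  (1, 1), (1, 0), (2, 2), (2, 4), (0, 0), (0, 0), (0, 0), (1, 1), (1, 0), (1, 3), (0, 0), (1, 3), (0, 0), (0, 0),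
  (1, 1), (2, 1), (0, 0), (1, 3), (0, 0), (0, 0), (2, 2), (2, 2), (2, 0), (2, 3), (0, 0), (0, 0), (2, 0), (1, 2),
  (2, 0), (2, 2), (1, 2), (1, 0), (2, 1), (2, 2), (1, 0), (2, 1), (0, 0), (2, 7), (0, 0), (0, 0), (0, 0), (0, 0),
  (0, 0), (1, 0), (1, 3), (0, 0), (1, 1), (1, 0), (2, 2), (1, 0), (2, 0), (2, 4), (0, 0), (1, 3), (0, 0), (1, 0),
  (2, 0), (1, 3), (1, 0), (2, 0), (2, 2), (2, 0), (2, 3), (0, 0), (1, 0), (2, 1), (1, 2), (2, 3), (0, 0), (0, 0),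
  (1, 0), (0, 0), (2, 2), (1, 2), (0, 0), (0, 0), (1, 2), (2, 1), (0, 0), (1, 1), (1, 4), (0, 0), (0, 0), (1, 1),
  (1, 2), (0, 0), (1, 1), (2, 2), (1, 0), (2, 3), (0, 0), (1, 0), (1, 2), (2, 0), (1, 6), (0, 0), (0, 0), (0, 0),
  (0, 0), (1, 1), (2, 1), (0, 0), (1, 1), (2, 1), (2, 0), (1, 5), (0, 0), (0, 0), (1, 0), (1, 2), (2, 1), (2, 0),
  (1, 3), (0, 0), (2, 1), (2, 2), (1, 0), (1, 0), (2, 4), (0, 0), (0, 0), (2, 2), (0, 0), (2, 1), (1, 4), (0, 0),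
  (1, 0), (1, 0), (2, 2), (0, 0), (1, 1), (2, 0), (1, 4), (0, 0), (0, 0), (0, 0), (1, 2), (0, 0), (1, 3), (2, 0),
  (0, 0), (2, 3), (0, 0), (2, 3), (1, 0), (0, 0), (1, 1), (2, 1), (2, 2), (0, 0), (2, 1), (0, 0), (1, 1), (2, 1),
  (2, 6), (0, 0), (0, 0), (1, 0), (0, 0), (2, 0), (1, 2), (0, 0), (2, 3), (0, 0)]

def hsTree_4 : List (ℕ × ℕ) := [
  (1, 1), (2, 0), (2, 2), (1, 3), (1, 0), (0, 0), (1, 1), (1, 0), (2, 3), (0, 0), (2, 3), (0, 0), (0, 0), (1, 2),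
  (1, 0), (0, 0), (2, 3), (0, 0), (2, 0), (1, 5), (0, 0), (0, 0), (0, 0), (0, 0), (1, 2), (2, 1), (2, 0), (1, 3),
  (1, 0), (2, 1), (0, 0), (1, 1), (2, 3), (0, 0), (1, 3), (0, 0), (1, 0), (2, 1), (1, 0), (1, 3), (0, 0), (2, 2),
  (2, 2), (0, 0), (0, 0), (2, 0), (1, 2), (1, 2), (1, 0), (2, 1), (0, 0), (2, 1), (2, 3), (0, 0), (0, 0), (1, 1),
  (2, 2), (2, 0), (2, 5), (0, 0), (0, 0), (0, 0), (1, 2), (0, 0), (2, 2), (0, 0), (0, 0), (2, 2), (1, 3), (0, 0),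
  (0, 0), (2, 1), (1, 2), (0, 0), (1, 0), (1, 2), (2, 2), (0, 0), (2, 1), (2, 3), (1, 0), (0, 0), (1, 1), (2, 2),
  (1, 0), (0, 0), (2, 2), (1, 0), (2, 8), (0, 0), (0, 0), (0, 0), (0, 0), (1, 0), (2, 0), (1, 3), (0, 0), (2, 0),
  (2, 2), (2, 0), (2, 0), (2, 4), (0, 0), (2, 0), (1, 2), (0, 0), (2, 1), (0, 0), (1, 1), (2, 3), (0, 0), (1, 4),
  (0, 0), (1, 0), (1, 0), (2, 0), (2, 3), (0, 0), (0, 0), (1, 2), (2, 1), (1, 0), (2, 0), (1, 5), (1, 0), (1, 0),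
  (2, 2), (0, 0), (2, 4), (0, 0), (1, 0), (0, 0), (0, 0), (1, 1), (1, 2), (2, 1), (2, 2), (1, 0), (2, 0), (1, 4),
  (0, 0), (0, 0), (1, 1), (2, 1), (1, 2), (0, 0), (1, 1), (2, 0), (2, 3), (0, 0), (1, 1), (0, 0), (2, 2), (2, 0),
  (2, 4), (0, 0), (0, 0), (2, 0), (1, 2), (2, 2), (0, 0), (1, 1), (0, 0), (2, 1), (2, 0), (2, 3), (1, 0), (1, 6),
  (0, 0), (0, 0), (1, 0), (0, 0), (2, 1), (0, 0), (1, 1), (2, 4), (2, 2), (0, 0), (1, 0), (0, 0), (2, 0), (1, 2),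
  (0, 0), (2, 1), (2, 2), (2, 0), (2, 3), (1, 0), (2, 0), (1, 4), (0, 0), (0, 0), (1, 2), (1, 0), (2, 1), (2, 3),
  (0, 0), (1, 0), (1, 0), (2, 2), (2, 0), (1, 3), (0, 0), (2, 1), (2, 2), (2, 4), (0, 0), (0, 0), (0, 0), (2, 0),
  (1, 0), (1, 3), (2, 0), (2, 0), (2, 3), (0, 0), (1, 1), (1, 0), (2, 2), (2, 0), (1, 4), (0, 0), (0, 0), (2, 1),
  (2, 3), (0, 0), (1, 0), (1, 2), (1, 0), (2, 2), (0, 0), (1, 4), (0, 0), (2, 0), (0, 0), (2, 1), (0, 0), (2, 1),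
  (1, 4), (1, 0), (2, 0), (2, 2), (2, 3), (0, 0), (0, 0), (0, 0), (1, 1), (2, 0), (2, 2), (2, 0), (1, 3), (1, 0),
  (2, 0), (2, 4), (0, 0), (0, 0), (0, 0), (2, 2), (2, 0), (1, 3), (1, 0), (1, 6), (0, 0), (0, 0), (0, 0), (0, 0),
  (2, 1), (2, 0), (2, 0), (1, 4), (2, 1), (0, 0), (0, 0), (2, 0), (1, 3), (0, 0), (0, 0), (2, 3), (0, 0), (1, 1),
  (2, 1), (0, 0), (1, 5), (0, 0), (1, 0), (0, 0), (2, 2), (0, 0), (1, 1), (1, 3), (2, 0), (2, 2), (0, 0), (2, 0),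
  (2, 0), (1, 3), (0, 0), (2, 0), (1, 2), (2, 1), (2, 2), (0, 0), (2, 1), (2, 4), (0, 0), (0, 0), (0, 0), (0, 0),
  (1, 2), (1, 0), (0, 0), (1, 4), (2, 0), (0, 0), (2, 3), (1, 0), (2, 1), (0, 0), (1, 1), (1, 4), (0, 0), (0, 0),
  (2, 0), (1, 2), (2, 1), (2, 0), (1, 3), (0, 0), (0, 0), (2, 1), (1, 2), (2, 1), (0, 0), (2, 3), (0, 0), (0, 0),
  (2, 1), (1, 2), (0, 0), (1, 1), (2, 4), (0, 0), (2, 0), (0, 0), (1, 6), (0, 0), (0, 0), (1, 0), (2, 1), (0, 0),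
  (1, 1), (0, 0), (1, 4), (1, 0), (0, 0), (2, 2), (0, 0), (1, 1), (2, 3), (1, 0), (1, 0), (0, 0), (2, 2), (2, 2),
  (1, 3), (0, 0), (0, 0), (0, 0), (2, 0), (1, 2), (2, 2), (2, 0), (2, 0), (2, 5), (0, 0), (1, 0), (2, 1), (1, 0),
  (1, 0), (1, 4), (1, 0), (2, 1), (0, 0), (2, 3), (0, 0), (2, 1), (0, 0), (2, 1), (2, 5), (0, 0), (0, 0), (0, 0),
  (0, 0), (2, 0), (1, 2), (1, 2), (0, 0), (0, 0), (2, 2), (0, 0), (2, 3), (0, 0), (1, 0), (2, 0), (1, 3), (0, 0),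
  (2, 1), (0, 0), (2, 3), (2, 0), (1, 4), (0, 0), (0, 0), (1, 1), (2, 1), (1, 2), (0, 0), (0, 0), (1, 1), (1, 2),
  (2, 3), (0, 0), (2, 0), (1, 0), (2, 3), (0, 0), (0, 0), (2, 2), (0, 0), (1, 5), (0, 0), (0, 0), (0, 0), (0, 0),
  (2, 1), (1, 2), (2, 0), (2, 3), (1, 2), (0, 0), (1, 1), (0, 0), (1, 0), (2, 0), (1, 3), (2, 1), (0, 0), (2, 4),
  (0, 0), (0, 0), (0, 0), (1, 1), (2, 1), (1, 2), (2, 1), (2, 0), (1, 3), (0, 0), (2, 0), (1, 2), (0, 0), (2, 5),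
  (1, 0), (0, 0), (0, 0), (1, 1), (2, 1), (1, 0), (1, 3), (2, 0), (1, 0), (2, 4), (0, 0), (2, 0), (1, 0), (1, 3),
  (0, 0), (1, 1), (2, 2), (0, 0), (2, 0), (1, 2), (1, 0), (2, 1), (2, 2), (2, 6), (0, 0), (0, 0), (0, 0), (0, 0),
  (0, 0), (2, 1), (2, 2), (1, 2), (0, 0), (0, 0), (1, 0), (2, 1), (2, 2), (1, 2)]

def hsTree_5 : List (ℕ × ℕ) := [
  (2, 0), (2, 3), (0, 0), (0, 0), (1, 0), (1, 2), (0, 0), (2, 1), (2, 2), (0, 0), (1, 3), (0, 0), (1, 1), (1, 0),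
  (2, 0), (2, 4), (0, 0), (1, 0), (1, 2), (2, 0), (2, 2), (1, 4), (0, 0), (1, 0), (0, 0), (2, 0), (1, 2), (2, 2),
  (0, 0), (2, 1), (0, 0), (1, 4), (1, 0), (0, 0), (1, 0), (1, 2), (0, 0), (2, 2), (2, 3), (0, 0), (0, 0), (1, 2),
  (0, 0), (1, 1), (2, 2), (0, 0), (0, 0), (2, 2), (2, 4), (0, 0), (2, 0), (2, 0), (0, 0), (1, 1), (2, 1), (0, 0),
  (1, 5), (0, 0), (1, 0), (0, 0), (2, 2), (2, 0), (1, 3), (0, 0), (1, 1), (2, 2), (2, 0), (2, 3), (1, 0), (1, 4),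
  (0, 0), (0, 0), (0, 0), (0, 0), (2, 1), (1, 2), (2, 0), (2, 2), (0, 0), (2, 1), (1, 3), (0, 0), (1, 0), (1, 0),
  (2, 2), (0, 0), (2, 1), (0, 0), (1, 4), (0, 0), (1, 1), (2, 1), (2, 2), (0, 0), (0, 0), (1, 2), (2, 3), (0, 0),
  (1, 1), (1, 0), (2, 2), (0, 0), (0, 0), (2, 0), (1, 2), (2, 1), (1, 0), (1, 6), (0, 0), (0, 0), (0, 0), (0, 0),
  (2, 2), (1, 0), (2, 1), (2, 4), (0, 0), (1, 0), (2, 1), (1, 2), (0, 0), (1, 0), (1, 2), (2, 1), (0, 0), (1, 1),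
  (2, 3), (0, 0), (2, 0), (1, 2), (2, 0), (2, 2), (0, 0), (1, 1), (2, 1), (2, 5), (0, 0), (0, 0), (2, 0), (1, 2),
  (2, 0), (2, 0), (2, 3), (1, 2), (1, 0), (2, 1), (0, 0), (1, 1), (2, 3), (0, 0), (0, 0), (2, 0), (1, 2), (2, 1),
  (1, 0), (2, 1), (1, 3), (2, 0), (2, 0), (2, 3), (2, 0), (2, 0), (2, 6), (0, 0), (1, 0), (0, 0), (0, 0), (0, 0),
  (2, 0), (1, 3), (2, 1), (1, 0), (1, 3), (0, 0), (2, 2), (0, 0), (0, 0), (1, 1), (1, 2), (2, 1), (2, 0), (2, 4),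
  (1, 0), (0, 0), (2, 2), (1, 3), (0, 0), (0, 0), (0, 0), (1, 0), (2, 2), (0, 0), (1, 3), (0, 0), (0, 0), (2, 0),
  (1, 3), (1, 0), (1, 0), (2, 3), (1, 0), (1, 0), (1, 5), (0, 0), (0, 0), (2, 0), (2, 2), (1, 0), (1, 3), (1, 0),
  (0, 0), (2, 1), (2, 2), (2, 2), (0, 0), (2, 3), (0, 0), (0, 0), (1, 1), (1, 0), (0, 0), (1, 4), (0, 0), (0, 0),
  (0, 0), (2, 2), (1, 2), (2, 0), (2, 2), (1, 0), (2, 3), (2, 3), (0, 0), (1, 0), (1, 0), (2, 1), (0, 0), (2, 3),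
  (1, 2), (0, 0), (0, 0), (2, 1), (1, 2), (0, 0), (2, 0), (2, 3), (0, 0), (0, 0), (1, 2), (2, 3), (0, 0), (0, 0),
  (1, 2), (1, 0), (1, 0), (2, 2), (0, 0), (2, 3), (1, 0), (0, 0), (1, 1), (2, 2), (0, 0), (1, 1), (0, 0), (2, 10),
  (0, 0), (0, 0), (0, 0), (0, 0), (0, 0), (1, 0), (2, 0), (0, 0), (2, 3), (1, 0), (1, 3), (0, 0), (0, 0), (2, 1),
  (1, 2), (0, 0), (1, 1), (2, 2), (0, 0), (1, 1), (0, 0), (1, 1), (2, 2), (1, 0), (1, 0), (2, 2), (2, 4), (1, 2),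
  (0, 0), (0, 0), (0, 0), (0, 0), (1, 2), (2, 0), (2, 2), (1, 2), (0, 0), (2, 2), (0, 0), (0, 0), (2, 1), (1, 2),
  (2, 0), (1, 4), (0, 0), (0, 0), (1, 0), (2, 2), (1, 0), (2, 4), (0, 0), (0, 0), (0, 0), (2, 1), (2, 2), (1, 2),
  (1, 0), (0, 0), (2, 2), (1, 0), (2, 1), (0, 0), (2, 4), (2, 0), (0, 0), (2, 5), (0, 0), (0, 0), (2, 0), (1, 2),
  (1, 0), (2, 1), (0, 0), (2, 1), (2, 3), (0, 0), (1, 1), (2, 1), (2, 0), (1, 0), (1, 5), (0, 0), (2, 0), (1, 2),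
  (0, 0), (2, 1), (2, 3), (0, 0), (0, 0), (0, 0), (1, 2), (2, 0), (1, 3), (0, 0), (1, 0), (2, 1), (1, 2), (0, 0),
  (1, 1), (2, 2), (0, 0), (2, 3), (0, 0), (2, 1), (1, 0), (1, 6), (0, 0), (0, 0), (0, 0), (0, 0), (1, 1), (2, 0),
  (2, 2), (1, 0), (1, 3), (0, 0), (1, 0), (1, 2), (2, 1), (2, 2), (1, 0), (2, 0), (2, 2), (2, 0), (1, 4), (0, 0),
  (1, 1), (1, 0), (2, 0), (1, 0), (2, 5), (0, 0), (0, 0), (2, 0), (2, 2), (1, 0), (1, 3), (2, 1), (0, 0), (1, 4),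
  (0, 0), (0, 0), (1, 0), (2, 2), (0, 0), (0, 0), (1, 2), (0, 0), (2, 1), (2, 2), (1, 3), (1, 0), (0, 0), (0, 0),
  (1, 1), (1, 2), (2, 0), (2, 3), (0, 0), (1, 0), (1, 2), (2, 0), (2, 2), (2, 0), (2, 4), (0, 0), (0, 0), (1, 0),
  (2, 2), (1, 2), (1, 0), (0, 0), (2, 5), (0, 0), (0, 0), (0, 0), (1, 0), (2, 1), (1, 2), (2, 1), (0, 0), (1, 3),
  (1, 0), (0, 0), (2, 3), (0, 0), (0, 0), (0, 0), (2, 2), (1, 2), (0, 0), (2, 1), (2, 2), (0, 0), (2, 1), (1, 4),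
  (0, 0), (0, 0), (1, 1), (1, 0), (2, 2), (0, 0), (2, 1), (1, 3), (0, 0), (1, 0), (0, 0), (2, 4), (0, 0), (1, 0),
  (2, 1), (1, 2), (0, 0), (2, 1), (2, 4), (0, 0), (0, 0), (1, 1), (2, 0), (2, 2), (1, 2), (2, 1), (0, 0), (2, 5),
  (0, 0), (0, 0), (0, 0), (1, 0), (1, 2), (0, 0), (2, 0), (1, 2), (2, 2), (0, 0)]

def hsTree_6 : List (ℕ × ℕ) := [
  (1, 1), (0, 0), (2, 2), (1, 3), (0, 0), (1, 1), (0, 0), (1, 1), (2, 2), (1, 0), (1, 0), (2, 1), (2, 4), (2, 0),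
  (0, 0), (2, 0), (2, 2), (1, 0), (2, 1), (1, 5), (0, 0), (0, 0), (0, 0), (1, 2), (0, 0), (1, 1), (2, 1), (2, 0),
  (2, 3), (2, 0), (2, 0), (1, 4), (0, 0), (2, 0), (0, 0), (1, 1), (2, 1), (1, 3), (2, 2), (0, 0), (0, 0), (1, 0),
  (2, 1), (1, 3), (1, 0), (0, 0), (1, 1), (2, 2), (1, 0), (2, 1), (2, 5), (0, 0), (0, 0), (1, 0), (0, 0), (2, 0),
  (2, 4), (1, 2), (0, 0), (0, 0), (2, 1), (1, 2), (0, 0), (2, 0), (1, 2), (2, 0), (2, 3), (1, 0), (0, 0), (2, 4),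
  (0, 0), (1, 1), (0, 0), (1, 1), (2, 0), (2, 2), (0, 0), (1, 0), (2, 4), (1, 0), (1, 6), (0, 0), (0, 0), (0, 0),
  (0, 0), (1, 1), (1, 0), (0, 0), (2, 2), (1, 0), (2, 0), (2, 2), (2, 3), (0, 0), (0, 0), (2, 1), (1, 2), (2, 1),
  (2, 0), (1, 4), (0, 0), (0, 0), (1, 1), (1, 2), (2, 0), (2, 2), (1, 0), (2, 0), (2, 2), (2, 0), (1, 5), (1, 0),
  (2, 0), (1, 0), (1, 0), (2, 1), (2, 2), (2, 0), (2, 4), (0, 0), (0, 0), (0, 0), (2, 1), (1, 3), (2, 1), (0, 0),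
  (1, 0), (1, 2), (2, 4), (0, 0), (0, 0), (2, 0), (1, 2), (0, 0), (1, 1), (0, 0), (2, 1), (2, 3), (1, 0), (2, 1),
  (0, 0), (1, 1), (2, 1), (1, 4), (0, 0), (2, 1), (0, 0), (0, 0), (1, 2), (0, 0), (1, 1), (2, 2), (2, 0), (2, 4),
  (1, 0), (0, 0), (2, 1), (1, 0), (2, 3), (0, 0), (1, 1), (2, 0), (2, 2), (1, 5), (0, 0), (0, 0), (0, 0), (1, 0),
  (1, 0), (2, 2), (2, 2), (0, 0), (2, 1), (1, 3), (0, 0), (0, 0), (2, 1), (1, 0), (1, 3), (1, 0), (2, 1), (2, 3),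
  (0, 0), (0, 0), (1, 0), (2, 1), (1, 2), (2, 1), (1, 2), (0, 0), (1, 1), (2, 2), (0, 0), (2, 0), (2, 2), (1, 4),
  (0, 0), (0, 0), (0, 0), (1, 1), (1, 0), (1, 3), (0, 0), (2, 0), (2, 2), (1, 0), (2, 1), (2, 3), (2, 0), (1, 3),
  (1, 0), (0, 0), (2, 0), (2, 2), (0, 0), (2, 4), (0, 0), (1, 0), (2, 1), (1, 2), (0, 0), (1, 0), (1, 2), (2, 1),
  (2, 0), (2, 3), (0, 0), (1, 0), (1, 2), (0, 0), (2, 6), (0, 0), (0, 0), (0, 0), (2, 0), (0, 0), (2, 1), (1, 3),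
  (0, 0), (0, 0), (1, 1), (2, 3), (1, 2), (0, 0), (0, 0), (1, 1), (1, 0), (2, 2), (2, 0), (1, 3), (1, 0), (2, 0),
  (2, 2), (1, 0), (2, 4), (2, 0), (0, 0), (1, 4), (0, 0), (0, 0), (0, 0), (1, 0), (2, 1), (1, 2), (1, 2), (1, 0),
  (2, 1), (1, 0), (2, 1), (2, 3), (0, 0), (0, 0), (1, 1), (2, 1), (2, 2), (0, 0), (2, 1), (1, 4), (0, 0), (1, 0),
  (2, 1), (0, 0), (2, 1), (2, 3), (1, 0), (2, 0), (2, 4), (1, 0), (2, 0), (2, 2), (2, 3), (0, 0), (0, 0), (0, 0),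
  (1, 1), (1, 0), (2, 2), (1, 0), (1, 4), (0, 0), (0, 0), (1, 1), (1, 2), (0, 0), (1, 1), (0, 0), (2, 3), (0, 0),
  (2, 1), (1, 0), (2, 4), (0, 0), (0, 0), (1, 1), (1, 0), (2, 2), (0, 0), (1, 3), (0, 0), (1, 1), (2, 1), (1, 0),
  (2, 3), (0, 0), (1, 0), (2, 7), (0, 0), (0, 0), (0, 0), (0, 0), (0, 0), (1, 2), (0, 0), (0, 0), (1, 1), (2, 3),
  (0, 0), (1, 1), (0, 0), (1, 4), (0, 0), (1, 1), (2, 0), (2, 2), (0, 0), (0, 0), (1, 1), (1, 2), (1, 0), (2, 4),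
  (0, 0), (0, 0), (2, 1), (1, 0), (2, 3), (2, 0), (1, 0), (2, 1), (1, 5), (0, 0), (0, 0), (1, 0), (1, 0), (2, 2),
  (1, 2), (2, 1), (1, 0), (2, 1), (0, 0), (1, 1), (1, 4), (1, 0), (2, 1), (1, 0), (1, 0), (2, 5), (0, 0), (0, 0),
  (0, 0), (2, 1), (1, 2), (0, 0), (1, 1), (0, 0), (1, 1), (2, 1), (2, 2), (2, 2), (0, 0), (1, 0), (1, 2), (2, 1),
  (1, 3), (0, 0), (0, 0), (2, 0), (2, 2), (0, 0), (1, 3), (2, 0), (0, 0), (1, 1), (2, 3), (1, 0), (2, 1), (0, 0),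
  (2, 4), (0, 0), (0, 0), (2, 0), (1, 0), (1, 3), (1, 0), (1, 0), (2, 3), (2, 0), (1, 3), (1, 0), (0, 0), (1, 0),
  (2, 3), (2, 2), (1, 0), (2, 0), (1, 6), (1, 0), (0, 0), (1, 0), (2, 0), (2, 0), (2, 3), (1, 2), (0, 0), (1, 1),
  (1, 0), (2, 2), (1, 0), (2, 0), (2, 4), (0, 0), (1, 0), (2, 0), (2, 2), (2, 0), (0, 0), (1, 4), (0, 0), (2, 0),
  (1, 2), (1, 0), (2, 3), (2, 0), (2, 4), (0, 0), (0, 0), (0, 0), (0, 0), (1, 1), (1, 2), (2, 0), (1, 3), (0, 0),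
  (1, 0), (1, 2), (2, 1), (0, 0), (1, 0), (2, 2), (1, 4), (0, 0), (1, 0), (2, 0), (1, 3), (1, 0), (2, 2), (0, 0),
  (0, 0), (1, 1), (1, 2), (0, 0), (1, 1), (2, 1), (2, 2), (2, 3), (0, 0), (0, 0), (1, 1), (1, 2), (0, 0), (0, 0),
  (1, 2), (1, 0), (2, 2), (2, 0), (2, 3), (0, 0), (0, 0), (2, 2), (2, 5), (0, 0)]

def hsTree_7 : List (ℕ × ℕ) := [
  (0, 0), (1, 0), (0, 0), (2, 1), (2, 0), (2, 3), (0, 0), (2, 0), (2, 0), (1, 3), (1, 3), (0, 0), (0, 0), (2, 0),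
  (1, 2), (0, 0), (2, 3), (1, 0), (2, 0), (2, 2), (0, 0), (2, 4), (0, 0), (0, 0), (1, 1), (0, 0), (2, 2), (1, 2),
  (0, 0), (1, 1), (1, 0), (2, 3), (0, 0), (2, 1), (1, 4), (0, 0), (1, 0), (1, 0), (2, 1), (0, 0), (2, 1), (1, 4),
  (1, 0), (0, 0), (2, 1), (0, 0), (2, 1), (2, 4), (1, 0), (1, 0), (2, 1), (0, 0), (1, 1), (2, 1), (2, 5), (0, 0),
  (0, 0), (1, 1), (1, 0), (1, 0), (2, 2), (2, 2), (2, 0), (1, 3), (1, 0), (0, 0), (1, 1), (2, 2), (2, 2), (0, 0),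
  (0, 0), (2, 0), (1, 2), (2, 1), (2, 2), (1, 0), (1, 7), (0, 0), (0, 0), (0, 0), (0, 0), (0, 0), (2, 0), (1, 0),
  (2, 1), (1, 3), (0, 0), (1, 0), (1, 4), (0, 0), (2, 0), (2, 2), (0, 0), (1, 1), (0, 0), (2, 4), (0, 0), (0, 0),
  (2, 0), (1, 3), (1, 0), (0, 0), (2, 3), (0, 0), (1, 1), (2, 0), (2, 2), (0, 0), (1, 1), (2, 0), (1, 6), (0, 0),
  (0, 0), (2, 0), (2, 2), (0, 0), (1, 0), (1, 2), (2, 3), (0, 0), (1, 0), (2, 1), (1, 2), (0, 0), (0, 0), (1, 1),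
  (1, 2), (2, 1), (2, 2), (2, 0), (0, 0), (1, 1), (2, 1), (2, 5), (0, 0), (1, 0), (2, 1), (0, 0), (1, 1), (1, 3),
  (0, 0), (0, 0), (1, 2), (2, 0), (2, 2), (0, 0), (0, 0), (2, 2), (2, 3), (0, 0), (2, 0), (1, 2), (0, 0), (1, 1),
  (2, 1), (2, 0), (2, 3), (0, 0), (0, 0), (2, 2), (1, 0), (1, 6), (0, 0), (0, 0), (0, 0), (0, 0), (1, 1), (1, 2),
  (1, 0), (1, 3), (0, 0), (0, 0), (1, 1), (1, 2), (0, 0), (0, 0), (1, 1), (1, 2), (2, 1), (2, 2), (1, 0), (2, 0),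
  (2, 2), (2, 3), (0, 0), (0, 0), (1, 1), (1, 2), (1, 0), (2, 0), (2, 3), (1, 0), (2, 0), (1, 5), (0, 0), (0, 0),
  (1, 0), (2, 1), (0, 0), (1, 3), (0, 0), (1, 1), (2, 1), (0, 0), (2, 3), (2, 0), (1, 3), (0, 0), (0, 0), (2, 0),
  (1, 3), (2, 0), (2, 2), (0, 0), (1, 0), (1, 2), (1, 0), (2, 2), (2, 3), (0, 0), (0, 0), (2, 0), (1, 2), (2, 1),
  (1, 2), (0, 0), (2, 1), (2, 0), (2, 3), (0, 0), (0, 0), (1, 1), (2, 2), (2, 4), (0, 0), (0, 0), (0, 0), (0, 0),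
  (1, 2), (2, 1), (1, 2), (0, 0), (0, 0), (2, 2), (1, 0), (2, 0), (2, 4), (1, 2), (0, 0), (0, 0), (1, 1), (2, 1),
  (1, 2), (0, 0), (1, 1), (1, 0), (2, 2), (2, 2), (1, 0), (2, 1), (2, 3), (0, 0), (1, 0), (2, 1), (0, 0), (2, 1),
  (1, 3), (0, 0), (2, 0), (1, 2), (2, 1), (2, 2), (2, 4), (0, 0), (0, 0), (0, 0), (0, 0), (1, 1), (1, 2), (0, 0),
  (2, 1), (0, 0), (1, 1), (2, 1), (2, 3), (0, 0), (2, 0), (1, 2), (0, 0), (2, 2), (2, 0), (1, 4), (0, 0), (1, 1),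
  (0, 0), (0, 0), (2, 3), (0, 0), (0, 0), (2, 1), (1, 2), (2, 0), (2, 2), (2, 0), (2, 4), (0, 0), (0, 0), (0, 0),
  (1, 1), (1, 2), (2, 0), (1, 3), (1, 0), (2, 0), (2, 2), (2, 2), (0, 0), (0, 0), (1, 1), (1, 2), (1, 0), (1, 5),
  (0, 0), (0, 0), (0, 0), (2, 1), (2, 0), (1, 3), (1, 0), (2, 0), (2, 2), (1, 3), (0, 0), (0, 0), (0, 0), (1, 1),
  (1, 2), (2, 1), (2, 0), (1, 3), (0, 0), (2, 1), (0, 0), (1, 1), (2, 1), (1, 0), (2, 5), (0, 0), (0, 0), (1, 0),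
  (1, 2), (1, 0), (2, 2), (1, 2), (0, 0), (0, 0), (2, 2), (1, 0), (2, 3), (0, 0), (2, 1), (2, 4), (0, 0), (0, 0),
  (1, 1), (0, 0), (1, 1), (2, 2), (2, 0), (1, 0), (1, 4), (0, 0), (2, 0), (0, 0), (2, 1), (1, 3), (1, 0), (2, 2),
  (0, 0), (1, 1), (2, 0), (2, 2), (1, 0), (2, 4), (0, 0), (0, 0), (1, 2), (1, 0), (2, 0), (2, 2), (2, 2), (1, 0),
  (0, 0), (1, 1), (2, 2), (0, 0), (1, 7), (0, 0), (0, 0), (0, 0), (0, 0), (0, 0), (0, 0), (1, 4), (1, 0), (1, 0),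
  (2, 3), (2, 0), (0, 0), (2, 1), (0, 0), (2, 1), (1, 5), (0, 0), (0, 0), (1, 0), (2, 0), (2, 2), (2, 2), (0, 0),
  (2, 1), (1, 3), (0, 0), (0, 0), (2, 1), (1, 2), (2, 1), (1, 0), (0, 0), (2, 2), (2, 0), (2, 5), (0, 0), (0, 0),
  (0, 0), (1, 1), (1, 0), (2, 2), (0, 0), (1, 3), (0, 0), (1, 0), (1, 2), (2, 0), (0, 0), (2, 3), (2, 2), (1, 0),
  (2, 1), (0, 0), (1, 1), (1, 4), (0, 0), (0, 0), (1, 1), (0, 0), (2, 1), (1, 3), (0, 0), (1, 1), (0, 0), (2, 2),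
  (2, 2), (0, 0), (1, 1), (0, 0), (2, 2), (2, 3), (0, 0), (1, 1), (0, 0), (1, 1), (2, 1), (1, 0), (1, 6), (0, 0),
  (0, 0), (0, 0), (1, 1), (1, 0), (1, 0), (2, 2), (1, 3), (0, 0), (2, 0), (1, 2), (1, 0), (2, 2), (0, 0), (2, 0),
  (1, 0), (1, 3), (1, 0), (2, 4), (0, 0), (1, 0), (2, 1), (2, 0), (1, 3), (1, 0)]

def hsTree_8 : List (ℕ × ℕ) := [
  (1, 0), (2, 2), (2, 2), (1, 0), (0, 0), (1, 1), (2, 1), (1, 5), (0, 0), (1, 0), (0, 0), (2, 2), (1, 0), (2, 0),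
  (1, 4), (0, 0), (0, 0), (1, 1), (2, 1), (0, 0), (2, 0), (1, 4), (0, 0), (2, 2), (2, 0), (2, 3), (0, 0), (0, 0),
  (1, 0), (1, 2), (1, 0), (2, 2), (1, 2), (0, 0), (2, 1), (0, 0), (1, 1), (2, 3), (1, 0), (2, 4), (1, 0), (0, 0),
  (1, 0), (2, 1), (0, 0), (2, 1), (1, 3), (2, 1), (0, 0), (2, 0), (1, 2), (2, 1), (2, 3), (0, 0), (0, 0), (0, 0),
  (1, 1), (1, 2), (1, 2), (2, 0), (2, 2), (1, 0), (0, 0), (2, 2), (2, 5), (0, 0), (2, 0), (0, 0), (0, 0), (0, 0),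
  (1, 1), (0, 0), (2, 3), (2, 0), (1, 3), (1, 0), (2, 0), (2, 2), (1, 0), (2, 1), (2, 3), (0, 0), (0, 0), (1, 1),
  (1, 5), (0, 0), (0, 0), (1, 0), (2, 1), (1, 2), (1, 0), (1, 0), (2, 2), (2, 2), (0, 0), (1, 1), (2, 1), (1, 0),
  (2, 1), (2, 4), (1, 0), (0, 0), (1, 0), (2, 0), (1, 3), (2, 0), (2, 2), (2, 2), (2, 3), (0, 0), (0, 0), (1, 0),
  (0, 0), (1, 3), (1, 0), (2, 2), (1, 2), (1, 0), (1, 0), (1, 0), (2, 2), (2, 3), (0, 0), (2, 0), (0, 0), (2, 1),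
  (1, 3), (0, 0), (1, 1), (2, 2), (0, 0), (1, 1), (2, 1), (2, 6), (0, 0), (0, 0), (0, 0), (1, 0), (2, 0), (2, 0),
  (2, 3), (1, 0), (1, 0), (2, 2), (1, 0), (1, 4), (1, 0), (1, 0), (1, 0), (2, 1), (2, 3), (0, 0), (1, 1), (2, 1),
  (2, 3), (0, 0), (0, 0), (0, 0), (1, 2), (2, 1), (2, 0), (1, 3), (0, 0), (1, 1), (2, 1), (1, 0), (2, 1), (1, 5),
  (0, 0), (0, 0), (1, 0), (2, 2), (1, 0), (1, 0), (2, 2), (2, 0), (1, 4), (0, 0), (1, 1), (1, 0), (2, 2), (2, 2),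
  (0, 0), (1, 0), (1, 2), (2, 0), (2, 2), (2, 0), (2, 4), (0, 0), (1, 0), (0, 0), (2, 0), (1, 2), (2, 0), (2, 3),
  (0, 0), (1, 1), (1, 0), (2, 4), (0, 0), (0, 0), (1, 1), (2, 1), (1, 2), (0, 0), (0, 0), (1, 1), (1, 0), (1, 3),
  (2, 0), (2, 2), (2, 2), (0, 0), (1, 1), (0, 0), (2, 1), (2, 2), (0, 0), (1, 6), (0, 0), (0, 0), (0, 0), (1, 1),
  (2, 0), (1, 0), (1, 4), (0, 0), (0, 0), (1, 1), (2, 0), (1, 3), (1, 0), (2, 2), (0, 0), (1, 0), (1, 2), (1, 0),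
  (2, 4), (2, 0), (0, 0), (1, 1), (2, 1), (1, 4), (0, 0), (1, 0), (2, 0), (1, 3), (0, 0), (0, 0), (1, 2), (1, 0),
  (2, 1), (2, 0), (1, 0), (2, 5), (1, 0), (0, 0), (1, 1), (2, 2), (0, 0), (1, 1), (2, 4), (0, 0), (0, 0), (2, 1),
  (0, 0), (2, 0), (1, 2), (1, 3), (1, 0), (1, 0), (2, 3), (0, 0), (1, 0), (1, 2), (2, 0), (2, 0), (2, 3), (1, 0),
  (2, 0), (2, 6), (0, 0), (0, 0), (0, 0), (1, 1), (0, 0), (2, 2), (0, 0), (2, 1), (0, 0), (2, 1), (2, 4), (0, 0),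
  (0, 0), (1, 1), (1, 2), (0, 0), (2, 1), (1, 0), (2, 3), (0, 0), (1, 1), (2, 1), (1, 4), (0, 0), (1, 0), (2, 0),
  (1, 3), (1, 0), (0, 0), (2, 1), (1, 0), (2, 3), (0, 0), (1, 1), (0, 0), (2, 1), (2, 2), (2, 0), (2, 4), (0, 0),
  (1, 0), (2, 0), (1, 3), (1, 0), (1, 0), (2, 2), (0, 0), (2, 3), (2, 3), (0, 0), (0, 0), (1, 0), (2, 0), (1, 3),
  (1, 0), (2, 0), (2, 2), (2, 2), (1, 0), (2, 0), (2, 2), (1, 0), (1, 4), (1, 0), (2, 2), (1, 0), (1, 0), (2, 2),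
  (1, 0), (2, 1), (2, 7), (0, 0), (0, 0), (0, 0), (0, 0), (1, 0), (0, 0), (2, 1), (2, 2), (0, 0), (1, 1), (1, 0),
  (2, 1), (2, 2), (1, 3), (0, 0), (0, 0), (1, 2), (2, 1), (0, 0), (2, 1), (0, 0), (2, 4), (0, 0), (0, 0), (1, 1),
  (1, 0), (2, 2), (0, 0), (1, 3), (1, 0), (2, 1), (0, 0), (2, 1), (2, 3), (1, 0), (1, 0), (2, 2), (1, 0), (1, 5),
  (0, 0), (1, 0), (0, 0), (1, 0), (1, 2), (0, 0), (2, 3), (2, 0), (2, 0), (1, 4), (0, 0), (0, 0), (2, 1), (0, 0),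
  (1, 1), (2, 4), (0, 0), (0, 0), (0, 0), (2, 1), (2, 3), (0, 0), (1, 1), (2, 4), (0, 0), (0, 0), (0, 0), (1, 1),
  (0, 0), (2, 2), (2, 0), (1, 3), (2, 0), (2, 2), (0, 0), (1, 3), (0, 0), (0, 0), (2, 0), (1, 2), (0, 0), (2, 2),
  (1, 2), (0, 0), (2, 2), (0, 0), (1, 1), (0, 0), (2, 4), (0, 0), (0, 0), (0, 0), (2, 1), (1, 3), (0, 0), (2, 2),
  (1, 4), (0, 0), (0, 0), (0, 0), (1, 0), (1, 2), (2, 1), (2, 0), (1, 0), (1, 4), (0, 0), (0, 0), (1, 0), (1, 3),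
  (1, 0), (2, 2), (0, 0), (1, 0), (2, 0), (2, 2), (2, 2), (0, 0), (2, 1), (2, 4), (0, 0), (0, 0), (0, 0), (1, 3),
  (0, 0), (1, 1), (2, 2), (0, 0), (1, 1), (1, 0), (2, 2), (2, 0), (1, 5), (0, 0), (0, 0), (2, 0), (1, 2), (1, 0),
  (2, 2), (0, 0), (2, 0), (2, 2), (0, 0), (1, 4), (0, 0), (1, 0), (1, 2), (2, 0)]

def hsTree_9 : List (ℕ × ℕ) := [
  (1, 0), (2, 3), (0, 0), (1, 1), (2, 3), (0, 0), (0, 0), (2, 0), (2, 2), (1, 2), (2, 1), (0, 0), (2, 1), (2, 4),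
  (0, 0), (0, 0), (1, 1), (0, 0), (1, 1), (1, 0), (2, 2), (2, 0), (2, 3), (1, 2), (0, 0), (0, 0), (1, 2), (1, 0),
  (2, 2), (0, 0), (2, 1), (2, 3), (0, 0), (2, 0), (0, 0), (2, 3), (2, 4), (0, 0), (0, 0), (0, 0), (1, 0), (1, 2),
  (2, 1), (1, 0), (1, 3), (0, 0), (0, 0), (2, 0), (1, 2), (1, 2), (1, 0), (2, 1), (2, 2), (0, 0), (1, 1), (2, 1),
  (2, 0), (2, 4), (2, 0), (2, 0), (1, 4), (0, 0), (0, 0), (0, 0), (2, 1), (1, 2), (1, 0), (2, 0), (2, 3), (1, 2),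
  (0, 0), (1, 0), (2, 0), (1, 0), (1, 4), (0, 0), (2, 1), (2, 0), (2, 4), (2, 2), (0, 0), (1, 0), (2, 1), (0, 0),
  (1, 1), (0, 0), (2, 1), (1, 4), (0, 0), (2, 0), (1, 2), (0, 0), (1, 1), (1, 0), (2, 3), (2, 0), (1, 0), (1, 0),
  (2, 5), (0, 0), (1, 0), (2, 1), (1, 2), (0, 0), (2, 0), (2, 2), (1, 6), (0, 0), (0, 0), (0, 0), (0, 0), (0, 0),
  (0, 0), (2, 2), (1, 2), (0, 0), (2, 1), (2, 0), (2, 3), (1, 2), (0, 0), (0, 0), (2, 1), (0, 0), (1, 1), (2, 3),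
  (1, 0), (1, 0), (2, 4), (0, 0), (0, 0), (0, 0), (1, 1), (2, 1), (0, 0), (1, 4), (0, 0), (2, 2), (1, 0), (1, 4),
  (0, 0), (0, 0), (0, 0), (2, 1), (2, 2), (1, 0), (2, 0), (2, 2), (1, 3), (0, 0), (0, 0), (1, 1), (2, 2), (2, 2),
  (0, 0), (1, 0), (1, 2), (0, 0), (0, 0), (1, 1), (1, 2), (2, 1), (0, 0), (2, 3), (0, 0), (1, 0), (2, 2), (0, 0),
  (1, 6), (0, 0), (0, 0), (0, 0), (1, 1), (1, 0), (1, 0), (2, 2), (2, 0), (2, 3), (2, 0), (0, 0), (0, 0), (1, 2),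
  (2, 0), (1, 5), (0, 0), (0, 0), (2, 2), (0, 0), (2, 0), (2, 2), (2, 0), (2, 4), (0, 0), (1, 1), (1, 0), (2, 2),
  (0, 0), (2, 1), (1, 4), (0, 0), (1, 0), (1, 0), (2, 1), (2, 2), (1, 0), (0, 0), (1, 4), (1, 0), (0, 0), (2, 1),
  (2, 0), (2, 3), (2, 2), (0, 0), (1, 1), (0, 0), (2, 1), (2, 0), (2, 3), (2, 3), (0, 0), (0, 0), (1, 0), (1, 2),
  (0, 0), (2, 0), (2, 2), (1, 3), (2, 0), (0, 0), (1, 1), (2, 3), (0, 0), (2, 0), (2, 5), (0, 0), (0, 0), (0, 0),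
  (1, 0), (1, 2), (1, 0), (2, 1), (0, 0), (2, 1), (2, 3), (0, 0), (1, 3), (0, 0), (0, 0), (2, 0), (1, 2), (1, 2),
  (0, 0), (1, 1), (2, 0), (2, 3), (1, 0), (2, 1), (2, 3), (1, 0), (2, 1), (2, 0), (1, 4), (0, 0), (0, 0), (0, 0),
  (0, 0), (2, 2), (1, 2), (0, 0), (1, 3), (2, 1), (0, 0), (0, 0), (2, 0), (2, 2), (1, 2), (0, 0), (2, 1), (0, 0),
  (2, 5), (0, 0), (0, 0), (1, 0), (2, 1), (0, 0), (1, 3), (0, 0), (1, 0), (2, 2), (2, 2), (1, 0), (2, 3), (0, 0),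
  (0, 0), (1, 1), (2, 2), (0, 0), (2, 6), (0, 0), (0, 0), (0, 0), (0, 0), (1, 0), (1, 2), (0, 0), (0, 0), (2, 1),
  (1, 2), (0, 0), (2, 2), (1, 0), (2, 3), (0, 0), (2, 1), (1, 3), (2, 0), (1, 0), (2, 1), (1, 0), (2, 4), (2, 0),
  (0, 0), (0, 0), (1, 1), (1, 2), (1, 4), (0, 0), (0, 0), (0, 0), (2, 0), (1, 2), (2, 0), (2, 2), (1, 2), (0, 0),
  (1, 1), (2, 1), (1, 0), (2, 3), (0, 0), (1, 1), (2, 0), (1, 0), (2, 3), (1, 3), (0, 0), (0, 0), (0, 0), (2, 2),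
  (1, 2), (1, 0), (2, 0), (2, 4), (0, 0), (0, 0), (0, 0), (1, 2), (2, 1), (0, 0), (1, 1), (2, 1), (1, 3), (0, 0),
  (2, 0), (1, 2), (0, 0), (2, 2), (0, 0), (2, 3), (0, 0), (2, 0), (1, 2), (0, 0), (2, 5), (0, 0), (0, 0), (2, 0),
  (1, 2), (1, 0), (2, 2), (0, 0), (1, 1), (0, 0), (2, 2), (1, 0), (1, 4), (1, 0), (2, 0), (2, 2), (2, 2), (0, 0),
  (0, 0), (2, 1), (0, 0), (1, 1), (1, 3), (0, 0), (2, 2), (0, 0), (1, 0), (1, 2), (1, 0), (2, 1), (2, 2), (1, 5),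
  (0, 0), (0, 0), (0, 0), (2, 0), (0, 0), (1, 3), (0, 0), (2, 1), (1, 0), (2, 3), (0, 0), (2, 0), (1, 2), (2, 1),
  (1, 0), (1, 4), (0, 0), (0, 0), (1, 0), (2, 1), (2, 3), (2, 2), (0, 0), (0, 0), (1, 0), (1, 3), (0, 0), (2, 1),
  (2, 2), (1, 3), (0, 0), (0, 0), (0, 0), (0, 0), (2, 2), (2, 0), (1, 3), (0, 0), (0, 0), (2, 1), (2, 2), (0, 0),
  (2, 3), (0, 0), (0, 0), (1, 1), (2, 2), (1, 0), (1, 4), (0, 0), (0, 0), (1, 1), (1, 0), (2, 1), (1, 0), (2, 3),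
  (1, 2), (0, 0), (0, 0), (2, 1), (1, 2), (2, 1), (0, 0), (2, 3), (2, 0), (0, 0), (2, 4), (0, 0), (1, 0), (2, 1),
  (2, 2), (0, 0), (1, 1), (1, 0), (2, 2), (0, 0), (2, 5), (0, 0), (0, 0), (0, 0), (1, 2), (0, 0), (1, 1), (2, 1),
  (2, 2), (2, 0), (1, 3), (1, 0), (0, 0), (1, 0), (2, 2), (2, 3), (2, 0), (1, 0)]

def hsTree_10 : List (ℕ × ℕ) := [
  (2, 5), (0, 0), (0, 0), (0, 0), (0, 0), (1, 2), (2, 0), (2, 2), (1, 0), (1, 3), (0, 0), (2, 0), (1, 2), (0, 0),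
  (2, 2), (1, 0), (2, 3), (0, 0), (0, 0), (0, 0), (2, 1), (1, 2), (2, 0), (2, 2), (1, 2), (0, 0), (2, 0), (1, 2),
  (2, 2), (0, 0), (1, 1), (1, 4), (0, 0), (0, 0), (2, 1), (0, 0), (2, 1), (1, 3), (1, 0), (0, 0), (0, 0), (2, 4),
  (0, 0), (0, 0), (1, 1), (1, 2), (1, 0), (0, 0), (0, 0), (2, 4), (1, 0), (2, 1), (2, 4), (0, 0), (1, 0), (1, 0),
  (2, 1), (2, 2), (1, 2), (0, 0), (1, 0), (2, 1), (1, 2), (0, 0), (0, 0), (1, 2), (2, 1), (1, 0), (2, 3), (2, 2),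
  (0, 0), (0, 0), (1, 0), (1, 3), (0, 0), (1, 1), (2, 0), (2, 2), (0, 0), (1, 10), (0, 0), (0, 0), (1, 0), (2, 0),
  (0, 0), (0, 0), (1, 0), (0, 0), (2, 2), (2, 0), (0, 0), (1, 4), (1, 0), (2, 1), (0, 0), (2, 1), (1, 0), (2, 4),
  (0, 0), (1, 0), (0, 0), (1, 3), (1, 0), (2, 0), (2, 2), (2, 2), (2, 0), (2, 4), (0, 0), (0, 0), (1, 0), (1, 2),
  (1, 0), (2, 1), (2, 3), (0, 0), (0, 0), (1, 1), (2, 0), (2, 2), (2, 0), (1, 3), (0, 0), (2, 1), (1, 0), (2, 3),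
  (0, 0), (1, 1), (0, 0), (2, 1), (2, 2), (2, 0), (2, 7), (0, 0), (0, 0), (0, 0), (0, 0), (0, 0), (1, 1), (1, 0),
  (2, 1), (2, 0), (2, 3), (2, 2), (0, 0), (1, 1), (2, 1), (1, 3), (0, 0), (1, 0), (2, 2), (0, 0), (2, 3), (0, 0),
  (0, 0), (1, 1), (2, 0), (2, 2), (2, 0), (1, 3), (0, 0), (2, 1), (2, 0), (1, 5), (0, 0), (2, 0), (2, 0), (2, 0),
  (1, 4), (1, 0), (2, 1), (0, 0), (0, 0), (1, 2), (0, 0), (2, 2), (0, 0), (2, 1), (2, 4), (0, 0), (2, 0), (1, 2),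
  (0, 0), (1, 1), (1, 0), (2, 5), (0, 0), (0, 0), (0, 0), (1, 1), (2, 2), (0, 0), (1, 1), (1, 3), (0, 0), (2, 0),
  (2, 2), (2, 2), (0, 0), (0, 0), (0, 0), (1, 2), (2, 1), (1, 2), (0, 0), (2, 1), (0, 0), (1, 6), (0, 0), (0, 0),
  (1, 0), (1, 2), (0, 0), (0, 0), (1, 2), (0, 0), (2, 1), (1, 0), (2, 1), (2, 3), (0, 0), (1, 1), (0, 0), (2, 4),
  (0, 0), (0, 0), (1, 0), (1, 2), (2, 0), (2, 2), (1, 2), (0, 0), (1, 0), (1, 2), (2, 2), (0, 0), (2, 0), (1, 2),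
  (1, 4), (0, 0), (1, 0), (2, 1), (0, 0), (1, 1), (1, 3), (0, 0), (2, 0), (1, 2), (1, 0), (2, 1), (2, 2), (0, 0),
  (1, 1), (2, 3), (0, 0), (2, 0), (1, 2), (0, 0), (1, 0), (1, 2), (2, 1), (2, 2), (0, 0), (0, 0), (1, 1), (1, 2),
  (2, 1), (0, 0), (2, 5), (0, 0), (0, 0), (2, 0), (2, 0), (1, 3), (0, 0), (1, 0), (2, 2), (0, 0), (2, 1), (2, 3),
  (0, 0), (1, 1), (2, 0), (2, 2), (1, 0), (1, 4), (0, 0), (0, 0), (1, 0), (1, 2), (1, 2), (2, 0), (2, 2), (1, 0),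
  (2, 1), (2, 5), (0, 0), (0, 0), (0, 0), (0, 0), (1, 2), (2, 1), (0, 0), (2, 0), (1, 2), (1, 0), (1, 4), (0, 0),
  (1, 1), (2, 1), (0, 0), (1, 1), (1, 0), (1, 5), (0, 0), (0, 0), (0, 0), (1, 2), (0, 0), (1, 1), (2, 2), (1, 0),
  (2, 1), (1, 3), (0, 0), (2, 0), (2, 2), (0, 0), (1, 1), (2, 3), (0, 0), (1, 1), (2, 0), (2, 2), (1, 0), (1, 7),
  (2, 1), (0, 0), (0, 0), (0, 0), (0, 0), (0, 0), (1, 1), (2, 1), (1, 0), (1, 3), (1, 0), (2, 0), (2, 3), (0, 0),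
  (0, 0), (0, 0), (2, 1), (1, 3), (0, 0), (2, 1), (2, 0), (2, 3), (0, 0), (1, 0), (1, 2), (0, 0), (1, 5), (0, 0),
  (0, 0), (1, 0), (2, 1), (2, 2), (1, 2), (0, 0), (2, 2), (2, 0), (2, 0), (2, 4), (0, 0), (0, 0), (0, 0), (2, 1),
  (1, 0), (2, 1), (1, 3), (2, 0), (0, 0), (2, 3), (0, 0), (1, 3), (0, 0), (0, 0), (1, 2), (0, 0), (1, 0), (2, 3),
  (1, 0), (2, 1), (2, 3), (1, 0), (2, 1), (2, 0), (0, 0), (1, 6), (1, 0), (0, 0), (0, 0), (0, 0), (1, 2), (0, 0),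
  (1, 1), (1, 3), (2, 0), (2, 0), (2, 3), (0, 0), (1, 0), (2, 1), (2, 2), (2, 0), (2, 4), (0, 0), (0, 0), (1, 0),
  (0, 0), (2, 1), (1, 3), (0, 0), (1, 1), (2, 0), (2, 2), (2, 0), (2, 3), (0, 0), (2, 1), (0, 0), (1, 4), (0, 0),
  (0, 0), (2, 1), (1, 0), (1, 3), (0, 0), (2, 2), (0, 0), (1, 1), (2, 3), (0, 0), (0, 0), (2, 0), (2, 3), (0, 0),
  (2, 0), (1, 2), (0, 0), (2, 1), (2, 2), (2, 5), (0, 0), (0, 0), (0, 0), (1, 0), (2, 1), (1, 0), (1, 3), (0, 0),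
  (2, 1), (0, 0), (2, 3), (2, 2), (0, 0), (2, 1), (1, 3), (0, 0), (0, 0), (1, 0), (1, 2), (2, 0), (2, 2), (1, 2),
  (0, 0), (0, 0), (2, 0), (1, 2), (2, 1), (1, 2), (0, 0), (2, 3), (0, 0), (2, 0), (1, 2), (0, 0), (1, 1), (2, 2),
  (0, 0), (0, 0), (2, 5), (0, 0), (0, 0), (0, 0), (1, 1), (2, 1), (1, 2), (0, 0)]

def hsTree_11 : List (ℕ × ℕ) := [
  (1, 1), (2, 2), (0, 0), (1, 0), (2, 2), (0, 0), (2, 1), (1, 4), (0, 0), (0, 0), (2, 0), (2, 2), (1, 2), (2, 1),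
  (2, 0), (2, 3), (0, 0), (2, 0), (1, 2), (0, 0), (2, 1), (0, 0), (2, 3), (1, 5), (0, 0), (0, 0), (0, 0), (1, 0),
  (2, 1), (1, 2), (2, 1), (0, 0), (0, 0), (1, 1), (2, 0), (1, 3), (1, 0), (2, 1), (1, 0), (2, 3), (1, 3), (0, 0),
  (1, 0), (2, 1), (2, 0), (1, 3), (0, 0), (2, 1), (1, 0), (2, 1), (0, 0), (1, 0), (1, 2), (2, 4), (1, 0), (0, 0),
  (2, 4), (0, 0), (0, 0), (2, 2), (2, 0), (1, 0), (1, 5), (0, 0), (0, 0), (1, 0), (2, 0), (2, 2), (1, 0), (1, 3),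
  (2, 1), (1, 0), (2, 0), (2, 2), (1, 3), (0, 0), (1, 1), (1, 0), (2, 1), (0, 0), (2, 1), (0, 0), (2, 4), (0, 0),
  (1, 0), (0, 0), (2, 2), (0, 0), (2, 1), (2, 6), (0, 0), (1, 0), (0, 0), (0, 0), (1, 2), (0, 0), (2, 1), (2, 2),
  (1, 0), (2, 3), (0, 0), (0, 0), (0, 0), (1, 3), (0, 0), (1, 0), (2, 2), (2, 2), (1, 0), (1, 4), (0, 0), (0, 0),
  (1, 1), (1, 0), (2, 1), (2, 2), (2, 0), (0, 0), (1, 4), (2, 1), (0, 0), (0, 0), (2, 0), (1, 3), (1, 0), (2, 2),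
  (1, 0), (1, 0), (2, 2), (2, 4), (0, 0), (0, 0), (2, 0), (1, 2), (2, 1), (0, 0), (1, 1), (2, 3), (1, 0), (0, 0),
  (1, 1), (2, 2), (1, 0), (2, 1), (2, 6), (0, 0), (0, 0), (1, 0), (0, 0), (1, 0), (1, 2), (2, 1), (0, 0), (1, 0),
  (1, 2), (2, 1), (1, 0), (2, 1), (2, 4), (0, 0), (0, 0), (1, 1), (2, 0), (1, 3), (1, 0), (2, 1), (2, 2), (0, 0),
  (0, 0), (1, 1), (1, 2), (2, 1), (2, 0), (1, 5), (2, 0), (1, 0), (1, 0), (2, 2), (2, 0), (2, 0), (2, 5), (0, 0),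
  (1, 0), (2, 0), (1, 3), (1, 0), (0, 0), (2, 3), (0, 0), (0, 0), (1, 1), (0, 0), (1, 1), (2, 1), (1, 3), (1, 0),
  (2, 2), (0, 0), (1, 0), (1, 2), (1, 0), (1, 6), (0, 0), (0, 0), (0, 0), (2, 0), (2, 2), (0, 0), (2, 1), (1, 3),
  (1, 0), (0, 0), (2, 2), (2, 2), (0, 0), (0, 0), (2, 0), (1, 2), (1, 2), (2, 0), (2, 2), (0, 0), (1, 1), (2, 1),
  (1, 4), (0, 0), (1, 0), (2, 1), (0, 0), (2, 1), (0, 0), (2, 5), (0, 0), (0, 0), (0, 0), (2, 1), (1, 2), (2, 1),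
  (1, 0), (2, 0), (2, 2), (2, 0), (1, 4), (0, 0), (0, 0), (2, 1), (2, 2), (0, 0), (1, 1), (2, 1), (2, 5), (0, 0),
  (0, 0), (0, 0), (0, 0), (2, 0), (1, 3), (1, 0), (2, 2), (1, 0), (1, 3), (0, 0), (1, 0), (1, 2), (2, 1), (1, 0),
  (2, 1), (2, 3), (1, 0), (2, 1), (2, 0), (1, 4), (0, 0), (0, 0), (0, 0), (2, 0), (2, 2), (1, 2), (0, 0), (1, 1),
  (2, 0), (1, 4), (0, 0), (1, 0), (1, 0), (2, 2), (1, 2), (2, 0), (2, 3), (0, 0), (0, 0), (2, 0), (1, 2), (1, 2),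
  (2, 3), (0, 0), (0, 0), (1, 0), (0, 0), (1, 3), (2, 0), (0, 0), (1, 1), (2, 3), (2, 0), (0, 0), (1, 4), (0, 0),
  (0, 0), (0, 0), (2, 2), (0, 0), (1, 3), (0, 0), (2, 2), (0, 0), (1, 1), (2, 1), (2, 3), (0, 0), (0, 0), (1, 1),
  (1, 2), (0, 0), (2, 0), (1, 2), (0, 0), (2, 2), (1, 8), (0, 0), (1, 0), (2, 0), (0, 0), (2, 0), (0, 0), (2, 0),
  (1, 0), (1, 5), (0, 0), (0, 0), (2, 1), (1, 0), (1, 0), (2, 1), (1, 4), (0, 0), (2, 1), (2, 2), (1, 0), (1, 0),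
  (2, 2), (2, 3), (0, 0), (0, 0), (2, 0), (0, 0), (1, 1), (1, 3), (0, 0), (2, 1), (1, 3), (1, 0), (1, 0), (2, 2),
  (0, 0), (1, 1), (2, 1), (2, 3), (0, 0), (2, 0), (2, 2), (0, 0), (1, 1), (2, 0), (2, 2), (0, 0), (2, 7), (0, 0),
  (0, 0), (0, 0), (0, 0), (2, 0), (1, 3), (0, 0), (1, 1), (0, 0), (2, 3), (0, 0), (0, 0), (1, 1), (1, 2), (0, 0),
  (2, 0), (2, 2), (2, 2), (0, 0), (1, 1), (1, 4), (0, 0), (0, 0), (1, 1), (1, 0), (2, 3), (0, 0), (1, 4), (0, 0),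
  (0, 0), (0, 0), (1, 2), (2, 0), (1, 0), (2, 0), (2, 4), (0, 0), (1, 0), (2, 1), (1, 2), (2, 0), (2, 2), (2, 0),
  (1, 4), (0, 0), (1, 0), (2, 1), (0, 0), (1, 3), (2, 0), (2, 0), (2, 3), (1, 0), (0, 0), (2, 1), (0, 0), (2, 5),
  (0, 0), (0, 0), (1, 1), (0, 0), (0, 0), (2, 2), (2, 2), (0, 0), (2, 1), (2, 0), (1, 4), (0, 0), (0, 0), (2, 1),
  (1, 2), (0, 0), (2, 1), (2, 2), (2, 0), (1, 0), (2, 4), (0, 0), (2, 0), (1, 2), (0, 0), (2, 1), (2, 2), (0, 0),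
  (2, 5), (0, 0), (0, 0), (0, 0), (0, 0), (1, 2), (0, 0), (0, 0), (2, 1), (2, 3), (0, 0), (0, 0), (1, 1), (1, 2),
  (2, 0), (2, 2), (1, 3), (0, 0), (0, 0), (2, 2), (0, 0), (2, 1), (2, 3), (1, 0), (2, 1), (1, 0), (1, 4), (0, 0),
  (0, 0), (2, 0), (1, 2), (1, 2), (0, 0), (1, 0), (2, 1), (2, 0), (1, 3), (0, 0)]

def hsTree_12 : List (ℕ × ℕ) := [
  (2, 1), (2, 3), (0, 0), (1, 0), (0, 0), (2, 1), (1, 3), (0, 0), (1, 1), (0, 0), (2, 2), (1, 0), (2, 0), (2, 4),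
  (0, 0), (1, 0), (2, 2), (2, 0), (2, 5), (0, 0), (0, 0), (2, 0), (1, 2), (1, 0), (2, 1), (2, 2), (1, 2), (0, 0),
  (0, 0), (1, 2), (1, 0), (2, 2), (2, 0), (2, 3), (0, 0), (0, 0), (1, 1), (2, 1), (2, 2), (0, 0), (2, 1), (1, 7),
  (2, 0), (0, 0), (0, 0), (0, 0), (0, 0), (2, 0), (1, 2), (2, 1), (0, 0), (1, 3), (0, 0), (1, 1), (0, 0), (1, 0),
  (2, 4), (0, 0), (1, 0), (0, 0), (2, 1), (1, 3), (0, 0), (0, 0), (2, 2), (2, 2), (2, 0), (1, 4), (0, 0), (0, 0),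
  (0, 0), (0, 0), (1, 3), (1, 0), (2, 2), (0, 0), (2, 0), (1, 2), (0, 0), (2, 2), (2, 0), (1, 4), (0, 0), (1, 0),
  (1, 0), (2, 2), (1, 2), (2, 0), (2, 0), (2, 3), (2, 2), (0, 0), (0, 0), (1, 2), (2, 1), (2, 3), (0, 0), (0, 0),
  (2, 0), (2, 0), (1, 3), (0, 0), (1, 0), (1, 2), (2, 2), (1, 0), (2, 3), (0, 0), (0, 0), (1, 1), (2, 1), (1, 2),
  (1, 0), (1, 0), (2, 2), (1, 0), (2, 3), (0, 0), (2, 0), (1, 2), (1, 5), (0, 0), (0, 0), (1, 0), (0, 0), (2, 2),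
  (1, 0), (1, 3), (2, 0), (2, 0), (2, 3), (0, 0), (1, 0), (1, 0), (2, 1), (1, 3), (1, 0), (2, 1), (2, 2), (2, 0),
  (0, 0), (1, 5), (0, 0), (1, 0), (0, 0), (1, 1), (2, 2), (0, 0), (2, 1), (1, 3), (0, 0), (2, 0), (1, 2), (0, 0),
  (1, 1), (0, 0), (2, 3), (1, 0), (0, 0), (2, 4), (1, 0), (0, 0), (2, 0), (2, 3), (0, 0), (1, 1), (1, 0), (2, 2),
  (2, 4), (0, 0), (0, 0), (0, 0), (1, 0), (1, 2), (2, 1), (1, 0), (1, 3), (1, 0), (2, 1), (1, 3), (0, 0), (0, 0),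
  (1, 2), (0, 0), (1, 0), (2, 2), (0, 0), (2, 3), (0, 0), (0, 0), (1, 1), (2, 1), (2, 4), (0, 0), (0, 0), (2, 0),
  (1, 2), (0, 0), (1, 1), (2, 1), (2, 2), (1, 0), (2, 1), (1, 3), (1, 0), (2, 2), (0, 0), (0, 0), (1, 2), (0, 0),
  (2, 2), (1, 0), (2, 6), (0, 0), (0, 0), (1, 0), (0, 0), (0, 0), (2, 2), (2, 2), (1, 0), (1, 0), (2, 2), (0, 0),
  (2, 0), (2, 2), (1, 0), (1, 5), (0, 0), (1, 1), (0, 0), (2, 2), (0, 0), (1, 1), (1, 0), (2, 4), (2, 0), (0, 0),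
  (1, 4), (0, 0), (0, 0), (2, 0), (1, 0), (1, 3), (2, 0), (2, 2), (1, 2), (0, 0), (0, 0), (1, 2), (2, 1), (2, 2),
  (1, 0), (0, 0), (0, 0), (1, 2), (2, 0), (2, 2), (0, 0), (2, 3), (2, 0), (2, 0), (2, 5), (0, 0), (0, 0), (0, 0),
  (2, 0), (2, 2), (1, 0), (1, 3), (2, 0), (2, 2), (1, 0), (1, 0), (2, 2), (1, 3), (0, 0), (0, 0), (1, 1), (1, 0),
  (1, 3), (2, 0), (2, 2), (0, 0), (1, 0), (1, 2), (1, 0), (2, 2), (2, 3), (0, 0), (0, 0), (1, 0), (1, 3), (2, 0),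
  (2, 0), (2, 8), (0, 0), (0, 0), (0, 0), (0, 0), (0, 0), (0, 0), (1, 2), (2, 0), (0, 0), (1, 4), (2, 0), (2, 2),
  (1, 0), (1, 0), (1, 4), (0, 0), (0, 0), (1, 1), (1, 2), (2, 1), (0, 0), (0, 0), (1, 0), (2, 1), (2, 2), (1, 2),
  (0, 0), (1, 1), (2, 2), (1, 0), (2, 1), (1, 0), (2, 5), (0, 0), (1, 0), (1, 0), (2, 1), (2, 2), (0, 0), (1, 1),
  (2, 1), (0, 0), (2, 1), (1, 4), (1, 0), (1, 0), (2, 1), (2, 2), (1, 4), (0, 0), (0, 0), (1, 1), (0, 0), (2, 0),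
  (1, 2), (1, 0), (2, 1), (2, 3), (1, 0), (1, 0), (2, 1), (2, 0), (2, 3), (2, 0), (1, 4), (1, 0), (2, 0), (2, 0),
  (2, 3), (0, 0), (2, 3), (0, 0), (0, 0), (1, 0), (1, 3), (0, 0), (1, 1), (2, 4), (0, 0), (0, 0), (0, 0), (0, 0),
  (1, 2), (2, 0), (2, 2), (1, 2), (1, 0), (0, 0), (2, 3), (1, 2), (0, 0), (2, 0), (0, 0), (1, 0), (2, 2), (1, 3),
  (0, 0), (2, 0), (1, 2), (0, 0), (2, 2), (1, 0), (2, 4), (0, 0), (1, 0), (2, 0), (2, 2), (0, 0), (1, 3), (0, 0),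
  (0, 0), (1, 0), (1, 3), (0, 0), (1, 1), (2, 2), (2, 0), (2, 3), (1, 0), (2, 1), (0, 0), (1, 1), (2, 0), (2, 2),
  (1, 6), (0, 0), (0, 0), (0, 0), (0, 0), (2, 1), (1, 0), (2, 1), (2, 0), (1, 4), (2, 0), (0, 0), (1, 1), (2, 3),
  (0, 0), (1, 1), (0, 0), (1, 1), (2, 2), (0, 0), (1, 0), (1, 2), (1, 0), (2, 2), (1, 4), (2, 1), (0, 0), (0, 0),
  (2, 1), (1, 0), (1, 3), (2, 0), (0, 0), (1, 0), (1, 2), (2, 3), (0, 0), (1, 0), (2, 1), (2, 2), (1, 0), (2, 1),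
  (1, 5), (0, 0), (0, 0), (2, 0), (0, 0), (1, 1), (1, 3), (2, 1), (0, 0), (2, 0), (1, 0), (1, 3), (1, 3), (0, 0),
  (0, 0), (1, 1), (1, 0), (2, 3), (2, 0), (0, 0), (0, 0), (1, 2), (2, 1), (1, 0), (2, 1), (2, 5), (0, 0), (1, 0),
  (2, 1), (1, 0), (2, 0), (1, 4), (1, 0), (2, 1), (0, 0), (2, 1), (2, 5), (0, 0)]

def hsTree_13 : List (ℕ × ℕ) := [
  (0, 0), (0, 0), (0, 0), (1, 2), (1, 0), (2, 1), (2, 2), (0, 0), (1, 1), (0, 0), (1, 1), (2, 2), (1, 0), (1, 0),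
  (2, 2), (1, 4), (2, 1), (2, 0), (0, 0), (2, 1), (2, 0), (1, 5), (0, 0), (0, 0), (1, 0), (1, 2), (2, 0), (2, 3),
  (0, 0), (1, 1), (0, 0), (1, 1), (2, 2), (0, 0), (1, 1), (1, 0), (2, 7), (0, 0), (0, 0), (0, 0), (0, 0), (0, 0),
  (2, 0), (1, 2), (2, 1), (1, 2), (0, 0), (1, 1), (2, 0), (2, 2), (0, 0), (1, 1), (1, 4), (0, 0), (2, 0), (1, 2),
  (2, 2), (0, 0), (0, 0), (1, 1), (0, 0), (2, 1), (2, 2), (1, 2), (1, 0), (0, 0), (1, 1), (2, 3), (0, 0), (0, 0),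
  (1, 5), (0, 0), (0, 0), (0, 0), (0, 0), (1, 1), (2, 2), (1, 2), (0, 0), (2, 0), (2, 2), (1, 3), (2, 0), (1, 0),
  (2, 1), (0, 0), (2, 4), (0, 0), (2, 0), (1, 2), (0, 0), (1, 1), (2, 2), (0, 0), (2, 4), (0, 0), (0, 0), (2, 1),
  (2, 0), (2, 0), (1, 4), (0, 0), (1, 0), (1, 0), (2, 2), (1, 2), (2, 0), (2, 2), (2, 0), (1, 5), (0, 0), (0, 0),
  (0, 0), (0, 0), (2, 0), (1, 2), (2, 1), (1, 2), (0, 0), (2, 0), (1, 2), (0, 0), (2, 2), (2, 2), (1, 0), (2, 1),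
  (1, 3), (0, 0), (0, 0), (1, 0), (1, 2), (2, 1), (0, 0), (1, 1), (2, 3), (1, 0), (2, 0), (2, 4), (0, 0), (1, 0),
  (1, 2), (0, 0), (1, 1), (2, 1), (2, 2), (2, 0), (1, 4), (0, 0), (0, 0), (0, 0), (1, 1), (1, 2), (2, 1), (0, 0),
  (1, 1), (0, 0), (2, 4), (0, 0), (1, 0), (2, 1), (1, 0), (1, 3), (2, 0), (2, 2), (2, 3), (0, 0), (1, 0), (0, 0),
  (1, 3), (0, 0), (0, 0), (2, 1), (1, 2), (1, 0), (2, 1), (2, 2), (0, 0), (0, 0), (1, 1), (1, 2), (0, 0), (2, 0),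
  (2, 2), (2, 2), (1, 0), (2, 4), (1, 0), (2, 0), (0, 0), (2, 3), (0, 0), (2, 1), (0, 0), (2, 6), (0, 0), (0, 0),
  (0, 0), (0, 0), (1, 1), (1, 0), (2, 1), (2, 3), (0, 0), (2, 0), (1, 2), (1, 0), (2, 1), (2, 2), (1, 3), (0, 0),
  (0, 0), (0, 0), (1, 2), (0, 0), (2, 1), (2, 2), (0, 0), (1, 3), (0, 0), (0, 0), (2, 3), (0, 0), (2, 0), (1, 2),
  (2, 3), (1, 0), (1, 0), (2, 2), (1, 0), (2, 1), (1, 4), (0, 0), (0, 0), (1, 1), (0, 0), (1, 1), (2, 2), (0, 0),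
  (1, 3), (1, 0), (0, 0), (1, 1), (0, 0), (1, 1), (2, 3), (2, 0), (2, 3), (0, 0), (0, 0), (2, 0), (1, 2), (1, 0),
  (2, 2), (1, 2), (0, 0), (2, 1), (0, 0), (2, 3), (1, 0), (2, 4), (2, 0), (0, 0), (0, 0), (1, 1), (2, 1), (1, 2),
  (0, 0), (2, 8), (0, 0), (0, 0), (0, 0), (0, 0), (0, 0), (0, 0), (1, 1), (2, 0), (1, 0), (2, 3), (2, 0), (1, 3),
  (0, 0), (2, 0), (2, 2), (2, 2), (0, 0), (1, 1), (0, 0), (1, 1), (2, 2), (0, 0), (0, 0), (1, 2), (2, 0), (2, 2),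
  (1, 4), (0, 0), (1, 0), (0, 0), (2, 2), (0, 0), (2, 0), (1, 4), (0, 0), (2, 0), (2, 0), (1, 3), (2, 0), (2, 3),
  (1, 0), (2, 0), (2, 2), (2, 0), (2, 4), (0, 0), (0, 0), (0, 0), (1, 1), (0, 0), (1, 3), (0, 0), (1, 3), (0, 0),
  (0, 0), (1, 1), (2, 2), (2, 0), (2, 3), (2, 0), (0, 0), (1, 1), (1, 5), (0, 0), (0, 0), (0, 0), (1, 0), (2, 1),
  (1, 2), (2, 1), (1, 2), (2, 0), (2, 2), (0, 0), (2, 0), (1, 0), (1, 5), (0, 0), (2, 1), (2, 0), (2, 3), (0, 0),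
  (1, 0), (1, 0), (2, 2), (1, 0), (2, 0), (2, 2), (1, 3), (0, 0), (0, 0), (1, 1), (2, 1), (1, 0), (2, 3), (1, 0),
  (2, 1), (2, 5), (0, 0), (0, 0), (0, 0), (0, 0), (2, 0), (1, 2), (2, 2), (2, 0), (1, 3), (2, 0), (2, 2), (2, 0),
  (0, 0), (2, 1), (1, 4), (0, 0), (0, 0), (1, 1), (2, 0), (1, 0), (2, 3), (0, 0), (1, 0), (1, 2), (1, 3), (0, 0),
  (1, 1), (0, 0), (2, 1), (2, 3), (0, 0), (0, 0), (0, 0), (1, 1), (2, 2), (2, 0), (2, 3), (0, 0), (2, 1), (2, 4),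
  (0, 0), (0, 0), (1, 0), (2, 1), (2, 0), (1, 3), (0, 0), (1, 1), (1, 0), (2, 3), (1, 2), (0, 0), (0, 0), (0, 0),
  (1, 2), (2, 0), (2, 2), (2, 2), (0, 0), (1, 0), (1, 2), (1, 0), (2, 2), (2, 3), (0, 0), (0, 0), (2, 1), (2, 2),
  (1, 0), (2, 1), (1, 0), (1, 7), (0, 0), (0, 0), (0, 0), (0, 0), (1, 0), (2, 1), (1, 2), (0, 0), (2, 2), (0, 0),
  (1, 1), (0, 0), (2, 2), (2, 0), (1, 5), (0, 0), (0, 0), (0, 0), (2, 0), (2, 2), (1, 2), (2, 1), (1, 2), (2, 1),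
  (0, 0), (0, 0), (1, 0), (2, 2), (2, 2), (0, 0), (2, 4), (1, 0), (0, 0), (0, 0), (1, 0), (2, 3), (0, 0), (1, 1),
  (2, 3), (0, 0), (0, 0), (1, 1), (1, 2), (1, 0), (0, 0), (2, 3), (1, 0), (2, 0), (2, 2), (1, 5), (0, 0), (0, 0),
  (0, 0), (2, 1), (1, 0), (2, 0), (2, 2), (1, 3), (2, 0), (2, 0), (1, 0), (2, 4)]

def hsTree_14 : List (ℕ × ℕ) := [
  (0, 0), (1, 1), (1, 3), (0, 0), (0, 0), (2, 1), (2, 0), (0, 0), (2, 4), (0, 0), (0, 0), (2, 1), (1, 2), (0, 0),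
  (1, 1), (2, 1), (2, 2), (0, 0), (1, 1), (0, 0), (2, 1), (2, 2), (2, 5), (0, 0), (0, 0), (0, 0), (1, 0), (2, 1),
  (2, 0), (1, 3), (1, 0), (2, 2), (0, 0), (2, 1), (0, 0), (2, 1), (1, 4), (1, 0), (0, 0), (2, 1), (0, 0), (2, 4),
  (0, 0), (1, 0), (1, 2), (2, 1), (0, 0), (1, 1), (2, 1), (2, 0), (1, 5), (1, 0), (0, 0), (1, 0), (1, 2), (1, 0),
  (2, 2), (2, 2), (0, 0), (1, 0), (1, 2), (2, 0), (2, 2), (0, 0), (1, 1), (2, 4), (0, 0), (0, 0), (2, 0), (1, 3),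
  (2, 0), (0, 0), (1, 1), (2, 0), (2, 2), (2, 3), (0, 0), (2, 0), (1, 2), (0, 0), (2, 2), (2, 0), (2, 6), (0, 0),
  (0, 0), (0, 0), (0, 0), (0, 0), (1, 1), (2, 1), (1, 3), (1, 0), (1, 0), (2, 1), (2, 3), (1, 0), (0, 0), (2, 1),
  (1, 4), (0, 0), (0, 0), (0, 0), (2, 2), (0, 0), (2, 1), (2, 0), (1, 4), (2, 0), (0, 0), (2, 3), (0, 0), (0, 0),
  (2, 1), (2, 4), (0, 0), (0, 0), (2, 0), (1, 2), (0, 0), (0, 0), (2, 2), (2, 2), (1, 2), (1, 0), (0, 0), (1, 1),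
  (2, 1), (2, 3), (0, 0), (1, 1), (0, 0), (1, 0), (1, 2), (0, 0), (2, 3), (0, 0), (2, 0), (1, 6), (0, 0), (0, 0),
  (1, 0), (2, 1), (0, 0), (2, 1), (1, 3), (0, 0), (2, 1), (0, 0), (2, 3), (0, 0), (0, 0), (1, 1), (1, 4), (1, 0),
  (0, 0), (1, 0), (1, 2), (2, 0), (2, 3), (1, 0), (0, 0), (2, 1), (0, 0), (2, 3), (0, 0), (0, 0), (2, 2), (2, 4),
  (0, 0), (0, 0), (2, 0), (1, 2), (2, 0), (1, 3), (1, 0), (0, 0), (2, 2), (1, 0), (2, 3), (0, 0), (2, 0), (2, 0),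
  (2, 6), (0, 0), (0, 0), (1, 0), (2, 0), (2, 2), (1, 0), (2, 1), (1, 3), (0, 0), (1, 1), (2, 1), (0, 0), (2, 3),
  (0, 0), (0, 0), (1, 2), (0, 0), (1, 1), (2, 2), (1, 3), (0, 0), (0, 0), (2, 0), (1, 2), (2, 1), (1, 2), (0, 0),
  (1, 1), (0, 0), (2, 2), (1, 0), (2, 3), (0, 0), (1, 1), (1, 0), (1, 0), (2, 2), (0, 0), (1, 1), (2, 5), (0, 0),
  (1, 0), (2, 1), (2, 2), (0, 0), (2, 0), (1, 7), (0, 0), (0, 0), (0, 0), (2, 0), (0, 0), (0, 0), (1, 1), (1, 2),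
  (0, 0), (1, 4), (0, 0), (1, 0), (1, 2), (0, 0), (2, 2), (2, 0), (1, 0), (2, 1), (2, 0), (2, 5), (0, 0), (0, 0),
  (2, 0), (1, 0), (1, 3), (0, 0), (2, 2), (1, 2), (2, 0), (2, 2), (0, 0), (0, 0), (1, 1), (0, 0), (1, 3), (1, 0),
  (2, 1), (1, 0), (2, 1), (2, 3), (1, 4), (0, 0), (0, 0), (0, 0), (0, 0), (2, 0), (2, 3), (2, 2), (1, 0), (2, 3),
  (0, 0), (0, 0), (1, 0), (1, 0), (2, 2), (1, 0), (1, 3), (0, 0), (2, 2), (2, 0), (1, 3), (0, 0), (0, 0), (1, 1),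
  (2, 1), (1, 2), (0, 0), (2, 0), (1, 2), (1, 0), (2, 1), (2, 3), (0, 0), (0, 0), (1, 2), (2, 1), (0, 0), (1, 1),
  (2, 4), (0, 0), (2, 0), (2, 2), (2, 4), (0, 0), (0, 0), (0, 0), (1, 1), (1, 0), (2, 1), (2, 2), (1, 0), (2, 1),
  (0, 0), (1, 4), (0, 0), (1, 0), (1, 2), (1, 0), (2, 2), (0, 0), (1, 1), (0, 0), (2, 1), (2, 2), (2, 3), (0, 0),
  (2, 1), (2, 0), (1, 4), (1, 0), (1, 0), (2, 0), (2, 2), (1, 0), (1, 0), (2, 2), (2, 3), (1, 0), (2, 3), (0, 0),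
  (0, 0), (1, 0), (1, 0), (1, 3), (2, 1), (1, 2), (0, 0), (0, 0), (1, 2), (1, 0), (2, 3), (0, 0), (1, 1), (0, 0),
  (1, 1), (2, 1), (2, 0), (2, 3), (1, 0), (2, 1), (1, 6), (0, 0), (0, 0), (2, 0), (0, 0), (2, 0), (1, 2), (2, 1),
  (0, 0), (1, 1), (1, 4), (0, 0), (1, 0), (0, 0), (2, 2), (0, 0), (0, 0), (1, 4), (2, 2), (0, 0), (0, 0), (2, 0),
  (1, 2), (1, 2), (2, 0), (1, 0), (2, 3), (1, 0), (1, 0), (1, 0), (1, 6), (0, 0), (0, 0), (1, 0), (2, 1), (2, 0),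
  (1, 3), (0, 0), (1, 1), (2, 1), (0, 0), (1, 1), (1, 0), (2, 4), (0, 0), (0, 0), (1, 2), (0, 0), (2, 0), (1, 2),
  (1, 0), (2, 3), (0, 0), (1, 4), (2, 0), (1, 0), (0, 0), (1, 1), (2, 0), (2, 3), (0, 0), (1, 1), (0, 0), (2, 5),
  (0, 0), (0, 0), (1, 1), (1, 2), (1, 0), (2, 0), (2, 2), (2, 2), (1, 0), (2, 0), (0, 0), (2, 6), (0, 0), (0, 0),
  (0, 0), (0, 0), (2, 1), (0, 0), (1, 3), (2, 1), (0, 0), (2, 1), (2, 0), (1, 4), (0, 0), (0, 0), (2, 1), (2, 2),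
  (0, 0), (1, 1), (2, 3), (0, 0), (0, 0), (1, 1), (1, 2), (2, 0), (2, 2), (1, 3), (1, 0), (0, 0), (1, 0), (0, 0),
  (1, 3), (2, 1), (1, 0), (2, 3), (0, 0), (0, 0), (1, 0), (1, 2), (2, 1), (1, 2), (0, 0), (2, 0), (1, 2), (2, 1),
  (2, 0), (2, 3), (2, 0), (2, 4), (0, 0), (0, 0), (0, 0), (1, 2), (1, 0), (1, 3)]

def hsTree_15 : List (ℕ × ℕ) := [
  (1, 0), (0, 0), (2, 0), (2, 4), (0, 0), (0, 0), (1, 1), (2, 0), (1, 3), (0, 0), (1, 1), (1, 0), (2, 3), (0, 0),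
  (0, 0), (2, 7), (0, 0), (0, 0), (1, 0), (0, 0), (0, 0), (1, 0), (1, 2), (1, 2), (2, 0), (2, 2), (0, 0), (1, 1),
  (2, 1), (2, 3), (0, 0), (0, 0), (1, 2), (0, 0), (1, 1), (2, 1), (1, 4), (0, 0), (1, 0), (0, 0), (1, 1), (2, 0),
  (2, 3), (0, 0), (1, 3), (0, 0), (1, 1), (2, 0), (0, 0), (2, 1), (2, 3), (0, 0), (2, 3), (0, 0), (0, 0), (1, 2),
  (0, 0), (1, 1), (2, 1), (2, 0), (2, 3), (0, 0), (2, 1), (2, 4), (0, 0), (2, 0), (0, 0), (1, 1), (1, 3), (2, 0),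
  (1, 0), (2, 1), (2, 3), (1, 0), (1, 4), (1, 0), (0, 0), (1, 0), (1, 0), (2, 1), (2, 0), (2, 3), (0, 0), (2, 0),
  (1, 2), (2, 0), (2, 2), (0, 0), (2, 5), (0, 0), (0, 0), (0, 0), (2, 1), (1, 0), (1, 3), (0, 0), (2, 2), (0, 0),
  (1, 1), (2, 0), (1, 4), (0, 0), (0, 0), (1, 1), (1, 2), (0, 0), (2, 2), (1, 0), (2, 3), (0, 0), (2, 0), (2, 2),
  (2, 0), (1, 0), (2, 6), (0, 0), (0, 0), (0, 0), (2, 0), (2, 2), (0, 0), (1, 1), (1, 3), (0, 0), (0, 0), (1, 2),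
  (0, 0), (0, 0), (1, 2), (2, 1), (2, 2), (1, 0), (1, 0), (2, 2), (1, 4), (0, 0), (0, 0), (0, 0), (0, 0), (1, 2),
  (0, 0), (1, 3), (2, 1), (0, 0), (1, 1), (0, 0), (1, 4), (1, 0), (0, 0), (2, 1), (2, 2), (1, 0), (2, 3), (0, 0),
  (1, 0), (2, 0), (1, 3), (0, 0), (1, 1), (2, 1), (2, 2), (2, 0), (0, 0), (2, 5), (0, 0), (0, 0), (1, 0), (2, 0),
  (2, 2), (1, 0), (1, 3), (0, 0), (1, 3), (0, 0), (0, 0), (1, 1), (2, 1), (1, 2), (1, 0), (2, 1), (0, 0), (2, 1),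
  (2, 3), (1, 0), (2, 1), (2, 0), (2, 4), (0, 0), (0, 0), (1, 1), (2, 1), (1, 2), (0, 0), (0, 0), (2, 1), (1, 2),
  (2, 1), (0, 0), (2, 3), (2, 0), (2, 7), (1, 0), (0, 0), (0, 0), (0, 0), (0, 0), (1, 1), (0, 0), (2, 2), (1, 0),
  (2, 3), (1, 0), (2, 1), (1, 3), (0, 0), (1, 1), (1, 0), (0, 0), (2, 1), (2, 4), (0, 0), (1, 0), (2, 0), (2, 2),
  (1, 2), (1, 0), (2, 0), (2, 2), (1, 0), (2, 3), (2, 0), (1, 0), (0, 0), (2, 2), (1, 5), (0, 0), (0, 0), (0, 0),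
  (2, 1), (0, 0), (0, 0), (1, 4), (1, 0), (2, 1), (0, 0), (2, 0), (1, 2), (2, 3), (0, 0), (0, 0), (2, 0), (1, 3),
  (2, 0), (2, 2), (0, 0), (2, 1), (1, 4), (0, 0), (0, 0), (2, 0), (1, 2), (2, 2), (1, 0), (0, 0), (2, 2), (2, 3),
  (0, 0), (1, 0), (2, 1), (1, 2), (2, 0), (0, 0), (1, 1), (2, 3), (0, 0), (2, 1), (1, 0), (2, 5), (1, 0), (0, 0),
  (0, 0), (1, 1), (2, 1), (1, 2), (0, 0), (1, 0), (2, 1), (0, 0), (1, 3), (2, 0), (2, 2), (2, 0), (0, 0), (2, 4),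
  (0, 0), (1, 0), (2, 1), (1, 2), (2, 3), (0, 0), (1, 0), (2, 1), (0, 0), (1, 1), (1, 0), (2, 2), (2, 0), (1, 4),
  (1, 0), (2, 1), (0, 0), (1, 1), (0, 0), (2, 1), (2, 4), (2, 0), (2, 0), (2, 6), (0, 0), (0, 0), (0, 0), (0, 0),
  (2, 0), (0, 0), (1, 3), (0, 0), (1, 1), (2, 1), (1, 0), (1, 4), (0, 0), (1, 0), (1, 2), (0, 0), (2, 1), (2, 2),
  (0, 0), (2, 3), (0, 0), (1, 1), (1, 0), (2, 1), (2, 2), (0, 0), (2, 1), (1, 4), (2, 0), (0, 0), (2, 0), (1, 2),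
  (2, 0), (2, 2), (1, 0), (2, 1), (2, 4), (0, 0), (0, 0), (0, 0), (1, 2), (0, 0), (1, 3), (0, 0), (0, 0), (1, 1),
  (1, 2), (0, 0), (1, 1), (2, 1), (2, 3), (1, 0), (1, 0), (2, 2), (1, 0), (1, 5), (0, 0), (0, 0), (0, 0), (0, 0),
  (2, 1), (2, 2), (1, 0), (2, 1), (1, 3), (0, 0), (1, 0), (2, 2), (0, 0), (1, 1), (2, 3), (1, 0), (0, 0), (2, 1),
  (1, 4), (0, 0), (0, 0), (2, 0), (1, 2), (0, 0), (2, 1), (2, 2), (1, 2), (0, 0), (1, 1), (2, 0), (2, 0), (2, 3),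
  (2, 2), (1, 0), (0, 0), (2, 1), (2, 2), (1, 0), (2, 4), (0, 0), (1, 0), (0, 0), (1, 0), (2, 1), (1, 2), (1, 0),
  (2, 3), (0, 0), (2, 1), (1, 3), (0, 0), (0, 0), (0, 0), (1, 2), (2, 1), (1, 2), (0, 0), (2, 0), (1, 2), (2, 1),
  (2, 2), (2, 0), (2, 3), (0, 0), (1, 1), (0, 0), (0, 0), (2, 2), (2, 2), (0, 0), (2, 5), (0, 0), (0, 0), (1, 0),
  (0, 0), (2, 2), (0, 0), (2, 0), (1, 4), (0, 0), (2, 1), (1, 0), (2, 3), (0, 0), (1, 1), (2, 1), (2, 0), (1, 4),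
  (0, 0), (1, 0), (1, 0), (2, 2), (0, 0), (2, 1), (1, 3), (0, 0), (1, 0), (2, 1), (2, 2), (2, 2), (0, 0), (0, 0),
  (2, 1), (1, 2), (2, 0), (2, 4), (0, 0), (0, 0), (1, 0), (1, 2), (0, 0), (2, 1), (1, 3), (0, 0), (0, 0), (2, 1),
  (1, 2), (0, 0), (1, 0), (2, 1), (2, 2), (1, 0), (2, 3), (1, 0), (2, 3), (0, 0)]

def hsTree_16 : List (ℕ × ℕ) := [
  (1, 0), (2, 0), (2, 2), (1, 2), (1, 0), (1, 0), (2, 2), (0, 0), (2, 3), (0, 0), (2, 9), (0, 0), (0, 0), (0, 0),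
  (0, 0), (0, 0), (1, 1), (0, 0), (0, 0), (1, 1), (2, 0), (2, 3), (0, 0), (1, 1), (0, 0), (1, 1), (2, 2), (1, 0),
  (2, 1), (1, 0), (2, 1), (2, 5), (0, 0), (1, 0), (1, 2), (2, 1), (0, 0), (0, 0), (2, 2), (1, 4), (0, 0), (0, 0),
  (1, 0), (2, 1), (0, 0), (1, 3), (2, 0), (2, 0), (2, 3), (1, 0), (0, 0), (1, 1), (2, 1), (2, 0), (2, 3), (1, 3),
  (0, 0), (1, 1), (0, 0), (1, 1), (2, 1), (2, 0), (2, 4), (1, 0), (0, 0), (1, 1), (1, 0), (2, 2), (2, 2), (2, 0),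
  (2, 0), (2, 5), (0, 0), (0, 0), (2, 0), (0, 0), (1, 1), (0, 0), (2, 1), (1, 4), (0, 0), (1, 0), (2, 2), (1, 0),
  (2, 1), (2, 3), (0, 0), (2, 0), (1, 4), (0, 0), (0, 0), (1, 1), (0, 0), (1, 1), (2, 2), (0, 0), (1, 1), (2, 1),
  (1, 3), (2, 1), (0, 0), (1, 0), (2, 0), (1, 3), (0, 0), (2, 2), (0, 0), (2, 4), (0, 0), (1, 1), (0, 0), (0, 0),
  (1, 1), (1, 2), (0, 0), (2, 0), (2, 3), (1, 0), (1, 0), (2, 2), (2, 3), (0, 0), (0, 0), (1, 1), (1, 2), (0, 0),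
  (2, 0), (1, 2), (1, 6), (0, 0), (0, 0), (2, 0), (1, 2), (0, 0), (2, 0), (0, 0), (1, 3), (1, 0), (0, 0), (2, 2),
  (1, 0), (2, 1), (2, 3), (1, 0), (2, 3), (0, 0), (0, 0), (0, 0), (2, 0), (2, 3), (1, 2), (1, 0), (0, 0), (1, 1),
  (1, 0), (2, 3), (1, 0), (2, 3), (0, 0), (2, 0), (1, 5), (1, 0), (0, 0), (1, 1), (1, 0), (2, 1), (2, 2), (0, 0),
  (1, 0), (1, 2), (2, 1), (0, 0), (1, 1), (2, 4), (0, 0), (2, 0), (2, 4), (0, 0), (1, 0), (1, 0), (2, 1), (2, 2),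
  (0, 0), (1, 1), (0, 0), (0, 0), (1, 2), (0, 0), (2, 2), (2, 0), (1, 5), (2, 1), (0, 0), (1, 0), (2, 0), (1, 3),
  (2, 0), (2, 0), (2, 3), (0, 0), (1, 0), (1, 0), (2, 2), (1, 0), (1, 3), (0, 0), (0, 0), (1, 2), (2, 1), (2, 2),
  (2, 0), (2, 0), (2, 7), (0, 0), (0, 0), (0, 0), (0, 0), (0, 0), (1, 1), (2, 1), (2, 2), (0, 0), (1, 1), (1, 3),
  (0, 0), (0, 0), (1, 2), (1, 0), (2, 1), (2, 2), (2, 2), (1, 0), (2, 1), (1, 3), (0, 0), (0, 0), (2, 1), (1, 0),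
  (2, 0), (2, 2), (1, 3), (0, 0), (0, 0), (0, 0), (1, 2), (0, 0), (2, 2), (1, 2), (0, 0), (2, 1), (2, 2), (0, 0),
  (0, 0), (1, 1), (2, 2), (2, 3), (0, 0), (0, 0), (1, 0), (1, 2), (2, 1), (1, 2), (0, 0), (2, 1), (2, 2), (1, 0),
  (2, 1), (2, 4), (0, 0), (0, 0), (0, 0), (2, 2), (1, 0), (2, 1), (2, 0), (1, 4), (1, 0), (0, 0), (0, 0), (2, 2),
  (2, 2), (0, 0), (1, 1), (2, 3), (1, 0), (0, 0), (2, 2), (1, 0), (2, 1), (1, 5), (0, 0), (0, 0), (0, 0), (0, 0),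
  (1, 1), (1, 2), (0, 0), (2, 2), (1, 0), (2, 1), (1, 3), (0, 0), (2, 0), (2, 2), (0, 0), (1, 1), (2, 1), (2, 3),
  (0, 0), (0, 0), (2, 1), (2, 2), (1, 3), (0, 0), (0, 0), (0, 0), (0, 0), (1, 2), (2, 1), (1, 2), (1, 0), (2, 2),
  (1, 2), (0, 0), (2, 1), (1, 0), (2, 1), (0, 0), (2, 4), (1, 0), (0, 0), (2, 1), (2, 4), (0, 0), (0, 0), (1, 0),
  (2, 1), (2, 2), (1, 2), (0, 0), (1, 0), (1, 2), (0, 0), (2, 3), (0, 0), (2, 0), (0, 0), (1, 3), (2, 1), (1, 0),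
  (2, 0), (2, 6), (0, 0), (0, 0), (0, 0), (1, 0), (2, 1), (1, 2), (2, 1), (0, 0), (2, 1), (1, 3), (0, 0), (0, 0),
  (0, 0), (1, 2), (2, 2), (0, 0), (2, 3), (1, 2), (0, 0), (0, 0), (1, 0), (1, 2), (0, 0), (1, 1), (0, 0), (2, 2),
  (1, 3), (0, 0), (0, 0), (0, 0), (1, 2), (0, 0), (2, 3), (0, 0), (2, 4), (0, 0), (0, 0), (1, 0), (1, 2), (0, 0),
  (1, 0), (1, 2), (2, 2), (1, 2), (0, 0), (0, 0), (2, 2), (0, 0), (2, 3), (0, 0), (0, 0), (2, 1), (1, 2), (1, 0),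
  (2, 0), (2, 3), (2, 0), (1, 7), (0, 0), (0, 0), (0, 0), (1, 1), (1, 0), (0, 0), (1, 1), (2, 1), (1, 0), (2, 3),
  (0, 0), (2, 1), (0, 0), (1, 0), (2, 2), (2, 4), (1, 0), (0, 0), (1, 0), (2, 3), (0, 0), (0, 0), (1, 5), (0, 0),
  (0, 0), (1, 1), (2, 0), (0, 0), (2, 3), (0, 0), (2, 1), (0, 0), (1, 4), (0, 0), (2, 0), (0, 0), (1, 1), (1, 0),
  (2, 1), (1, 4), (0, 0), (2, 0), (1, 2), (2, 1), (2, 0), (2, 3), (1, 0), (2, 1), (1, 0), (2, 1), (2, 0), (2, 5),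
  (0, 0), (2, 0), (1, 0), (1, 3), (0, 0), (1, 1), (2, 0), (2, 2), (2, 4), (0, 0), (0, 0), (1, 0), (2, 1), (0, 0),
  (2, 1), (1, 3), (1, 0), (2, 1), (0, 0), (1, 1), (2, 1), (2, 0), (2, 4), (0, 0), (0, 0), (2, 2), (1, 0), (1, 0),
  (2, 2), (1, 4), (0, 0), (0, 0), (2, 1), (1, 0), (1, 3), (0, 0), (0, 0), (2, 1)]

def hsTree_17 : List (ℕ × ℕ) := [
  (1, 2), (2, 1), (0, 0), (2, 3), (2, 0), (2, 0), (2, 4), (0, 0), (0, 0), (0, 0), (1, 1), (1, 3), (1, 0), (2, 1),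
  (1, 0), (2, 3), (0, 0), (1, 1), (1, 0), (2, 1), (2, 2), (2, 0), (1, 6), (0, 0), (0, 0), (1, 0), (0, 0), (2, 1),
  (0, 0), (2, 3), (0, 0), (1, 0), (1, 4), (0, 0), (0, 0), (2, 0), (1, 2), (0, 0), (2, 0), (2, 4), (1, 0), (0, 0),
  (2, 4), (0, 0), (1, 0), (1, 2), (0, 0), (0, 0), (1, 1), (0, 0), (1, 3), (2, 2), (0, 0), (0, 0), (1, 1), (2, 0),
  (2, 3), (0, 0), (1, 5), (1, 0), (0, 0), (2, 0), (1, 2), (2, 1), (2, 0), (2, 0), (2, 4), (1, 0), (0, 0), (2, 1),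
  (0, 0), (1, 1), (2, 3), (0, 0), (0, 0), (1, 2), (2, 0), (2, 5), (0, 0), (0, 0), (1, 0), (2, 0), (2, 2), (0, 0),
  (0, 0), (1, 4), (0, 0), (1, 0), (1, 2), (0, 0), (2, 2), (2, 2), (1, 0), (1, 0), (2, 2), (0, 0), (2, 1), (1, 4),
  (0, 0), (1, 1), (0, 0), (0, 0), (2, 2), (2, 2), (0, 0), (1, 0), (2, 4), (0, 0), (1, 0), (0, 0), (2, 1), (1, 3),
  (0, 0), (1, 1), (1, 0), (2, 2), (0, 0), (2, 1), (2, 3), (1, 0), (2, 5), (0, 0), (0, 0), (0, 0), (0, 0), (1, 0),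
  (2, 0), (2, 2), (1, 2), (0, 0), (2, 1), (2, 2), (1, 2), (0, 0), (1, 0), (2, 3), (0, 0), (1, 0), (1, 2), (0, 0),
  (1, 1), (2, 1), (2, 2), (1, 0), (1, 4), (0, 0), (1, 0), (1, 0), (2, 2), (2, 0), (1, 3), (0, 0), (0, 0), (1, 1),
  (1, 2), (1, 0), (2, 1), (1, 0), (2, 4), (1, 0), (2, 1), (2, 3), (0, 0), (0, 0), (1, 1), (0, 0), (2, 0), (1, 2),
  (2, 2), (2, 0), (1, 3), (0, 0), (0, 0), (1, 0), (2, 4), (0, 0), (2, 0), (2, 2), (0, 0), (1, 1), (2, 1), (1, 5),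
  (0, 0), (0, 0), (0, 0), (0, 0), (1, 2), (1, 2), (0, 0), (2, 1), (0, 0), (2, 3), (0, 0), (1, 0), (2, 0), (2, 3),
  (0, 0), (2, 1), (1, 4), (0, 0), (0, 0), (1, 0), (1, 2), (1, 0), (2, 0), (2, 4), (0, 0), (0, 0), (1, 1), (1, 2),
  (0, 0), (2, 1), (0, 0), (2, 3), (1, 0), (2, 4), (0, 0), (0, 0), (0, 0), (2, 1), (2, 0), (1, 4), (1, 0), (1, 0),
  (2, 1), (2, 2), (2, 0), (2, 3), (0, 0), (0, 0), (1, 2), (1, 0), (2, 1), (2, 5), (0, 0), (0, 0), (0, 0), (2, 0),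
  (1, 2), (2, 1), (0, 0), (1, 0), (2, 1), (1, 2), (2, 1), (1, 3), (2, 1), (0, 0), (0, 0), (0, 0), (1, 2), (1, 2),
  (1, 0), (2, 2), (1, 3), (0, 0), (0, 0), (0, 0), (1, 1), (2, 1), (1, 2), (2, 1), (0, 0), (1, 1), (2, 4), (0, 0),
  (0, 0), (1, 1), (1, 0), (2, 1), (2, 2), (1, 0), (2, 3), (0, 0), (0, 0), (1, 1), (2, 0), (1, 3), (2, 0), (2, 2),
  (2, 6), (0, 0), (0, 0), (0, 0), (0, 0), (2, 1), (0, 0), (0, 0), (2, 0), (2, 3), (2, 0), (2, 4), (0, 0), (1, 0),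
  (2, 0), (2, 2), (2, 2), (0, 0), (0, 0), (2, 1), (1, 2), (2, 0), (1, 0), (1, 6), (0, 0), (0, 0), (0, 0), (2, 1),
  (0, 0), (1, 3), (1, 0), (2, 2), (1, 0), (1, 0), (2, 1), (2, 2), (1, 3), (2, 1), (0, 0), (1, 0), (2, 0), (1, 0),
  (1, 4), (0, 0), (0, 0), (1, 1), (1, 2), (1, 0), (2, 2), (2, 0), (0, 0), (2, 4), (1, 0), (2, 1), (2, 4), (0, 0),
  (0, 0), (0, 0), (0, 0), (2, 1), (1, 2), (2, 1), (0, 0), (1, 1), (1, 3), (1, 0), (2, 0), (2, 2), (1, 0), (2, 3),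
  (0, 0), (2, 1), (1, 0), (2, 1), (1, 4), (1, 0), (0, 0), (2, 0), (2, 2), (2, 3), (0, 0), (0, 0), (0, 0), (2, 1),
  (1, 2), (0, 0), (2, 0), (1, 4), (1, 0), (2, 0), (0, 0), (2, 3), (1, 0), (2, 1), (2, 3), (0, 0), (0, 0), (1, 1),
  (1, 2), (0, 0), (2, 1), (2, 2), (1, 0), (1, 6), (0, 0), (0, 0), (0, 0), (0, 0), (1, 1), (2, 1), (2, 0), (2, 0),
  (2, 4), (0, 0), (0, 0), (1, 2), (1, 0), (2, 1), (1, 4), (0, 0), (2, 1), (0, 0), (1, 0), (2, 1), (2, 2), (1, 0),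
  (2, 1), (0, 0), (2, 5), (0, 0), (0, 0), (1, 0), (2, 1), (0, 0), (1, 3), (2, 0), (2, 3), (0, 0), (1, 1), (2, 1),
  (0, 0), (1, 5), (0, 0), (0, 0), (2, 0), (1, 2), (1, 0), (0, 0), (2, 2), (2, 0), (2, 3), (0, 0), (1, 1), (2, 0),
  (2, 2), (1, 0), (2, 0), (2, 6), (0, 0), (0, 0), (1, 1), (2, 0), (0, 0), (1, 1), (2, 0), (2, 4), (0, 0), (0, 0),
  (1, 4), (0, 0), (1, 0), (2, 1), (0, 0), (1, 3), (1, 0), (2, 2), (0, 0), (1, 1), (1, 0), (2, 1), (2, 2), (2, 0),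
  (2, 4), (0, 0), (0, 0), (2, 2), (0, 0), (2, 0), (1, 2), (0, 0), (2, 6), (0, 0), (0, 0), (0, 0), (0, 0), (2, 0),
  (1, 2), (0, 0), (1, 3), (0, 0), (2, 1), (1, 0), (2, 1), (1, 0), (2, 4), (1, 0), (0, 0), (1, 4), (0, 0), (0, 0),
  (2, 0), (1, 2), (0, 0), (2, 1), (1, 3), (0, 0), (0, 0), (2, 1), (1, 2), (2, 1)]

def hsTree_18 : List (ℕ × ℕ) := [
  (1, 0), (2, 1), (2, 3), (0, 0), (0, 0), (1, 1), (1, 2), (2, 1), (2, 3), (0, 0), (2, 0), (1, 0), (1, 3), (2, 0),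
  (2, 2), (0, 0), (1, 4), (0, 0), (0, 0), (0, 0), (2, 0), (1, 0), (2, 1), (1, 3), (0, 0), (2, 0), (2, 3), (0, 0),
  (1, 1), (1, 0), (2, 1), (2, 2), (2, 0), (1, 4), (0, 0), (0, 0), (1, 1), (2, 1), (0, 0), (1, 1), (2, 3), (1, 0),
  (2, 3), (0, 0), (1, 1), (2, 1), (0, 0), (0, 0), (1, 5), (0, 0), (0, 0), (1, 0), (1, 2), (1, 0), (2, 1), (2, 2),
  (0, 0), (2, 1), (0, 0), (1, 4), (0, 0), (0, 0), (1, 1), (1, 2), (1, 0), (2, 2), (2, 2), (1, 0), (2, 1), (1, 0),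
  (2, 0), (2, 2), (2, 4), (0, 0), (0, 0), (1, 2), (2, 0), (0, 0), (2, 1), (2, 3), (0, 0), (2, 4), (0, 0), (0, 0),
  (0, 0), (0, 0), (1, 1), (1, 0), (2, 2), (1, 2), (1, 0), (1, 3), (1, 0), (0, 0), (1, 0), (2, 3), (2, 2), (1, 0),
  (2, 1), (1, 3), (0, 0), (0, 0), (1, 0), (1, 2), (1, 0), (2, 2), (0, 0), (1, 0), (1, 4), (1, 0), (2, 0), (2, 3),
  (0, 0), (1, 0), (0, 0), (1, 3), (1, 0), (2, 2), (2, 0), (2, 4), (0, 0), (2, 0), (0, 0), (1, 1), (1, 3), (1, 0),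
  (2, 0), (2, 3), (1, 0), (1, 7), (0, 0), (0, 0), (0, 0), (0, 0), (0, 0), (0, 0), (2, 2), (0, 0), (1, 1), (2, 1),
  (1, 0), (2, 1), (1, 4), (0, 0), (2, 0), (0, 0), (2, 3), (1, 0), (2, 1), (1, 0), (2, 4), (0, 0), (1, 0), (1, 2),
  (1, 0), (0, 0), (2, 2), (1, 0), (2, 3), (0, 0), (0, 0), (1, 2), (2, 1), (0, 0), (1, 5), (0, 0), (0, 0), (0, 0),
  (2, 0), (1, 2), (2, 1), (1, 2), (2, 0), (0, 0), (1, 4), (0, 0), (1, 1), (2, 0), (1, 0), (1, 0), (2, 4), (2, 0),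
  (2, 0), (0, 0), (2, 5), (1, 0), (0, 0), (2, 0), (1, 2), (2, 1), (0, 0), (2, 1), (0, 0), (2, 4), (0, 0), (1, 1),
  (2, 0), (2, 2), (1, 0), (2, 1), (2, 5), (0, 0), (0, 0), (1, 0), (0, 0), (2, 1), (1, 3), (1, 0), (1, 0), (2, 1),
  (2, 2), (1, 0), (2, 1), (2, 3), (0, 0), (1, 3), (0, 0), (1, 0), (2, 1), (0, 0), (1, 3), (0, 0), (1, 0), (1, 2),
  (1, 0), (2, 0), (2, 3), (0, 0), (1, 1), (0, 0), (2, 2), (0, 0), (1, 1), (2, 4), (1, 0), (1, 0), (2, 2), (2, 0),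
  (2, 4), (0, 0), (0, 0), (0, 0), (2, 0), (2, 2), (1, 2), (0, 0), (1, 1), (2, 0), (2, 2), (1, 3), (0, 0), (0, 0),
  (1, 2), (1, 0), (2, 2), (0, 0), (2, 1), (2, 3), (0, 0), (2, 0), (1, 0), (1, 3), (0, 0), (1, 6), (0, 0), (0, 0),
  (0, 0), (0, 0), (0, 0), (1, 1), (2, 1), (2, 3), (0, 0), (1, 1), (1, 0), (2, 1), (1, 4), (1, 0), (1, 0), (0, 0),
  (2, 2), (2, 0), (2, 0), (2, 5), (0, 0), (0, 0), (1, 1), (0, 0), (1, 1), (2, 1), (2, 2), (1, 2), (0, 0), (0, 0),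
  (1, 0), (1, 2), (1, 2), (0, 0), (2, 1), (2, 2), (1, 0), (2, 3), (0, 0), (1, 0), (1, 2), (1, 0), (2, 2), (0, 0),
  (0, 0), (2, 2), (1, 5), (0, 0), (0, 0), (0, 0), (1, 2), (0, 0), (2, 2), (1, 0), (2, 1), (1, 3), (0, 0), (1, 0),
  (2, 0), (2, 2), (0, 0), (1, 3), (1, 0), (2, 2), (2, 0), (2, 3), (0, 0), (0, 0), (1, 0), (1, 2), (1, 2), (0, 0),
  (1, 1), (2, 1), (0, 0), (1, 0), (1, 2), (2, 1), (2, 3), (1, 0), (2, 1), (0, 0), (1, 1), (2, 0), (2, 6), (0, 0),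
  (0, 0), (0, 0), (2, 1), (2, 0), (0, 0), (2, 1), (1, 4), (2, 1), (1, 0), (2, 1), (0, 0), (1, 4), (0, 0), (0, 0),
  (0, 0), (1, 3), (0, 0), (2, 2), (0, 0), (0, 0), (2, 0), (1, 2), (1, 2), (0, 0), (2, 4), (1, 0), (0, 0), (1, 0),
  (2, 2), (0, 0), (0, 0), (2, 4), (0, 0), (1, 1), (1, 0), (2, 1), (1, 0), (2, 3), (0, 0), (0, 0), (2, 7), (0, 0),
  (0, 0), (0, 0), (0, 0), (1, 1), (0, 0), (2, 0), (1, 4), (0, 0), (0, 0), (1, 2), (0, 0), (2, 2), (2, 2), (0, 0),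
  (0, 0), (0, 0), (1, 3), (1, 0), (0, 0), (2, 2), (2, 2), (0, 0), (1, 1), (2, 1), (1, 0), (1, 5), (0, 0), (1, 0),
  (2, 0), (1, 3), (0, 0), (2, 2), (0, 0), (0, 0), (1, 0), (1, 3), (0, 0), (2, 1), (1, 0), (2, 3), (0, 0), (0, 0),
  (2, 2), (2, 4), (2, 0), (0, 0), (0, 0), (2, 2), (0, 0), (1, 0), (2, 2), (1, 5), (0, 0), (0, 0), (0, 0), (2, 0),
  (1, 0), (1, 3), (2, 1), (1, 0), (2, 1), (2, 0), (1, 5), (0, 0), (0, 0), (0, 0), (1, 2), (1, 0), (2, 1), (2, 2),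
  (2, 0), (1, 0), (2, 4), (0, 0), (1, 0), (2, 1), (1, 2), (1, 0), (2, 4), (0, 0), (0, 0), (0, 0), (1, 1), (2, 1),
  (1, 2), (2, 1), (0, 0), (1, 3), (1, 0), (0, 0), (2, 0), (1, 2), (0, 0), (2, 1), (2, 4), (2, 3), (0, 0), (0, 0),
  (0, 0), (1, 0), (1, 2), (1, 0), (0, 0), (1, 4), (1, 0), (2, 1), (0, 0), (2, 3)]

def hsTree_19 : List (ℕ × ℕ) := [
  (2, 0), (2, 0), (1, 4), (0, 0), (2, 0), (0, 0), (1, 3), (1, 0), (0, 0), (2, 3), (0, 0), (0, 0), (0, 0), (1, 2),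
  (1, 2), (2, 1), (1, 0), (2, 4), (0, 0), (2, 0), (0, 0), (1, 3), (0, 0), (0, 0), (1, 2), (2, 0), (2, 2), (2, 2),
  (1, 0), (1, 0), (2, 2), (2, 0), (1, 7), (0, 0), (0, 0), (0, 0), (0, 0), (0, 0), (1, 0), (2, 2), (0, 0), (1, 1),
  (0, 0), (1, 1), (2, 2), (2, 0), (1, 4), (1, 0), (2, 2), (0, 0), (2, 1), (1, 3), (0, 0), (0, 0), (1, 1), (1, 0),
  (2, 2), (2, 0), (2, 0), (1, 4), (0, 0), (0, 0), (1, 2), (1, 0), (2, 3), (0, 0), (2, 3), (1, 0), (2, 0), (2, 2),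
  (0, 0), (0, 0), (1, 2), (1, 0), (1, 5), (0, 0), (0, 0), (0, 0), (2, 0), (2, 2), (2, 0), (2, 3), (0, 0), (0, 0),
  (1, 0), (2, 3), (1, 0), (1, 4), (0, 0), (1, 0), (1, 2), (2, 0), (2, 0), (2, 4), (0, 0), (1, 0), (2, 1), (1, 0),
  (1, 3), (1, 0), (1, 0), (2, 2), (1, 0), (2, 1), (2, 3), (0, 0), (1, 1), (1, 0), (2, 2), (1, 0), (2, 1), (2, 5),
  (0, 0), (2, 0), (1, 2), (0, 0), (0, 0), (2, 1), (1, 0), (2, 1), (1, 3), (1, 0), (2, 2), (1, 0), (2, 1), (2, 3),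
  (0, 0), (0, 0), (0, 0), (1, 1), (1, 2), (2, 1), (1, 2), (1, 0), (1, 0), (2, 1), (2, 3), (1, 0), (2, 1), (1, 0),
  (1, 6), (0, 0), (0, 0), (0, 0), (1, 2), (0, 0), (2, 1), (0, 0), (0, 0), (2, 0), (1, 3), (2, 1), (2, 3), (2, 0),
  (0, 0), (2, 0), (1, 2), (0, 0), (2, 1), (1, 5), (0, 0), (0, 0), (2, 0), (0, 0), (2, 1), (1, 0), (1, 4), (2, 0),
  (2, 0), (2, 3), (0, 0), (0, 0), (1, 2), (2, 1), (1, 3), (0, 0), (0, 0), (2, 1), (0, 0), (1, 3), (2, 1), (0, 0),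
  (2, 0), (1, 2), (0, 0), (2, 2), (0, 0), (2, 4), (0, 0), (0, 0), (1, 0), (1, 2), (1, 2), (0, 0), (2, 0), (2, 2),
  (1, 0), (2, 3), (0, 0), (1, 0), (2, 0), (1, 3), (0, 0), (2, 2), (0, 0), (1, 1), (2, 0), (2, 2), (2, 5), (0, 0),
  (0, 0), (0, 0), (0, 0), (2, 2), (0, 0), (1, 1), (1, 3), (0, 0), (2, 0), (1, 2), (0, 0), (2, 2), (2, 0), (2, 3),
  (1, 0), (1, 0), (2, 2), (1, 3), (1, 0), (0, 0), (1, 0), (2, 1), (1, 2), (2, 2), (0, 0), (2, 0), (1, 2), (0, 0),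
  (1, 1), (2, 2), (2, 3), (0, 0), (0, 0), (0, 0), (1, 2), (2, 0), (2, 2), (2, 0), (2, 3), (1, 0), (0, 0), (2, 2),
  (2, 0), (2, 6), (0, 0), (0, 0), (1, 0), (0, 0), (1, 1), (0, 0), (1, 0), (2, 4), (1, 0), (1, 3), (1, 0), (2, 1),
  (0, 0), (0, 0), (1, 0), (1, 2), (2, 1), (1, 2), (0, 0), (1, 0), (2, 3), (2, 0), (1, 0), (2, 5), (0, 0), (0, 0),
  (0, 0), (1, 1), (2, 1), (1, 2), (1, 0), (2, 1), (1, 3), (0, 0), (0, 0), (1, 0), (1, 3), (2, 0), (2, 2), (0, 0),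
  (0, 0), (2, 4), (1, 0), (0, 0), (1, 1), (2, 2), (0, 0), (2, 1), (1, 5), (0, 0), (0, 0), (2, 0), (2, 0), (1, 3),
  (0, 0), (0, 0), (1, 2), (2, 0), (0, 0), (2, 4), (1, 0), (1, 0), (2, 2), (1, 0), (1, 4), (0, 0), (1, 0), (0, 0),
  (1, 1), (2, 0), (2, 3), (1, 2), (2, 1), (0, 0), (2, 0), (1, 2), (2, 3), (0, 0), (1, 0), (1, 0), (2, 2), (1, 2),
  (2, 0), (0, 0), (0, 0), (2, 4), (2, 0), (2, 4), (0, 0), (0, 0), (0, 0), (2, 0), (2, 2), (1, 2), (0, 0), (0, 0),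
  (1, 2), (0, 0), (2, 3), (0, 0), (2, 1), (0, 0), (2, 1), (1, 4), (0, 0), (0, 0), (1, 0), (2, 2), (1, 0), (1, 3),
  (0, 0), (1, 0), (2, 3), (0, 0), (1, 0), (1, 2), (2, 1), (0, 0), (2, 4), (0, 0), (0, 0), (0, 0), (1, 1), (2, 1),
  (1, 2), (0, 0), (1, 1), (2, 1), (2, 2), (0, 0), (2, 1), (1, 3), (0, 0), (1, 0), (1, 2), (0, 0), (1, 1), (1, 0),
  (2, 3), (0, 0), (1, 1), (2, 3), (2, 0), (0, 0), (1, 0), (2, 8), (0, 0), (0, 0), (0, 0), (0, 0), (1, 0), (0, 0),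
  (2, 1), (1, 3), (0, 0), (0, 0), (1, 1), (2, 1), (1, 2), (2, 2), (1, 0), (2, 1), (1, 0), (1, 4), (1, 0), (0, 0),
  (0, 0), (1, 0), (2, 2), (1, 2), (0, 0), (2, 3), (0, 0), (0, 0), (1, 1), (2, 1), (0, 0), (2, 1), (1, 3), (0, 0),
  (2, 2), (2, 3), (0, 0), (0, 0), (1, 0), (2, 1), (2, 2), (2, 0), (1, 3), (1, 0), (0, 0), (2, 1), (2, 3), (0, 0),
  (0, 0), (1, 1), (1, 2), (1, 0), (2, 1), (2, 2), (2, 0), (1, 5), (0, 0), (0, 0), (2, 0), (2, 0), (1, 3), (0, 0),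
  (1, 1), (2, 0), (2, 2), (2, 2), (0, 0), (1, 0), (1, 2), (0, 0), (1, 1), (1, 4), (0, 0), (1, 1), (0, 0), (0, 0),
  (2, 2), (2, 0), (2, 3), (0, 0), (2, 3), (0, 0), (0, 0), (1, 1), (1, 2), (0, 0), (0, 0), (1, 0), (1, 3), (1, 0),
  (2, 3), (0, 0), (0, 0), (1, 1), (2, 2), (1, 0), (2, 5), (0, 0), (0, 0), (2, 0)]

def hsTree_20 : List (ℕ × ℕ) := [
  (2, 0), (2, 3), (0, 0), (2, 0), (1, 2), (1, 3), (0, 0), (1, 0), (2, 0), (2, 2), (0, 0), (1, 1), (2, 3), (0, 0),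
  (0, 0), (2, 2), (2, 0), (2, 4), (0, 0), (0, 0), (1, 0), (1, 2), (1, 0), (2, 2), (1, 0), (2, 1), (1, 3), (0, 0),
  (1, 0), (2, 1), (1, 2), (0, 0), (2, 1), (2, 2), (2, 2), (2, 0), (0, 0), (1, 0), (2, 2), (2, 0), (1, 7), (0, 0),
  (0, 0), (0, 0), (1, 0), (2, 1), (1, 0), (2, 1), (1, 3), (1, 0), (0, 0), (0, 0), (1, 2), (2, 1), (2, 2), (0, 0),
  (2, 1), (1, 4), (0, 0), (0, 0), (0, 0), (1, 2), (2, 2), (0, 0), (1, 0), (1, 2), (0, 0), (2, 2), (1, 0), (0, 0),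
  (2, 1), (2, 5), (2, 0), (0, 0), (1, 1), (2, 1), (2, 0), (1, 5), (0, 0), (0, 0), (0, 0), (2, 2), (0, 0), (1, 0),
  (2, 1), (0, 0), (1, 3), (1, 0), (2, 2), (0, 0), (1, 1), (1, 4), (0, 0), (0, 0), (2, 0), (1, 2), (0, 0), (1, 1),
  (2, 2), (0, 0), (1, 3), (0, 0), (0, 0), (1, 2), (0, 0), (2, 2), (0, 0), (1, 1), (0, 0), (2, 2), (2, 3), (0, 0),
  (0, 0), (1, 1), (1, 2), (1, 0), (2, 1), (2, 2), (1, 0), (2, 1), (2, 4), (0, 0), (1, 1), (0, 0), (2, 1), (1, 0),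
  (2, 5), (0, 0), (0, 0), (0, 0), (0, 0), (1, 2), (0, 0), (2, 0), (1, 2), (2, 2), (2, 0), (2, 0), (1, 4), (0, 0),
  (1, 0), (2, 0), (1, 3), (0, 0), (2, 1), (2, 2), (2, 2), (0, 0), (0, 0), (2, 1), (1, 2), (2, 0), (1, 4), (0, 0),
  (0, 0), (1, 1), (1, 0), (2, 2), (1, 0), (1, 3), (0, 0), (1, 0), (2, 1), (1, 2), (0, 0), (2, 3), (1, 0), (0, 0),
  (0, 0), (2, 1), (1, 2), (2, 2), (0, 0), (1, 1), (2, 1), (2, 4), (0, 0), (1, 0), (1, 0), (2, 2), (2, 0), (1, 0),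
  (1, 4), (0, 0), (0, 0), (1, 1), (2, 1), (1, 2), (0, 0), (2, 6), (0, 0), (0, 0), (0, 0), (2, 0), (1, 0), (1, 3),
  (2, 0), (0, 0), (2, 1), (2, 3), (0, 0), (2, 0), (2, 2), (1, 0), (2, 0), (2, 2), (1, 0), (1, 5), (0, 0), (0, 0),
  (0, 0), (1, 2), (0, 0), (1, 3), (0, 0), (2, 2), (0, 0), (1, 1), (1, 0), (1, 0), (2, 2), (2, 2), (2, 0), (2, 4),
  (0, 0), (0, 0), (1, 1), (2, 1), (1, 2), (0, 0), (2, 1), (2, 2), (0, 0), (0, 0), (1, 2), (1, 0), (0, 0), (1, 1),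
  (2, 3), (0, 0), (2, 1), (1, 5), (0, 0), (1, 0), (2, 1), (1, 0), (2, 1), (2, 0), (1, 4), (0, 0), (1, 0), (2, 1),
  (1, 0), (1, 0), (1, 4), (0, 0), (1, 1), (2, 0), (2, 2), (2, 0), (2, 3), (0, 0), (2, 0), (1, 2), (1, 0), (2, 4),
  (0, 0), (0, 0), (1, 0), (2, 1), (2, 0), (1, 3), (2, 0), (1, 0), (2, 4), (1, 0), (2, 0), (2, 2), (0, 0), (2, 1),
  (2, 5), (0, 0), (0, 0), (0, 0), (0, 0), (1, 1), (1, 0), (2, 2), (1, 2), (2, 0), (0, 0), (2, 3), (0, 0), (0, 0),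
  (2, 1), (1, 4), (0, 0), (1, 0), (2, 1), (0, 0), (1, 3), (1, 0), (2, 1), (2, 2), (2, 2), (0, 0), (1, 1), (1, 3),
  (0, 0), (0, 0), (2, 0), (1, 2), (0, 0), (2, 2), (0, 0), (1, 3), (0, 0), (0, 0), (1, 2), (0, 0), (2, 3), (0, 0),
  (1, 0), (1, 2), (0, 0), (0, 0), (1, 2), (2, 2), (1, 0), (1, 0), (2, 2), (2, 4), (0, 0), (0, 0), (0, 0), (1, 2),
  (2, 0), (2, 2), (1, 2), (0, 0), (2, 0), (0, 0), (1, 1), (2, 4), (0, 0), (1, 1), (0, 0), (2, 2), (1, 0), (2, 8),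
  (0, 0), (0, 0), (0, 0), (0, 0), (0, 0), (1, 0), (2, 2), (0, 0), (1, 1), (1, 0), (2, 2), (2, 0), (0, 0), (1, 5),
  (0, 0), (1, 1), (2, 0), (2, 3), (0, 0), (0, 0), (1, 2), (0, 0), (2, 1), (0, 0), (2, 3), (0, 0), (1, 4), (0, 0),
  (0, 0), (2, 0), (2, 2), (0, 0), (1, 0), (2, 1), (1, 2), (0, 0), (2, 1), (2, 2), (2, 0), (1, 4), (0, 0), (1, 1),
  (2, 2), (0, 0), (1, 0), (2, 1), (1, 2), (0, 0), (2, 0), (1, 2), (2, 2), (0, 0), (1, 1), (2, 0), (0, 0), (2, 1),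
  (2, 3), (2, 0), (1, 0), (2, 6), (0, 0), (1, 0), (0, 0), (1, 0), (1, 2), (2, 1), (2, 0), (2, 3), (0, 0), (1, 0),
  (1, 2), (2, 1), (0, 0), (1, 1), (0, 0), (1, 5), (0, 0), (0, 0), (2, 0), (1, 2), (0, 0), (2, 0), (2, 2), (0, 0),
  (2, 3), (1, 0), (1, 3), (0, 0), (2, 0), (1, 0), (2, 4), (0, 0), (1, 1), (1, 0), (2, 0), (2, 3), (0, 0), (2, 4),
  (0, 0), (0, 0), (1, 0), (1, 0), (1, 3), (1, 0), (2, 1), (2, 2), (2, 0), (1, 3), (0, 0), (0, 0), (1, 2), (0, 0),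
  (2, 1), (2, 2), (0, 0), (2, 3), (0, 0), (0, 0), (1, 0), (1, 3), (2, 1), (0, 0), (2, 0), (2, 2), (1, 6), (0, 0),
  (0, 0), (0, 0), (0, 0), (2, 0), (1, 3), (2, 0), (0, 0), (1, 1), (2, 1), (1, 0), (2, 4), (1, 0), (2, 1), (1, 3),
  (0, 0), (0, 0), (1, 1), (0, 0), (1, 3), (2, 0), (0, 0), (1, 1), (2, 1), (2, 3)]

def hsTree_21 : List (ℕ × ℕ) := [
  (0, 0), (0, 0), (2, 0), (1, 3), (0, 0), (1, 1), (2, 5), (0, 0), (0, 0), (0, 0), (1, 2), (0, 0), (0, 0), (1, 1),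
  (2, 1), (0, 0), (1, 3), (2, 1), (0, 0), (2, 1), (2, 3), (1, 0), (1, 0), (2, 2), (1, 0), (1, 4), (0, 0), (1, 0),
  (2, 0), (2, 2), (2, 0), (1, 3), (0, 0), (0, 0), (1, 2), (2, 1), (0, 0), (1, 0), (1, 2), (2, 3), (0, 0), (0, 0),
  (1, 1), (1, 2), (1, 0), (2, 1), (2, 2), (1, 0), (0, 0), (2, 5), (1, 0), (2, 0), (2, 2), (1, 0), (2, 1), (1, 0),
  (1, 7), (0, 0), (0, 0), (0, 0), (2, 0), (0, 0), (0, 0), (2, 1), (1, 2), (2, 1), (2, 0), (1, 4), (0, 0), (1, 0),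
  (2, 1), (0, 0), (1, 1), (2, 1), (2, 3), (0, 0), (0, 0), (1, 1), (2, 4), (0, 0), (2, 0), (1, 2), (0, 0), (2, 0),
  (1, 2), (0, 0), (2, 2), (0, 0), (2, 1), (2, 3), (2, 0), (1, 4), (0, 0), (0, 0), (2, 0), (1, 2), (0, 0), (2, 1),
  (2, 0), (2, 3), (1, 0), (2, 1), (2, 0), (1, 4), (0, 0), (2, 2), (0, 0), (0, 0), (1, 1), (0, 0), (1, 0), (2, 3),
  (1, 2), (0, 0), (0, 0), (1, 1), (1, 2), (1, 0), (2, 2), (2, 2), (0, 0), (2, 0), (2, 5), (0, 0), (0, 0), (1, 0),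
  (2, 1), (0, 0), (1, 1), (1, 3), (1, 0), (0, 0), (2, 2), (0, 0), (1, 4), (0, 0), (0, 0), (0, 0), (1, 3), (1, 0),
  (0, 0), (1, 0), (2, 3), (2, 2), (1, 0), (1, 0), (2, 2), (1, 0), (2, 1), (2, 4), (0, 0), (0, 0), (2, 0), (1, 2),
  (1, 2), (0, 0), (1, 0), (2, 1), (2, 2), (0, 0), (2, 1), (2, 3), (0, 0), (1, 1), (1, 0), (1, 6), (0, 0), (0, 0),
  (0, 0), (1, 1), (1, 0), (0, 0), (2, 3), (0, 0), (2, 1), (1, 0), (1, 4), (0, 0), (2, 0), (2, 0), (1, 3), (2, 1),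
  (0, 0), (2, 0), (1, 2), (0, 0), (2, 1), (0, 0), (1, 1), (2, 5), (0, 0), (0, 0), (1, 2), (2, 1), (0, 0), (1, 0),
  (1, 2), (2, 0), (2, 2), (0, 0), (2, 1), (1, 5), (0, 0), (0, 0), (0, 0), (2, 1), (1, 2), (1, 0), (2, 1), (2, 3),
  (2, 0), (0, 0), (1, 1), (2, 4), (0, 0), (0, 0), (1, 1), (0, 0), (1, 0), (2, 1), (2, 3), (0, 0), (1, 0), (2, 2),
  (2, 0), (0, 0), (1, 5), (0, 0), (1, 0), (0, 0), (1, 3), (2, 1), (0, 0), (1, 0), (2, 0), (1, 3), (1, 0), (2, 0),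
  (2, 2), (2, 4), (0, 0), (0, 0), (2, 0), (2, 0), (2, 3), (2, 0), (2, 3), (0, 0), (0, 0), (1, 1), (1, 2), (0, 0),
  (2, 1), (2, 2), (0, 0), (2, 1), (2, 6), (0, 0), (0, 0), (1, 0), (0, 0), (1, 1), (0, 0), (2, 1), (2, 2), (0, 0),
  (2, 3), (0, 0), (1, 1), (0, 0), (2, 2), (0, 0), (2, 1), (1, 4), (0, 0), (1, 0), (2, 1), (1, 2), (2, 0), (2, 2),
  (0, 0), (2, 3), (1, 2), (1, 0), (0, 0), (1, 0), (1, 0), (2, 3), (1, 0), (2, 3), (0, 0), (2, 0), (1, 0), (2, 1),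
  (1, 3), (1, 0), (0, 0), (2, 2), (2, 4), (0, 0), (1, 0), (0, 0), (0, 0), (2, 2), (1, 0), (2, 1), (2, 3), (1, 0),
  (1, 3), (0, 0), (0, 0), (1, 1), (0, 0), (2, 1), (2, 2), (0, 0), (1, 1), (1, 3), (0, 0), (2, 2), (0, 0), (0, 0),
  (2, 0), (1, 2), (1, 2), (0, 0), (1, 0), (1, 2), (0, 0), (2, 3), (0, 0), (1, 1), (2, 1), (2, 4), (1, 0), (0, 0),
  (2, 1), (2, 2), (0, 0), (2, 0), (1, 2), (1, 0), (2, 1), (2, 2), (0, 0), (2, 1), (2, 7), (0, 0), (0, 0), (0, 0),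
  (0, 0), (0, 0), (0, 0), (2, 1), (2, 2), (0, 0), (2, 1), (1, 0), (1, 4), (0, 0), (1, 1), (2, 1), (2, 0), (2, 3),
  (0, 0), (0, 0), (2, 2), (1, 3), (0, 0), (0, 0), (1, 1), (1, 0), (2, 2), (1, 2), (1, 0), (2, 1), (2, 2), (2, 2),
  (0, 0), (1, 0), (0, 0), (2, 2), (2, 0), (2, 0), (1, 4), (0, 0), (1, 0), (2, 1), (1, 2), (1, 0), (2, 0), (2, 3),
  (2, 4), (0, 0), (0, 0), (0, 0), (0, 0), (1, 2), (2, 0), (2, 2), (0, 0), (1, 1), (2, 0), (1, 4), (1, 0), (0, 0),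
  (2, 1), (2, 2), (2, 2), (0, 0), (0, 0), (1, 1), (1, 2), (1, 0), (2, 1), (2, 2), (0, 0), (1, 0), (2, 2), (1, 4),
  (0, 0), (1, 0), (0, 0), (2, 1), (2, 2), (1, 0), (2, 1), (1, 0), (1, 4), (0, 0), (2, 1), (2, 0), (2, 4), (0, 0),
  (1, 1), (0, 0), (0, 0), (2, 0), (1, 2), (2, 2), (2, 2), (0, 0), (1, 1), (1, 0), (2, 1), (1, 6), (0, 0), (0, 0),
  (0, 0), (0, 0), (1, 2), (0, 0), (2, 0), (1, 2), (2, 0), (2, 2), (2, 2), (0, 0), (2, 0), (1, 2), (2, 1), (1, 0),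
  (2, 1), (1, 4), (0, 0), (0, 0), (2, 1), (1, 2), (0, 0), (2, 1), (2, 0), (2, 3), (0, 0), (1, 1), (2, 0), (2, 4),
  (0, 0), (0, 0), (1, 0), (1, 2), (0, 0), (2, 1), (1, 3), (0, 0), (1, 1), (2, 1), (1, 0), (2, 3), (0, 0), (2, 0),
  (1, 2), (2, 1), (0, 0), (1, 1), (1, 5), (0, 0), (0, 0), (0, 0), (2, 0), (1, 3)]

def hsTree_22 : List (ℕ × ℕ) := [
  (0, 0), (0, 0), (1, 1), (2, 3), (0, 0), (0, 0), (1, 0), (1, 3), (2, 0), (2, 2), (1, 3), (0, 0), (0, 0), (1, 1),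
  (2, 1), (1, 2), (0, 0), (1, 1), (1, 0), (2, 2), (0, 0), (2, 5), (0, 0), (0, 0), (0, 0), (0, 0), (2, 1), (1, 2),
  (2, 1), (0, 0), (2, 1), (1, 3), (0, 0), (1, 0), (1, 0), (1, 3), (1, 0), (2, 1), (2, 2), (1, 0), (2, 3), (0, 0),
  (2, 0), (1, 2), (2, 0), (1, 4), (0, 0), (0, 0), (0, 0), (1, 1), (0, 0), (2, 1), (1, 3), (0, 0), (1, 3), (0, 0),
  (0, 0), (1, 1), (1, 0), (2, 3), (0, 0), (2, 1), (2, 3), (1, 0), (1, 0), (2, 2), (0, 0), (2, 4), (1, 0), (0, 0),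
  (2, 0), (1, 2), (2, 1), (2, 0), (2, 3), (0, 0), (2, 0), (1, 2), (2, 0), (2, 6), (0, 0), (0, 0), (0, 0), (0, 0),
  (1, 2), (2, 1), (0, 0), (2, 0), (1, 2), (2, 1), (1, 3), (1, 0), (2, 1), (0, 0), (1, 1), (2, 1), (0, 0), (2, 1),
  (2, 4), (0, 0), (0, 0), (1, 0), (2, 1), (1, 2), (2, 0), (2, 2), (0, 0), (1, 1), (1, 0), (2, 2), (1, 3), (0, 0),
  (2, 2), (0, 0), (1, 1), (2, 0), (1, 5), (1, 0), (1, 0), (0, 0), (2, 1), (2, 2), (0, 0), (1, 1), (2, 3), (0, 0),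
  (0, 0), (2, 0), (1, 2), (0, 0), (2, 0), (2, 3), (1, 2), (0, 0), (2, 0), (1, 2), (2, 0), (2, 3), (0, 0), (0, 0),
  (1, 1), (1, 2), (0, 0), (2, 2), (1, 0), (0, 0), (2, 6), (0, 0), (1, 0), (2, 1), (0, 0), (1, 3), (0, 0), (2, 0),
  (1, 2), (2, 0), (0, 0), (2, 3), (0, 0), (0, 0), (1, 2), (2, 1), (2, 3), (0, 0), (0, 0), (1, 0), (2, 1), (1, 2),
  (2, 0), (1, 3), (0, 0), (2, 2), (0, 0), (2, 1), (0, 0), (1, 1), (2, 1)]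

/-- A spanning tree. -/
def hsTree : List (ℕ × ℕ) := hsTree_0 ++ hsTree_1 ++ hsTree_2 ++ hsTree_3 ++ hsTree_4 ++ hsTree_5 ++ hsTree_6 ++ hsTree_7 ++ hsTree_8 ++ hsTree_9 ++ hsTree_10 ++ hsTree_11 ++ hsTree_12 ++ hsTree_13 ++ hsTree_14 ++ hsTree_15 ++ hsTree_16 ++ hsTree_17 ++ hsTree_18 ++ hsTree_19 ++ hsTree_20 ++ hsTree_21 ++ hsTree_22

end Cfsg.Agent.Lib.Leech.Co3Orb
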