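import Cfsg.Agent.Lib.Leech.ConwaySimple
import Cfsg.Agent.Lib.Leech.Co2Core

/-!
The stabilizers of vectors of norm 32 and 48.
-/

set_option autoImplicit false

namespace Cfsg.Agent.Lib.Leech

open Cfsg Golay
open scoped Pointwise

theorem twentythree {n : ℕ} (m : ℕ) (h : n = 23 * m) (hm : ¬ 23 ∣ m) : n.factorization 23 = 1 := by
  subst h
  have hm0 : m ≠ 0 := fun e => hm (e ▸ dvd_zero _)
  rw [Nat.factorization_mul (by norm_num) hm0, Finsupp.add_apply, (by norm_num : Nat.Prime 23).factorization_self,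
    Nat.factorization_eq_zero_of_not_dvd hm]

theorem co2_simple : IsSimpleGroup (MulAction.stabilizer ↥Co0 vThree) ∧
    Nat.card (MulAction.stabilizer ↥Co0 vThree) = 42305421312000 := by
  obtain ⟨g, hg⟩ := trans_min (v := vThree) (w := uVec) norm_vThree uVec_facts.1
  let e := MulAction.stabilizerEquivStabilizer (G := ↥Co0) hg.symm
  have hn : Nat.card (MulAction.stabilizer ↥Co0 vThree) = 42305421312000 := (Nat.card_congr e.toEquiv).trans card_stab_uVec
  refine ⟨stab_simple (a := -3) (by norm_num) (show (if (none : GolayPt) = none then (-3 : ℤ) else 1) = -3 from rfl) (fun i hi => if_neg hi) hn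
    (twentythree 1839366144000 (by norm_num) (by norm_num)) (by norm_num) ?_, hn⟩
  intro N hN hp _
  have h : (N.map e.toMonoidHom).map (MulAction.stabilizer ↥Co0 uVec).subtype = ⊥ := by
    refine two_normal_bot _ (Subgroup.map_subtype_le _) ((hp.map _).map _) ?_
    rintro k hk _ ⟨_, ⟨x, hx, rfl⟩, rfl⟩
    refine ⟨e (e.symm ⟨k, hk⟩ * x * (e.symm ⟨k, hk⟩)⁻¹), ⟨_, hN.conj_mem x hx _, rfl⟩, ?_⟩
    simp
  rw [Subgroup.map_eq_bot_iff_of_injective _ Subtype.val_injective,
    Subgroup.map_eq_bot_iff_of_injective _ e.injective] at h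
  exact h

theorem co3_simple : IsSimpleGroup (MulAction.stabilizer ↥Co0 vFive) ∧
    Nat.card (MulAction.stabilizer ↥Co0 vFive) = 495766656000 := by
  have horb : (MulAction.orbit ↥Co0 vFive).ncard = 16773120 := by
    have : Subtype.val '' MulAction.orbit ↥Co0 vFive = {x : GolayPt → ℤ | x ∈ leechLattice ∧ sqNorm x = 48} := by
      ext y
      constructor
      · rintro ⟨_, ⟨g, rfl⟩, rfl⟩
        exact ⟨(g • vFive).2, (Same.sqNorm_eq ⟨g, rfl⟩).trans vFive_shape.1⟩
      · rintro ⟨h, hn⟩
        obtain ⟨g, hg⟩ := trans_48 (v := vFive) (w := ⟨y, h⟩) vFive_shape.1 hn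
        exact ⟨_, ⟨g, rfl⟩, congrArg Subtype.val hg⟩
    rw [← Set.ncard_image_of_injective _ Subtype.val_injective, this, census_all 48 (by norm_num)]
    decide +kernel
  have hn : Nat.card (MulAction.stabilizer ↥Co0 vFive) = 495766656000 := by
    have h := Subgroup.card_mul_index (MulAction.stabilizer ↥Co0 vFive)
    rw [MulAction.index_stabilizer, horb, card_Co0] at h
    exact Nat.eq_of_mul_eq_mul_right (Nat.succ_pos 16773119) (h.trans (by norm_num))
  haveI : Finite ↥Co0 := Nat.finite_of_card_ne_zero (by rw [card_Co0]; norm_num)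
  refine ⟨stab_simple (a := 5) (by norm_num) (show (if (none : GolayPt) = none then (5 : ℤ) else 1) = 5 from rfl) (fun i hi => if_neg hi) hn
    (twentythree 21555072000 (by norm_num) (by norm_num)) (by norm_num) ?_, hn⟩
  intro N _ hp hmod
  haveI : Fact (Nat.Prime 2) := ⟨Nat.prime_two⟩
  obtain ⟨k, hk⟩ := IsPGroup.iff_card.1 hp
  have hd := Subgroup.card_subgroup_dvd_card N
  rw [hn, hk, show (495766656000 : ℕ) = 2 ^ 10 * 484147125 by norm_num] at hd
  have hle : k ≤ 10 := (Nat.pow_dvd_pow_iff_le_right (by norm_num)).1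
    ((Nat.Coprime.pow_left k (by norm_num : Nat.Coprime 2 484147125)).dvd_of_dvd_mul_right hd)
  rw [hk] at hmod
  apply Subgroup.eq_bot_of_card_eq
  interval_cases k <;> norm_num at hmod
  rw [hk, pow_zero]

theorem stab_equiv {v w : ↥leechLattice} (h : Same v w) :
    Nonempty (MulAction.stabilizer ↥Co0 v ≃* MulAction.stabilizer ↥Co0 w) := by
  obtain ⟨g, hg⟩ := h
  exact ⟨MulAction.stabilizerEquivStabilizer (G := ↥Co0) hg.symm⟩

end Cfsg.Agent.Lib.Leech
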