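import Cfsg.Agent.Lib.Leech.Co3Checks
import Cfsg.Agent.Lib.Leech.ConwayStab

/-!
The orbits of the stabilizer of a vector of norm 48 on two classes of minimal vectors.
-/

set_option autoImplicit false
set_option maxRecDepth 100000

namespace Cfsg.Agent.Lib.Leech

open Cfsg Golay

theorem ncard_sub (P : (GolayPt → ℤ) → Prop) :
    {x : ↥leechLattice | P x}.ncard = {x : GolayPt → ℤ | x ∈ leechLattice ∧ P x}.ncard := by
  rw [← Set.ncard_image_of_injective _ Subtype.val_injective]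
  congr 1
  ext x
  constructor
  · rintro ⟨y, hy, rfl⟩; exact ⟨y.2, hy⟩
  · rintro ⟨h, hp⟩; exact ⟨⟨x, h⟩, hp, rfl⟩

/-- The minimal vectors with a given inner product. -/
def dotSet (v : ↥leechLattice) (k : ℤ) : Set ↥leechLattice :=
  {x | sqNorm (x : GolayPt → ℤ) = 32 ∧ dotInt (v : GolayPt → ℤ) (x : GolayPt → ℤ) = k}

theorem smul_dotSet {v x : ↥leechLattice} {k : ℤ} (g : ↥Co0) (hg : g • v = v) (hx : x ∈ dotSet v k) :
    g • x ∈ dotSet v k :=
  ⟨(Same.sqNorm_eq ⟨g, rfl⟩).trans hx.1, by rw [← hx.2]; conv_lhs => rw [← hg]; rw [dot_smul]⟩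

theorem ncard_dotSet_five : (dotSet vFive 24).ncard = 552 ∧ (dotSet vFive (-16)).ncard = 11178 := by
  have h := five_counts
  simp only [Bool.and_eq_true, beq_iff_eq] at h
  constructor <;> rw [dotSet, ncard_sub (fun x => sqNorm x = 32 ∧ dotInt (vFive : GolayPt → ℤ) x = _), census_dot _ 32 _ (by norm_num) fiveCls (by decide) h.1.1]
  · exact h.1.2
  · exact h.2

/-- The four-four vector. -/
def fourFour : ↥leechLattice := ⟨frame none (pt 0), frame_mem _ _⟩

/-- The four-minus-four vector. -/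
def fourNeg : ↥leechLattice := ⟨fun p => if p = pt 0 then 4 else if p = none then -4 else 0,
  mem_of_check (by decide +kernel)⟩

theorem start_facts : (∀ p : GolayPt, (vFive : GolayPt → ℤ) p = toVec Co3Orb.five p) ∧
    (∀ p : GolayPt, (fourFour : GolayPt → ℤ) p = toVec Co3Orb.pairStart p) ∧
    (∀ p : GolayPt, (fourNeg : GolayPt → ℤ) p = toVec 9933566065615327173164223714701502297802788 p) ∧
    sqNorm (fourFour : GolayPt → ℤ) = 32 ∧ dotInt (vFive : GolayPt → ℤ) (fourFour : GolayPt → ℤ) = 24 ∧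
    sqNorm (fourNeg : GolayPt → ℤ) = 32 ∧ dotInt (vFive : GolayPt → ℤ) (fourNeg : GolayPt → ℤ) = -16 ∧
    (Co3Orb.gens.all fun w => wOk w && (wRun w Co3Orb.five == Co3Orb.five)) = true := by
  refine ⟨?_, ?_, ?_, ?_, ?_, ?_, ?_, ?_⟩ <;> decide +kernel

theorem gens_fix : ∀ w ∈ Co3Orb.gens, wCo w • vFive = vFive := by
  intro w hw
  have h := List.all_eq_true.1 start_facts.2.2.2.2.2.2.2 w hw
  rw [Bool.and_eq_true] at h
  exact wCo_fix h.1 (funext start_facts.1) (by rw [vFive_shape.1]; norm_num) h.2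

theorem trans_pair {y : ↥leechLattice} (hy : y ∈ dotSet vFive 24) : ∃ g : ↥Co0, g • vFive = vFive ∧ g • fourFour = y := by
  obtain ⟨g, hg, e⟩ := orbit_fills pair_orbit_ok (MulAction.stabilizer ↥Co0 vFive)
    (fun w hw => gens_fix w hw) (funext start_facts.2.1) (by rw [start_facts.2.2.2.1]; norm_num)
    (dotSet vFive 24) ncard_dotSet_five.1
    (fun k hk => smul_dotSet k hk ⟨start_facts.2.2.2.1, start_facts.2.2.2.2.1⟩) y hy
  exact ⟨g, hg, e⟩

theorem trans_neg {y : ↥leechLattice} (hy : y ∈ dotSet vFive (-16)) : ∃ g : ↥Co0, g • vFive = vFive ∧ g • fourNeg = y := by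
  obtain ⟨g, hg, e⟩ := orbit_fills neg_orbit_ok (MulAction.stabilizer ↥Co0 vFive)
    (fun w hw => gens_fix w hw) (funext start_facts.2.2.1) (by rw [start_facts.2.2.2.2.2.1]; norm_num)
    (dotSet vFive (-16)) ncard_dotSet_five.2
    (fun k hk => smul_dotSet k hk ⟨start_facts.2.2.2.2.2.1, start_facts.2.2.2.2.2.2.1⟩) y hy
  exact ⟨g, hg, e⟩

/-- Transporting to the standard vector. -/
theorem std_five {u : ↥leechLattice} (hu : sqNorm (u : GolayPt → ℤ) = 48) : ∃ k : ↥Co0, k • u = vFive :=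
  trans_48 hu vFive_shape.1

theorem mem_dotSet_smul {u x : ↥leechLattice} {k : ℤ} (g : ↥Co0) : g • x ∈ dotSet (g • u) k ↔ x ∈ dotSet u k := by
  simp only [dotSet, Set.mem_setOf_eq, dot_smul, Same.sqNorm_eq (x := x) ⟨g, rfl⟩]

theorem ncard_dotSet_smul (u : ↥leechLattice) (k : ℤ) (g : ↥Co0) : (dotSet (g • u) k).ncard = (dotSet u k).ncard := by
  refine (Set.ncard_congr (fun x _ => g • x) (fun x hx => (mem_dotSet_smul g).2 hx)
    (fun x y _ _ e => MulAction.injective g e) fun y hy => ⟨g⁻¹ • y, (mem_dotSet_smul g).1 ?_, smul_inv_smul g y⟩).symm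
  rwa [smul_inv_smul]

/-- Counting and transitivity for an arbitrary vector of norm 48. -/
theorem dot_orbit {u : ↥leechLattice} (hu : sqNorm (u : GolayPt → ℤ) = 48) {k : ℤ} {n : ℕ} (s : ↥leechLattice)
    (hn : (dotSet vFive k).ncard = n)
    (htr : ∀ y ∈ dotSet vFive k, ∃ g : ↥Co0, g • vFive = vFive ∧ g • s = y) :
    (dotSet u k).ncard = n ∧ ∀ x ∈ dotSet u k, ∀ x' ∈ dotSet u k, ∃ g : ↥Co0, g • u = u ∧ g • x = x' := by
  obtain ⟨c, hc⟩ := std_five hu
  refine ⟨by rw [← ncard_dotSet_smul u k c, hc, hn], fun x hx x' hx' => ?_⟩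
  obtain ⟨g, hg, e⟩ := htr _ (hc ▸ (mem_dotSet_smul c).2 hx)
  obtain ⟨g', hg', e'⟩ := htr _ (hc ▸ (mem_dotSet_smul c).2 hx')
  refine ⟨c⁻¹ * (g' * (g⁻¹ * c)), ?_, ?_⟩
  · rw [mul_smul, mul_smul, mul_smul, hc, inv_smul_eq_iff.2 hg.symm, hg', inv_smul_eq_iff, hc]
  · rw [mul_smul, mul_smul, mul_smul, ← e, inv_smul_smul, e', inv_smul_smul]

theorem sub_norm_iff {u x : ↥leechLattice} (hu : sqNorm (u : GolayPt → ℤ) = 48) (hx : sqNorm (x : GolayPt → ℤ) = 32) :
    sqNorm ((u : GolayPt → ℤ) - (x : GolayPt → ℤ)) = 32 ↔ dotInt (u : GolayPt → ℤ) (x : GolayPt → ℤ) = 24 := by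
  rw [sqNorm_sub_eq, hu, hx]
  constructor <;> intro h <;> omega

end Cfsg.Agent.Lib.Leech
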