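import Cfsg.Agent.Lib.Leech.Sylow23
import Cfsg.Agent.Lib.Golay.Mathieu

/-!
Simplicity of the Conway groups.
-/

set_option autoImplicit false

namespace Cfsg.Agent.Lib.Leech

open Cfsg Golay
open scoped Pointwise

/-- Counting fixed points of an element of order 23 acting by conjugation. -/
theorem fixed_mod {H : Type*} [Group H] [Finite H] {s : H} (hs : orderOf s = 23) (N : Subgroup H) [N.Normal]
    (hfix : ∀ x ∈ N, x * s = s * x → x = 1) : Nat.card N % 23 = 1 := by
  haveI : Fact (Nat.Prime 23) := ⟨by norm_num⟩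
  let f := (MulAut.conjNormal (H := N)).comp (Subgroup.zpowers s).subtype
  letI : MulAction ↥(Subgroup.zpowers s) ↥N := MulAction.compHom _ f
  have hP : IsPGroup 23 ↥(Subgroup.zpowers s) := IsPGroup.of_card (n := 1) (by rw [Nat.card_zpowers, hs, pow_one])
  have hmod := hP.card_modEq_card_fixedPoints ↥N
  have hfp : Nat.card (MulAction.fixedPoints ↥(Subgroup.zpowers s) ↥N) = 1 := by
    rw [Nat.card_eq_one_iff_unique]
    refine ⟨⟨fun x y => ?_⟩, ⟨⟨1, fun g => map_one (f g)⟩⟩⟩
    have triv : ∀ z : MulAction.fixedPoints ↥(Subgroup.zpowers s) ↥N, ((z : ↥N) : H) = 1 := fun z => by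
      have h1 : s * ((z : ↥N) : H) * s⁻¹ = ((z : ↥N) : H) :=
        congrArg Subtype.val (z.2 ⟨s, Subgroup.mem_zpowers s⟩)
      exact hfix _ (z : ↥N).2 (mul_inv_eq_iff_eq_mul.1 h1).symm
    exact Subtype.ext (Subtype.ext ((triv x).trans (triv y).symm))
  rw [hfp] at hmod
  exact hmod

/-- The odd part of a normal subgroup of order prime to 23 is trivial. -/
theorem is_two_group {H : Type*} [Group H] [Finite H] {s : H} (hs : orderOf s = 23)
    (h23 : (Nat.card H).factorization 23 = 1) (hdvd : Nat.card H ∣ 2 ^ 22 * (3 ^ 9 * (5 ^ 4 * (7 ^ 2 * (11 * (13 * 23))))))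
    (N : Subgroup H) [N.Normal] (hN : ¬ 23 ∣ Nat.card N) (hfix : ∀ x ∈ N, x * s = s * x → x * x = 1) : IsPGroup 2 N := by
  haveI : Fact (Nat.Prime 2) := ⟨Nat.prime_two⟩
  have hd := (Subgroup.card_subgroup_dvd_card N).trans hdvd
  have hq : ∀ q : ℕ, q.Prime → q ∣ Nat.card N → q = 2 := by
    intro q hq hqd
    by_contra hq2
    have : Fact q.Prime := ⟨hq⟩
    have h1 := odd_part hs h23 N hN hfix q hq2
    have h2 : 1 ≤ (Nat.card N).factorization q :=
      hq.factorization_pos_of_dvd Nat.card_pos.ne' hqd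
    have h3 : (Nat.card N).factorization q ≤ (2 ^ 22 * (3 ^ 9 * (5 ^ 4 * (7 ^ 2 * (11 * (13 * 23)))))).factorization q :=
      (Nat.factorization_le_iff_dvd Nat.card_pos.ne' (by norm_num)).2 hd q
    simp only [Nat.factorization_mul, Nat.factorization_pow, ne_eq, mul_eq_zero, pow_eq_zero_iff, OfNat.ofNat_ne_zero,
      or_self, not_false_iff, Finsupp.add_apply, Finsupp.smul_apply, smul_eq_mul, Nat.prime_two.factorization,
      (by norm_num : Nat.Prime 3).factorization, (by norm_num : Nat.Prime 5).factorization,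
      (by norm_num : Nat.Prime 7).factorization, (by norm_num : Nat.Prime 11).factorization,
      (by norm_num : Nat.Prime 13).factorization, (by norm_num : Nat.Prime 23).factorization, Finsupp.single_apply] at h3
    generalize (Nat.card N).factorization q = a at h1 h2 h3
    have h23q : q ≠ 23 := fun e => hN (e ▸ hqd)
    by_cases e3 : q = 3
    · subst e3; norm_num at h3; interval_cases a <;> norm_num at h1
    by_cases e5 : q = 5
    · subst e5; norm_num at h3; interval_cases a <;> norm_num at h1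
    by_cases e7 : q = 7
    · subst e7; norm_num at h3; interval_cases a <;> norm_num at h1
    by_cases e11 : q = 11
    · subst e11; norm_num at h3; interval_cases a <;> norm_num at h1
    by_cases e13 : q = 13
    · subst e13; norm_num at h3; interval_cases a <;> norm_num at h1
    simp only [if_neg (Ne.symm hq2), if_neg (Ne.symm h23q), if_neg (Ne.symm e3), if_neg (Ne.symm e5), if_neg (Ne.symm e7),
      if_neg (Ne.symm e11), if_neg (Ne.symm e13)] at h3
    omega
  exact IsPGroup.of_card (Nat.eq_prime_pow_of_unique_prime_dvd Nat.card_pos.ne' fun hq' hd' => hq _ hq' hd')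

/-- A Sylow 23-subgroup inside a normal subgroup. -/
theorem mem_normal {H : Type*} [Group H] [Finite H] {s : H} (hs : orderOf s = 23) (h23 : (Nat.card H).factorization 23 = 1)
    (N : Subgroup H) [N.Normal] (hN : 23 ∣ Nat.card N) : s ∈ N := by
  haveI : Fact (Nat.Prime 23) := ⟨by norm_num⟩
  obtain ⟨τ, hτ⟩ := exists_prime_orderOf_dvd_card' (G := ↥N) 23 hN
  have hτ' : orderOf (τ : H) = 23 := (Subgroup.orderOf_coe τ).trans hτ
  let Pt : Sylow 23 H := Sylow.ofCard (Subgroup.zpowers (τ : H)) (by rw [Nat.card_zpowers, hτ', h23, pow_one])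
  let Ps : Sylow 23 H := Sylow.ofCard (Subgroup.zpowers s) (by rw [Nat.card_zpowers, hs, h23, pow_one])
  obtain ⟨k, hk⟩ := MulAction.exists_smul_eq H Pt Ps
  have h1 : ((k • Pt : Sylow 23 H) : Subgroup H) = Subgroup.zpowers s := by rw [hk]; rfl
  have h2 : ((k • Pt : Sylow 23 H) : Subgroup H) = (MulAut.conj k) • Subgroup.zpowers (τ : H) := rfl
  have hsm : s ∈ (MulAut.conj k) • Subgroup.zpowers (τ : H) := by rw [← h2, h1]; exact Subgroup.mem_zpowers s
  obtain ⟨t, ht, hts⟩ := hsm
  rw [← hts]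
  exact (inferInstance : N.Normal).conj_mem t ((Subgroup.zpowers_le.2 τ.2 : Subgroup.zpowers (τ : H) ≤ N) ht) k

/-- The argument of Frattini. -/
theorem exists_norm {H : Type*} [Group H] [Finite H] {s : H} (hs : orderOf s = 23) (h23 : (Nat.card H).factorization 23 = 1)
    (N : Subgroup H) [N.Normal] (hsN : s ∈ N) (g : H) :
    ∃ n ∈ N, (g * n)⁻¹ * s * (g * n) ∈ Subgroup.zpowers s := by
  haveI : Fact (Nat.Prime 23) := ⟨by norm_num⟩
  have hle : Subgroup.zpowers s ≤ N := Subgroup.zpowers_le.2 hsN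
  have hN1 : (Nat.card N).factorization 23 = 1 := by
    have h1 : 1 ≤ (Nat.card N).factorization 23 :=
      (Fact.out : Nat.Prime 23).factorization_pos_of_dvd Nat.card_pos.ne'
        (by have := Subgroup.card_dvd_of_le hle; rwa [Nat.card_zpowers, hs] at this)
    have h2 := (Nat.factorization_le_iff_dvd Nat.card_pos.ne' Nat.card_pos.ne').2 (Subgroup.card_subgroup_dvd_card N) 23
    omega
  let P : Sylow 23 ↥N := Sylow.ofCard ((Subgroup.zpowers s).subgroupOf N)
    (by rw [Nat.card_congr (Subgroup.subgroupOfEquivOfLe hle).toEquiv, Nat.card_zpowers, hs, hN1, pow_one])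
  have hsup := Sylow.normalizer_sup_eq_top P
  rw [show ((P : Subgroup ↥N)).map N.subtype = Subgroup.zpowers s from Subgroup.map_subgroupOf_eq_of_le hle] at hsup
  have hg : g ∈ ((Subgroup.normalizer (Subgroup.zpowers s : Set H) ⊔ N : Subgroup H) : Set H) := by
    rw [hsup]; exact Subgroup.mem_top g
  rw [Subgroup.mul_normal, Set.mem_mul] at hg
  obtain ⟨a, ha, b, hb, rfl⟩ := hg
  refine ⟨b⁻¹, inv_mem hb, ?_⟩
  rw [show a * b * b⁻¹ = a by group]
  exact (Subgroup.mem_normalizer_iff''.1 ha s).1 (Subgroup.mem_zpowers s)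

/-- The monomial part of the stabilizer of a vector with one special coordinate. -/
theorem mono_fix {v : ↥leechLattice} {a : ℤ} (ha : a ≠ 1 ∧ a ≠ -1) (hv0 : (v : GolayPt → ℤ) none = a)
    (hv1 : ∀ i, i ≠ none → (v : GolayPt → ℤ) i = 1) {g : ↥Co0} (hg : g • cross0 = cross0) (hgv : g • v = v) :
    ∃ τ : ↥M24, (τ : Equiv.Perm GolayPt) none = none ∧ permHom τ = g := by
  obtain ⟨⟨c, σ⟩, rfl⟩ := stab_cases hg
  have h : ∀ p, (if (σ : Equiv.Perm GolayPt) p ∈ (c : Finset GolayPt) then -(v : GolayPt → ℤ) ((σ : Equiv.Perm GolayPt) p)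
      else (v : GolayPt → ℤ) ((σ : Equiv.Perm GolayPt) p)) = (v : GolayPt → ℤ) p := fun p =>
    congrArg (fun t : ↥leechLattice => (t : GolayPt → ℤ) p) hgv
  have hs : (σ : Equiv.Perm GolayPt) none = none := by
    by_contra hne
    have := h none
    rw [hv1 _ hne, hv0] at this
    split_ifs at this <;> omega
  have hc : ∀ q, q ∉ (c : Finset GolayPt) := by
    intro q hq
    have := h ((σ : Equiv.Perm GolayPt).symm q)
    rw [Equiv.apply_symm_apply, if_pos hq] at this
    by_cases hqn : q = none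
    · have hsy : (σ : Equiv.Perm GolayPt).symm none = none := by rw [Equiv.symm_apply_eq, hs]
      rw [hqn, hsy, hv0] at this
      have := card_cases (mem_codeFinset.1 c.2)
      have hone : ∀ r, r ≠ none → r ∉ (c : Finset GolayPt) := fun r hr hrc => by
        have := h ((σ : Equiv.Perm GolayPt).symm r)
        rw [Equiv.apply_symm_apply, if_pos hrc, hv1 r hr,
          hv1 _ (fun e => hr ((Equiv.injective _) (e.trans hsy.symm)))] at this
        omega
      have hc1 : (c : Finset GolayPt) = {none} := Finset.ext fun r => by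
        rw [Finset.mem_singleton]
        exact ⟨fun hr => by by_contra hne; exact hone r hne hr, fun e => e ▸ hqn ▸ hq⟩
      rw [hc1, Finset.card_singleton] at this
      omega
    · rw [hv1 q hqn, hv1 _ (fun e => hqn (by rw [← Equiv.apply_symm_apply (σ : Equiv.Perm GolayPt) q, e, hs]))] at this
      omega
  refine ⟨σ⁻¹, ?_, co_ext fun i => ?_⟩
  · show (σ : Equiv.Perm GolayPt).symm none = none
    rw [Equiv.symm_apply_eq, hs]
  · rw [permHom_e8, mono_e8, if_neg (hc i)]
    rfl

/-- Simplicity of a point stabilizer with one special coordinate. -/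
theorem stab_simple {v : ↥leechLattice} {a : ℤ} (ha : a ≠ 1 ∧ a ≠ -1) (hv0 : (v : GolayPt → ℤ) none = a)
    (hv1 : ∀ i, i ≠ none → (v : GolayPt → ℤ) i = 1) {n : ℕ} (hn : Nat.card (MulAction.stabilizer ↥Co0 v) = n)
    (h23 : n.factorization 23 = 1) (hdvd : n ∣ 2 ^ 22 * (3 ^ 9 * (5 ^ 4 * (7 ^ 2 * (11 * (13 * 23))))))
    (h2 : ∀ N : Subgroup ↥(MulAction.stabilizer ↥Co0 v), N.Normal → IsPGroup 2 N → Nat.card N % 23 = 1 → N = ⊥) :
    IsSimpleGroup (MulAction.stabilizer ↥Co0 v) := by
  classical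
  haveI : Finite ↥Co0 := Nat.finite_of_card_ne_zero (by rw [card_Co0]; norm_num)
  obtain ⟨σ, hσ, h0⟩ := exists_sigma
  let K := MulAction.stabilizer ↥Co0 v
  have hfixv : ∀ τ : ↥M24, (τ : Equiv.Perm GolayPt) none = none → permHom τ ∈ K := fun τ hτ =>
    perm_fix hτ fun i j hi hj => by rw [hv1 i hi, hv1 j hj]
  let j : ↥(st1 none) →* ↥K :=
    (permHom.comp (Subgroup.inclusion (inf_le_left : st1 none ≤ M24))).codRestrict K fun x => hfixv _ x.2.2
  have hmono : ∀ x : ↥K, (x : ↥Co0) • cross0 = cross0 → x ∈ j.range := by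
    intro x hx
    obtain ⟨τ, hτ, e⟩ := mono_fix ha hv0 hv1 hx x.2
    exact ⟨⟨τ, τ.2, hτ⟩, Subtype.ext e⟩
  let s : ↥K := ⟨permHom σ, hfixv σ h0⟩
  have hinj : Function.Injective (permHom : ↥M24 → ↥Co0) := fun x y e => by
    have h1 : permHom (y⁻¹ * x) = 1 := by rw [map_mul, map_inv, e, inv_mul_cancel]
    exact (inv_mul_eq_one.1 (permHom_flips (h1 ▸ Subgroup.one_mem _))).symm
  have hs : orderOf s = 23 := by
    rw [← Subgroup.orderOf_coe]
    exact (orderOf_injective permHom hinj σ).trans hσ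
  have hnorm : ∀ x : ↥K, x⁻¹ * s * x ∈ Subgroup.zpowers s → x ∈ j.range := by
    intro x hx
    obtain ⟨k, hk⟩ := Subgroup.mem_zpowers_iff.1 hx
    refine hmono x (normalizer_le hσ h0 (Subgroup.mem_zpowers_iff.2 ⟨k, ?_⟩))
    have := congrArg (fun t : ↥K => (t : ↥Co0)) hk
    simpa using this
  haveI : Nontrivial ↥K := ⟨⟨s, 1, fun e => by rw [e, orderOf_one] at hs; omega⟩⟩
  refine ⟨fun N hN => ?_⟩
  haveI := hN
  haveI := st1_simple none
  haveI : (N.comap j).Normal := hN.comap j
  have hjtop : s ∈ N → j.range ≤ N := fun hsN => by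
    rcases (inferInstance : (N.comap j).Normal).eq_bot_or_eq_top with h | h
    · exfalso
      have hm : (⟨σ, σ.2, h0⟩ : ↥(st1 none)) ∈ N.comap j := hsN
      rw [h, Subgroup.mem_bot] at hm
      have h1 : (σ : Equiv.Perm GolayPt) = 1 := congrArg Subtype.val hm
      rw [show σ = 1 from Subtype.ext h1, orderOf_one] at hσ
      omega
    · rintro _ ⟨x, rfl⟩
      exact (h ▸ Subgroup.mem_top x : x ∈ N.comap j)
  by_cases hd : 23 ∣ Nat.card N
  · right
    have hsN := mem_normal hs (by rw [hn]; exact h23) N hd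
    refine eq_top_iff.2 fun g _ => ?_
    obtain ⟨m, hm, hgm⟩ := exists_norm hs (by rw [hn]; exact h23) N hsN g
    have := mul_mem (hjtop hsN (hnorm _ hgm)) (inv_mem hm)
    simpa using this
  · left
    have hfix : ∀ x ∈ N, x * s = s * x → x = 1 := by
      intro x hx hxs
      obtain ⟨y, rfl⟩ := hnorm x (by rw [mul_assoc, ← hxs, inv_mul_cancel_left]; exact Subgroup.mem_zpowers s)
      rcases (inferInstance : (N.comap j).Normal).eq_bot_or_eq_top with h | h
      · have hy : y ∈ N.comap j := hx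
        rw [h, Subgroup.mem_bot] at hy
        rw [hy, map_one]
      · exfalso
        apply hd
        have hsN : s ∈ N := (h ▸ Subgroup.mem_top _ : (⟨σ, σ.2, h0⟩ : ↥(st1 none)) ∈ N.comap j)
        have := orderOf_dvd_natCard (⟨s, hsN⟩ : ↥N)
        rwa [Subgroup.orderOf_mk, hs] at this
    refine h2 N hN ?_ (fixed_mod hs N hfix)
    exact is_two_group hs (by rw [hn]; exact h23) (by rw [hn]; exact hdvd) N hd fun x hx hxs => by rw [hfix x hx hxs, one_mul]

end Cfsg.Agent.Lib.Leech
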