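import Cfsg.Agent.Lib.Leech.Orbit

/-!
The crosses: classes modulo twice the lattice of vectors of norm 64.
-/

set_option autoImplicit false

namespace Cfsg.Agent.Lib.Leech

open Cfsg Golay

theorem eight_mem_lattice (i : GolayPt) (s : ℤ) : (Pi.single i (8 * s) : GolayPt → ℤ) ∈ leechLattice := by
  have : (Pi.single i (8 * s) : GolayPt → ℤ) = s • frame i i := funext fun p => by
    by_cases h : p = i
    · subst h; simp [frame]; ring
    · simp [frame, h]
  rw [this]
  exact zsmul_mem (frame_mem i i) s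

/-- The vectors `8e`. -/
def e8 (i : GolayPt) : ↥leechLattice := ⟨(Pi.single i (8 * 1 : ℤ) : GolayPt → ℤ), eight_mem_lattice i 1⟩

theorem coe_e8 (i : GolayPt) : (e8 i : GolayPt → ℤ) = Pi.single i 8 := by
  show (Pi.single i (8 * 1 : ℤ) : GolayPt → ℤ) = _
  rw [mul_one]

theorem sqNorm_e8 (i : GolayPt) : sqNorm (e8 i : GolayPt → ℤ) = 64 := by
  simp [sqNorm, coe_e8, Pi.single_apply]

/-- Congruence modulo twice the lattice. -/
def Cong (x y : ↥leechLattice) : Prop := ∃ z : ↥leechLattice, x - y = z + z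

theorem Cong.refl (x : ↥leechLattice) : Cong x x := ⟨0, by simp⟩

theorem Cong.symm {x y : ↥leechLattice} (h : Cong x y) : Cong y x := by
  obtain ⟨z, hz⟩ := h
  exact ⟨-z, by rw [← neg_sub, hz]; abel⟩

theorem Cong.trans {x y w : ↥leechLattice} (h : Cong x y) (h' : Cong y w) : Cong x w := by
  obtain ⟨z, hz⟩ := h; obtain ⟨z', hz'⟩ := h'
  exact ⟨z + z', by rw [← sub_add_sub_cancel x y w, hz, hz']; abel⟩

theorem smul_add' (g : ↥Co0) (x y : ↥leechLattice) : g • (x + y) = g • x + g • y := g.2.1 x y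

/-- An isometry as an additive map. -/
def coHom (g : ↥Co0) : ↥leechLattice →+ ↥leechLattice := AddMonoidHom.mk' (g • ·) (smul_add' g)

theorem Cong.smul {x y : ↥leechLattice} (h : Cong x y) (g : ↥Co0) : Cong (g • x) (g • y) := by
  obtain ⟨z, hz⟩ := h
  exact ⟨g • z, by
    show coHom g x - coHom g y = coHom g z + coHom g z
    rw [← map_sub, hz, map_add]⟩

theorem cong_e8 (i : GolayPt) : Cong (e8 i) (e8 none) := by
  refine ⟨⟨frame i none, frame_mem i none⟩ - e8 none, Subtype.ext (funext fun p => ?_)⟩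
  simp only [AddSubgroup.coe_sub, AddSubgroup.coe_add, Pi.sub_apply, Pi.add_apply, coe_e8, frame, Pi.single_apply]
  split_ifs <;> omega

theorem cong_neg (x : ↥leechLattice) : Cong (-x) x := ⟨-x, by abel⟩

/-- The map carrying the standard cross to an odd one. -/
noncomputable def g0 : ↥Co0 := xiCo * permCo (toPerm genT) genT_mem * xiCo * permCo (toPerm genT) genT_mem * xiCo

/-- The image of `8e`, computed. -/
def g0fun (i : GolayPt) : GolayPt → ℤ :=
  xi fun p => xi (fun q => xi (fun r => if r = i then 8 else 0) (pt (img genT (ix q)))) (pt (img genT (ix p)))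

theorem g0_apply (i : GolayPt) : ((g0 • e8 i : ↥leechLattice) : GolayPt → ℤ) = g0fun i := by
  have hv : valid genT = true := valid_of_inM24 (List.all_eq_true.1 inM24_gens genT (by simp))
  rw [g0, mul_smul, mul_smul, mul_smul, mul_smul, coe_xiCo, coe_permCo, coe_xiCo, coe_permCo, coe_xiCo, coe_e8]
  simp only [toPerm_apply hv]
  unfold g0fun
  simp only [← Pi.single_apply]

theorem g0_shapes : (∀ i p, g0fun i p % 2 = 1) ∧
    (∃ i, (Finset.univ.filter fun p => g0fun i p = 3 ∨ g0fun i p = -3).card = 5) ∧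
    (∃ i, (Finset.univ.filter fun p => g0fun i p = 3 ∨ g0fun i p = -3).card = 2) := by
  refine ⟨?_, ?_, ?_⟩ <;> decide +kernel

/-- Every vector of norm 64 lies in a class of the orbit of the standard cross. -/
theorem cross (v : ↥leechLattice) (hv : sqNorm (v : GolayPt → ℤ) = 64) : ∃ g : ↥Co0, Cong (g • v) (e8 none) := by
  have conc : ∀ i w, Same w (g0 • e8 i) → ∃ g : ↥Co0, Cong (g • w) (e8 none) := by
    rintro i w ⟨g, hg⟩
    exact ⟨g0⁻¹ * g, by rw [mul_smul, hg, inv_smul_smul]; exact cong_e8 i⟩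
  rcases to_odd v (fun h => by rw [h] at hv; simp [sqNorm] at hv) hv.le with ⟨i, h | h⟩ | ⟨y, hvy, hy⟩
  · refine ⟨1, ?_⟩
    rw [one_smul, show v = e8 i from Subtype.ext (h.trans (coe_e8 i).symm)]
    exact cong_e8 i
  · refine ⟨1, ?_⟩
    rw [one_smul, show v = -e8 i from Subtype.ext (h.trans (by rw [AddSubgroup.coe_neg, coe_e8, Pi.single_neg]))]
    exact (cong_neg _).trans (cong_e8 i)
  obtain ⟨hodd, ⟨i, hi⟩, ⟨j, hj⟩⟩ := g0_shapes
  obtain ⟨u, hyu, hu, hN, -⟩ := odd_classify y hy (by rw [hvy.sqNorm_eq]; omega)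
  rw [hvy.sqNorm_eq, hv] at hN
  have key : ∀ k, sqNorm ((g0 • e8 k : ↥leechLattice) : GolayPt → ℤ) = 64 := fun k =>
    (Same.sqNorm_eq ⟨g0, rfl⟩).trans (sqNorm_e8 k)
  have fin : ∀ k, (posOf u (-3)).card = (Finset.univ.filter fun p => g0fun k p = 3 ∨ g0fun k p = -3).card →
      ∃ g : ↥Co0, Cong (g • v) (e8 none) := by
    intro k hk
    obtain ⟨b, hb, hb1, hbN, hb3⟩ := odd_classify (g0 • e8 k) (fun p => by rw [g0_apply]; exact hodd k p) (key k).le
    rw [key] at hbN
    simp only [g0_apply] at hb3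
    exact conc k v (((hvy.trans hyu).trans (same_normal hu hb1 (by omega) (by omega) (by omega))).trans hb.symm)
  by_cases h5 : (posOf u (-3)).card = 5
  · exact fin i (h5.trans hi.symm)
  · exact fin j (by omega)

/-- The short vectors of the standard cross. -/
theorem cross_members {x : ↥leechLattice} (hn : sqNorm (x : GolayPt → ℤ) = 64) :
    Cong x (e8 none) ↔ ∃ i, x = e8 i ∨ x = -e8 i := by
  constructor
  · intro h
    obtain ⟨z, hz⟩ := h
    have hx : ∀ p, (x : GolayPt → ℤ) p = 2 * ((z : GolayPt → ℤ) p + if p = none then 4 else 0) := fun p => by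
      have h := congrArg (fun t : ↥leechLattice => (t : GolayPt → ℤ) p) hz
      simp only [AddSubgroup.coe_sub, AddSubgroup.coe_add, Pi.sub_apply, Pi.add_apply, coe_e8, Pi.single_apply] at h
      split_ifs at h ⊢ <;> omega
    set w : GolayPt → ℤ := fun p => (z : GolayPt → ℤ) p + if p = none then 4 else 0 with hw
    have hw16 : ∑ p, w p ^ 2 = 16 := by
      have : sqNorm (x : GolayPt → ℤ) = 4 * ∑ p, w p ^ 2 := by
        rw [sqNorm, Finset.mul_sum]; exact Finset.sum_congr rfl fun p _ => by rw [hx p]; ring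
      omega
    obtain ⟨m, y, hm, hy, -, hc⟩ := mem_iff.1 z.2
    have hpar : ∀ p, w p % 2 = m % 2 := fun p => by
      show ((z : GolayPt → ℤ) p + if p = none then 4 else 0) % 2 = m % 2
      rw [hy]; split_ifs <;> omega
    have hm0 : m = 0 := by
      by_contra hne
      have := Finset.sum_le_sum (s := Finset.univ) (f := fun _ : GolayPt => (1 : ℤ)) (g := fun p => w p ^ 2)
        fun p _ => Int.add_one_le_iff.2 (pow_two_pos_of_ne_zero fun e => by have := hpar p; omega)
      rw [hw16, Finset.sum_const, Finset.card_univ, show Fintype.card GolayPt = 24 from rfl] at this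
      simp at this
    subst hm0
    have hcard := card_cases (support_mem hc)
    rw [support_cast] at hcard
    have hlow := Finset.sum_le_sum (s := Finset.univ)
      (f := fun p : GolayPt => if ¬ (2 : ℤ) ∣ y p then (4 : ℤ) else 0) (g := fun p => w p ^ 2) fun p _ => by
        show (if ¬ (2 : ℤ) ∣ y p then (4 : ℤ) else 0) ≤ w p ^ 2
        split_ifs with h
        · exact sq_nonneg _
        · have : w p ≤ -2 ∨ 2 ≤ w p := by
            show (z : GolayPt → ℤ) p + _ ≤ -2 ∨ 2 ≤ (z : GolayPt → ℤ) p + _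
            rw [hy]; split_ifs <;> omega
          rcases this with a | a <;> nlinarith
    rw [hw16, ← Finset.sum_filter, Finset.sum_const, nsmul_eq_mul] at hlow
    have hw4 : ∀ p, w p % 4 = 0 := by
      intro p
      have h0 : (Finset.univ.filter fun i => ¬ (2 : ℤ) ∣ y i).card = 0 := by omega
      rw [Finset.card_eq_zero, Finset.filter_eq_empty_iff] at h0
      have := h0 (Finset.mem_univ p)
      show ((z : GolayPt → ℤ) p + if p = none then 4 else 0) % 4 = 0
      rw [hy]; split_ifs <;> omega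
    obtain ⟨i, hi⟩ : ∃ i, w i ≠ 0 := by
      by_contra h; push Not at h; simp [h] at hw16
    have hi16 : 16 ≤ w i ^ 2 := by
      have := hw4 i
      have : w i ≤ -4 ∨ 4 ≤ w i := by omega
      rcases this with a | a <;> nlinarith
    have hother : ∀ q, q ≠ i → w q = 0 := by
      intro q hq
      have h := Finset.sum_le_sum_of_subset_of_nonneg (f := fun t => w t ^ 2)
        (Finset.subset_univ ({i, q} : Finset GolayPt)) (fun t _ _ => sq_nonneg _)
      rw [Finset.sum_pair (Ne.symm hq), hw16] at h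
      have : w q ^ 2 ≤ 0 := by linarith
      exact pow_eq_zero_iff two_ne_zero |>.1 (le_antisymm this (sq_nonneg _))
    have hwi : w i = 4 ∨ w i = -4 := by
      have h := (Finset.single_le_sum (fun t _ => sq_nonneg (w t)) (Finset.mem_univ i)).trans hw16.le
      have : -4 ≤ w i := by nlinarith
      have : w i ≤ 4 := by nlinarith
      have := hw4 i
      omega
    refine ⟨i, hwi.imp (fun h => ?_) (fun h => ?_)⟩ <;> refine Subtype.ext (funext fun p => ?_)
    · rw [hx p, coe_e8]
      show 2 * w p = _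
      by_cases hp : p = i
      · subst hp; rw [h]; simp
      · rw [hother p hp]; simp [hp]
    · rw [hx p, AddSubgroup.coe_neg, coe_e8]
      show 2 * w p = _
      by_cases hp : p = i
      · subst hp; rw [h]; simp
      · rw [hother p hp]; simp [hp]
  · rintro ⟨i, rfl | rfl⟩
    · exact cong_e8 i
    · exact (cong_neg _).trans (cong_e8 i)

/-- The standard cross. -/
def cross0 : Set ↥leechLattice := Set.range e8 ∪ Set.range fun i => -e8 i

theorem ncard_cross0 : cross0.ncard = 48 := by
  have hinj : Function.Injective e8 := fun i j h => by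
    have := congrArg (fun t : ↥leechLattice => (t : GolayPt → ℤ) i) h
    simp only [coe_e8, Pi.single_eq_same] at this
    by_contra e
    rw [Pi.single_eq_of_ne e] at this
    omega
  have hinj' : Function.Injective fun i => -e8 i := fun i j h => hinj (neg_injective h)
  rw [cross0, Set.ncard_union_eq, Set.ncard_range_of_injective hinj, Set.ncard_range_of_injective hinj']
  · rw [Nat.card_eq_fintype_card]; rfl
  · rw [Set.disjoint_left]
    rintro _ ⟨i, rfl⟩ ⟨j, hj⟩
    have := congrArg (fun t : ↥leechLattice => (t : GolayPt → ℤ) i) hj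
    simp only [AddSubgroup.coe_neg, Pi.neg_apply, coe_e8, Pi.single_apply, if_pos rfl] at this
    split_ifs at this <;> omega

theorem mem_cross0 {x : ↥leechLattice} : x ∈ cross0 ↔ sqNorm (x : GolayPt → ℤ) = 64 ∧ Cong x (e8 none) := by
  constructor
  · rintro (⟨i, rfl⟩ | ⟨i, rfl⟩)
    · exact ⟨sqNorm_e8 i, cong_e8 i⟩
    · refine ⟨?_, (cong_neg _).trans (cong_e8 i)⟩
      have := sqNorm_e8 i
      simpa [sqNorm] using this
  · rintro ⟨hn, h⟩
    obtain ⟨i, rfl | rfl⟩ := (cross_members hn).1 h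
    · exact Or.inl ⟨i, rfl⟩
    · exact Or.inr ⟨i, rfl⟩

/-- A class of a norm 64 vector has exactly 48 such vectors. -/
theorem class_card (v : ↥leechLattice) (hv : sqNorm (v : GolayPt → ℤ) = 64) :
    {x : ↥leechLattice | sqNorm (x : GolayPt → ℤ) = 64 ∧ Cong x v}.ncard = 48 := by
  obtain ⟨g, hg⟩ := cross v hv
  have : (fun x => g • x) '' {x : ↥leechLattice | sqNorm (x : GolayPt → ℤ) = 64 ∧ Cong x v} = cross0 := by
    ext y
    rw [mem_cross0]
    constructor
    · rintro ⟨x, ⟨hx, hc⟩, rfl⟩
      exact ⟨(Same.sqNorm_eq ⟨g, rfl⟩).trans hx, (hc.smul g).trans hg⟩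
    · rintro ⟨hy, hc⟩
      refine ⟨g⁻¹ • y, ⟨(Same.sqNorm_eq ⟨g⁻¹, rfl⟩).trans hy, ?_⟩, smul_inv_smul g y⟩
      have := (hc.trans hg.symm).smul g⁻¹
      rwa [inv_smul_smul] at this
  rw [← Set.ncard_image_of_injective _ (MulAction.injective g), this, ncard_cross0]

end Cfsg.Agent.Lib.Leech
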