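import Cfsg.Agent.Lib.Leech.Dots

/-!
A fast computation of the grouped profiles of code words.
-/

set_option autoImplicit false

namespace Cfsg.Agent.Lib.Leech

open Cfsg Golay

/-- The class of an index in a code word, by packed class numbers. -/
def codeAt (cp c i : ℕ) : ℕ := Nat.add (Nat.mul 2 (img cp i)) (Nat.land (Nat.shiftRight c i) 1)

/-- The sum of the powers of 32 at the given exponents. -/
def sum32 (l : List ℕ) : ℕ := List.rec 0 (fun k _ acc => Nat.add (Nat.shiftLeft 1 (Nat.mul 5 k)) acc) l

/-- The packed profile. -/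
def pack32 (cp c : ℕ) : ℕ :=
  List.rec 0 (fun i _ acc => Nat.add (Nat.shiftLeft 1 (Nat.mul 5 (codeAt cp c i))) acc) idx

theorem sum32_cons (k : ℕ) (l : List ℕ) : sum32 (k :: l) = 32 ^ k + sum32 l := by
  show Nat.add (Nat.shiftLeft 1 (Nat.mul 5 k)) (sum32 l) = _
  rw [show Nat.shiftLeft 1 (Nat.mul 5 k) = 1 <<< (5 * k) from rfl, Nat.one_shiftLeft, pow_mul]
  norm_num

theorem pack32_eq (cp c : ℕ) : pack32 cp c = sum32 (idx.map (codeAt cp c)) := by
  have key : ∀ l : List ℕ, (List.rec 0 (fun i _ acc => Nat.add (Nat.shiftLeft 1 (Nat.mul 5 (codeAt cp c i))) acc) l : ℕ) =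
      sum32 (l.map (codeAt cp c)) := fun l => by
    induction l with
    | nil => rfl
    | cons a l ih => rw [List.map_cons, sum32_cons, ← ih, show (32 : ℕ) ^ codeAt cp c a = Nat.shiftLeft 1 (Nat.mul 5 (codeAt cp c a)) by
        rw [show Nat.shiftLeft 1 (Nat.mul 5 (codeAt cp c a)) = 1 <<< (5 * codeAt cp c a) from rfl, Nat.one_shiftLeft, pow_mul]
        norm_num]
                     rfl
  exact key idx

/-- The lower classes shifted down. -/
def down : List ℕ → List ℕ
  | [] => []
  | 0 :: l => down l
  | (k + 1) :: l => k :: down l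

theorem sum32_down : ∀ l, sum32 l = l.count 0 + 32 * sum32 (down l)
  | [] => rfl
  | 0 :: l => by
    rw [sum32_cons, sum32_down l, List.count_cons_self, down, pow_zero]
    omega
  | (k + 1) :: l => by
    rw [sum32_cons, sum32_down l, List.count_cons_of_ne (by omega), down, sum32_cons, pow_succ]
    ring

theorem count_down (j : ℕ) : ∀ l, (down l).count j = l.count (j + 1)
  | [] => rfl
  | 0 :: l => by rw [down, List.count_cons_of_ne (by omega), count_down j l]
  | (k + 1) :: l => by
    rw [down, List.count_cons, List.count_cons, count_down j l]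
    by_cases h : k = j
    · subst h; simp
    · simp [h]

theorem length_down : ∀ l : List ℕ, (down l).length ≤ l.length
  | [] => le_rfl
  | 0 :: l => (length_down l).trans (Nat.le_succ _)
  | (k + 1) :: l => Nat.succ_le_succ (length_down l)

theorem sum32_digit : ∀ (j : ℕ) (l : List ℕ), l.length ≤ 31 → sum32 l / 32 ^ j % 32 = l.count j
  | 0, l, h => by
    have := List.count_le_length (a := 0) (l := l)
    rw [pow_zero, Nat.div_one, sum32_down]
    omega
  | j + 1, l, h => by
    have := List.count_le_length (a := 0) (l := l)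
    rw [← count_down, ← sum32_digit j (down l) ((length_down l).trans h), pow_succ', ← Nat.div_div_eq_div_mul,
      show sum32 l / 32 = sum32 (down l) by rw [sum32_down l]; omega]

/-- Unpacking a profile. -/
def unpack (n P : ℕ) : List ℕ := (List.range n).map fun j => P / 32 ^ j % 32

/-- Grouping of packed profiles. -/
def addN (p : ℕ) : List (ℕ × ℕ) → List (ℕ × ℕ)
  | [] => [(p, 1)]
  | (a, m) :: t => bif Nat.beq a p then (a, Nat.add m 1) :: t else (a, m) :: addN p t

/-- Total of a grouped list. -/
def nsum (F : ℕ → ℕ) (t : List (ℕ × ℕ)) : ℕ := (t.map fun e => e.2 * F e.1).sum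

theorem nsum_addN (F : ℕ → ℕ) (p : ℕ) : ∀ t, nsum F (addN p t) = nsum F t + F p
  | [] => by simp [nsum, addN]
  | (a, m) :: t => by
    have ih := nsum_addN F p t
    simp only [addN, nsum] at ih ⊢
    cases h : Nat.beq a p
    · simp only [cond_false, List.map_cons, List.sum_cons, ih]
      omega
    · obtain rfl := Nat.eq_of_beq_eq_true h
      simp only [cond_true, List.map_cons, List.sum_cons]
      rw [show Nat.add m 1 = m + 1 from rfl, Nat.add_mul]
      omega

theorem nsum_group (F : ℕ → ℕ) : ∀ L : List ℕ, nsum F (L.foldr addN []) = (L.map F).sum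
  | [] => rfl
  | p :: L => by rw [List.foldr_cons, nsum_addN, nsum_group F L, List.map_cons, List.sum_cons]; omega

/-- The grouped packed profiles. -/
def fastTable (cp : ℕ) : List (ℕ × ℕ) := (codeList.map (pack32 cp)).foldr addN []

/-- The class numbers agree with the classes. -/
def cpOK (wt : GolayPt → ℤ) (cls : List (ℤ × Bool)) (cp : ℕ) : Bool :=
  idx.all fun i => decide (2 * img cp i + 1 < cls.length) &&
    (cls.getD (2 * img cp i) (0, false) == (wt (pt i), false)) &&
    (cls.getD (2 * img cp i + 1) (0, false) == (wt (pt i), true))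

theorem prof_eq {wt : GolayPt → ℤ} {cls : List (ℤ × Bool)} {cp : ℕ} (hnd : cls.Nodup)
    (h : cpOK wt cls cp = true) (c : ℕ) : prof wt cls c = unpack cls.length (pack32 cp c) := by
  simp only [cpOK, List.all_eq_true, Bool.and_eq_true, decide_eq_true_eq, beq_iff_eq] at h
  have hcode : ∀ i ∈ idx, codeAt cp c i < cls.length ∧ cls.getD (codeAt cp c i) (0, false) = (wt (pt i), c.testBit i) := by
    intro i hi
    obtain ⟨⟨h1, h2⟩, h3⟩ := h i hi
    have hb : Nat.land (Nat.shiftRight c i) 1 = if c.testBit i then 1 else 0 := by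
      rw [show Nat.land (Nat.shiftRight c i) 1 = (c >>> i) &&& 1 from rfl, Nat.and_one_is_mod,
        Nat.shiftRight_eq_div_pow, Nat.testBit_eq_decide_div_mod_eq]
      simp only [decide_eq_true_eq]
      split_ifs <;> omega
    have e : codeAt cp c i = 2 * img cp i + (if c.testBit i then 1 else 0) := congrArg (Nat.add (Nat.mul 2 (img cp i))) hb
    rw [e]
    cases c.testBit i
    · exact ⟨by simp; omega, by simpa using h2⟩
    · exact ⟨by simpa using h1, by simpa using h3⟩
  have hlen : (idx.map (codeAt cp c)).length ≤ 31 := by simp [idx]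
  refine List.ext_getElem (by simp [prof, unpack]) fun j h1 h2 => ?_
  have hj : j < cls.length := by simpa [unpack] using h2
  simp only [prof, unpack, List.getElem_map, List.getElem_range, pack32_eq, sum32_digit j _ hlen, cls24,
    List.count_eq_countP, List.countP_map]
  refine List.countP_congr fun i hi => ?_
  obtain ⟨a1, a2⟩ := hcode i hi
  simp only [Function.comp, beq_iff_eq]
  rw [← a2, List.getD_eq_getElem _ _ a1]
  exact ⟨fun e => (hnd.getElem_inj_iff).1 e, fun e => by simp only [e]⟩

/-- The count, fast. -/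
theorem census_fast (wt : GolayPt → ℤ) (N k : ℤ) (hN : N ≤ 64) (cls : List (ℤ × Bool)) (hnd : cls.Nodup) (cp : ℕ)
    (h : cpOK wt cls cp = true) :
    {x : GolayPt → ℤ | x ∈ leechLattice ∧ sqNorm x = N ∧ dotInt wt x = k}.ncard =
      nsum (fun P => cntP cls N k (unpack cls.length P)) (fastTable cp) := by
  have hcls : clsOK wt cls = true := by
    have h' := h
    simp only [cpOK, clsOK, List.all_eq_true, Bool.and_eq_true, decide_eq_true_eq, beq_iff_eq,
      List.contains_iff_mem] at h' ⊢
    intro i hi
    obtain ⟨⟨h1, h2⟩, h3⟩ := h' i hi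
    rw [List.getD_eq_getElem _ _ (by omega)] at h2 h3
    exact ⟨h3 ▸ List.getElem_mem _, h2 ▸ List.getElem_mem _⟩
  rw [census_dot wt N k hN cls hnd hcls, table_sum]
  refine Eq.trans ?_ (nsum_group _ _).symm
  rw [List.map_map]
  exact congrArg List.sum (List.map_congr_left fun c _ => by rw [Function.comp, prof_eq hnd h])

end Cfsg.Agent.Lib.Leech
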