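import Cfsg.Agent.Lib.Leech.Co2Core
import Cfsg.Agent.Lib.Golay.Simple

/-!
The monomial group: sign changes, permutations, and its normal 2-subgroups.
-/

set_option autoImplicit false

namespace Cfsg.Agent.Lib.Leech

open Cfsg Golay
open scoped Pointwise

theorem moves_stab {g : ↥Co0} {ρ : Equiv.Perm GolayPt} (hm : Moves g ρ) : g • cross0 = cross0 := by
  refine Set.eq_of_subset_of_ncard_le ?_ (by rw [Set.ncard_smul_set])
    (Set.finite_of_ncard_pos (by rw [ncard_cross0]; norm_num))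
  rintro _ ⟨x, hx, rfl⟩
  rcases hx with ⟨i, rfl⟩ | ⟨i, rfl⟩
  · rcases hm i with e | e
    · exact Or.inl ⟨_, e.symm⟩
    · exact Or.inr ⟨_, e.symm⟩
  · show g • (-e8 i) ∈ cross0
    rw [smul_neg']
    rcases hm i with e | e
    · exact Or.inr ⟨_, by rw [e]⟩
    · exact Or.inl ⟨_, by rw [e, neg_neg]⟩

/-- The sign changes. -/
def flips : Subgroup ↥Co0 where
  carrier := {g | Moves g 1}
  one_mem' := moves_one
  mul_mem' := fun {g h} hg hh => show Moves (g * h) 1 from (mul_one (1 : Equiv.Perm GolayPt)) ▸ hg.mul hh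
  inv_mem' := fun {g} hg => show Moves g⁻¹ 1 from (inv_one (G := Equiv.Perm GolayPt)) ▸ hg.inv

theorem flips_le : flips ≤ MulAction.stabilizer ↥Co0 cross0 := fun _ hg => moves_stab hg

theorem card_flips : Nat.card ↥flips = 4096 := by
  rw [← card_codeFinset, ← Nat.card_eq_finsetCard]
  refine (Nat.card_eq_of_bijective (fun c : ↥codeFinset => (⟨mono (c, 1), ?_⟩ : ↥flips)) ⟨?_, ?_⟩).symm
  · have h := moves_mono (c, 1)
    rwa [show (((c, 1) : ↥codeFinset × ↥M24).2 : Equiv.Perm GolayPt)⁻¹ = 1 from inv_one] at h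
  · intro c d h
    exact congrArg Prod.fst (mono_injective (congrArg Subtype.val h))
  · rintro ⟨g, hg⟩
    obtain ⟨⟨c, σ⟩, rfl⟩ := stab_cases (moves_stab hg)
    have h := hg.unique (moves_mono (c, σ))
    obtain rfl : σ = 1 := Subtype.ext (inv_eq_one.1 h.symm)
    exact ⟨c, rfl⟩

theorem flips_sq {g : ↥Co0} (hg : g ∈ flips) : g * g = 1 := by
  refine co_ext fun i => ?_
  rw [mul_smul, one_smul]
  rcases hg i with e | e <;> simp only [Equiv.Perm.one_apply] at e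
  · rw [e, e]
  · rw [e, smul_neg', e, neg_neg]

/-- The permutations. -/
noncomputable def permHom : ↥M24 →* ↥Co0 where
  toFun σ := permCo ((σ : Equiv.Perm GolayPt))⁻¹ (inv_mem σ.2)
  map_one' := co_ext fun i => by rw [perm_e8, one_smul]; rfl
  map_mul' σ τ := co_ext fun i => by
    rw [mul_smul, perm_e8, perm_e8, perm_e8]
    rfl

theorem permHom_e8 (σ : ↥M24) (i : GolayPt) : permHom σ • e8 i = e8 ((σ : Equiv.Perm GolayPt) i) :=
  perm_e8 (inv_mem σ.2) i

theorem moves_permHom (σ : ↥M24) : Moves (permHom σ) (σ : Equiv.Perm GolayPt) := fun i => Or.inl (permHom_e8 σ i)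

theorem split {g : ↥Co0} (hg : g • cross0 = cross0) : ∃ σ : ↥M24, Moves g σ ∧ (permHom σ)⁻¹ * g ∈ flips := by
  obtain ⟨a, rfl⟩ := stab_cases hg
  refine ⟨a.2⁻¹, moves_mono a, ?_⟩
  have h := (moves_permHom a.2⁻¹).inv.mul (moves_mono a)
  rwa [show ((a.2⁻¹ : ↥M24) : Equiv.Perm GolayPt)⁻¹ * (a.2 : Equiv.Perm GolayPt)⁻¹ = 1 from inv_mul_cancel _] at h

/-- A normal 2-subgroup of the monomial group consists of sign changes. -/
theorem two_normal_le_flips (N : Subgroup ↥(MulAction.stabilizer ↥Co0 cross0)) [N.Normal] (hp : IsPGroup 2 N) :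
    ∀ n ∈ N, (n : ↥Co0) ∈ flips := by
  let M : Subgroup ↥M24 :=
    { carrier := {σ | ∃ n ∈ N, Moves (n : ↥Co0) (σ : Equiv.Perm GolayPt)}
      one_mem' := ⟨1, N.one_mem, moves_one⟩
      mul_mem' := fun ⟨n, hn, h⟩ ⟨m, hm, h'⟩ => ⟨n * m, mul_mem hn hm, h.mul h'⟩
      inv_mem' := fun ⟨n, hn, h⟩ => ⟨n⁻¹, inv_mem hn, h.inv⟩ }
  haveI : M.Normal := ⟨fun σ ⟨n, hn, h⟩ τ => ⟨⟨permHom τ, moves_stab (moves_permHom τ)⟩ * n * ⟨permHom τ, moves_stab (moves_permHom τ)⟩⁻¹,
    (inferInstance : N.Normal).conj_mem n hn _, ((moves_permHom τ).mul h).mul (moves_permHom τ).inv⟩⟩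
  haveI := M24_simple
  rcases (inferInstance : M.Normal).eq_bot_or_eq_top with h | h
  · intro n hn
    obtain ⟨σ, hσ, -⟩ := split (g := (n : ↥Co0)) n.2
    have hM : σ ∈ M := ⟨n, hn, hσ⟩
    rw [h, Subgroup.mem_bot] at hM
    subst hM
    exact hσ
  · exfalso
    haveI : Fact (Nat.Prime 7) := ⟨by norm_num⟩
    obtain ⟨x, hx⟩ := exists_prime_orderOf_dvd_card' (G := ↥M24) 7 (by rw [M24_card]; norm_num)
    obtain ⟨n, hn, hnm⟩ : x ∈ M := h ▸ Subgroup.mem_top x
    obtain ⟨k, hk⟩ := hp ⟨n, hn⟩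
    have hpow : ∀ m : ℕ, Moves ((n : ↥Co0) ^ m) ((x : Equiv.Perm GolayPt) ^ m) := fun m => by
      induction m with
      | zero => rw [pow_zero, pow_zero]; exact moves_one
      | succ m ih => rw [pow_succ, pow_succ]; exact ih.mul hnm
    have h1 : (n : ↥Co0) ^ 2 ^ k = 1 := congrArg (fun t : ↥N => ((t : ↥(MulAction.stabilizer ↥Co0 cross0)) : ↥Co0)) hk
    have h2 := hpow (2 ^ k)
    rw [h1] at h2
    have hd : orderOf x ∣ 2 ^ k := orderOf_dvd_of_pow_eq_one (Subtype.ext (h2.unique moves_one))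
    rw [hx] at hd
    exact absurd (Nat.Prime.dvd_of_dvd_pow (by norm_num : Nat.Prime 7) hd) (by norm_num)

theorem permHom_flips {σ : ↥M24} (h : permHom σ ∈ flips) : σ = 1 :=
  Subtype.ext ((moves_permHom σ).unique h)

theorem negCo_flips : negCo ∈ flips := fun i => Or.inr (negCo_smul _)

theorem mem_stab_cross0 {g : ↥Co0} : g • cross0 = cross0 ↔ Cong (g • e8 none) (e8 none) := by
  constructor
  · intro h
    exact (mem_cross0.1 (h.le ⟨e8 none, Or.inl ⟨none, rfl⟩, rfl⟩)).2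
  · intro h
    rw [← classOf_e8, smul_classOf, classOf_congr h]

end Cfsg.Agent.Lib.Leech
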