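import Cfsg.Agent.Lib.Leech.Basic

/-! # Generators of the lattice and a decidable membership test -/

set_option autoImplicit false

namespace Cfsg.Agent.Lib.Leech

open Cfsg Golay

/-- Twice the characteristic vector of a mask. -/
def twoW (m : ℕ) : GolayPt → ℤ := fun p => if m.testBit (ix p) then 2 else 0

/-- An odd vector. -/
def oddVec : GolayPt → ℤ := fun p => if p = none then 5 else 1

/-- The frame vector attached to two points. -/
def frame (i j : GolayPt) : GolayPt → ℤ := fun p => (if p = i then 4 else 0) + (if p = j then 4 else 0)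

/-- Membership test. -/
def check (x : GolayPt → ℤ) : Bool :=
  decide (∀ i, x i % 2 = x none % 2) && decide (((∑ i, x i) - 4 * (x none % 2)) % 8 = 0) &&
    isCode (mask (support₂ fun i => (((x i - x none % 2) / 2 : ℤ) : ZMod 2)))

theorem mem_of_check {x : GolayPt → ℤ} (h : check x = true) : x ∈ leechLattice := by
  simp only [check, Bool.and_eq_true, decide_eq_true_eq] at h
  obtain ⟨⟨h1, h2⟩, h3⟩ := h
  refine mem_iff.2 ⟨x none % 2, fun i => (x i - x none % 2) / 2, Int.emod_two_eq_zero_or_one _, fun i => ?_, ?_, ?_⟩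
  · have := h1 i
    show x i = x none % 2 + 2 * ((x i - x none % 2) / 2)
    omega
  · omega
  · rw [← word_mask fun i => (((x i - x none % 2) / 2 : ℤ) : ZMod 2)]
    exact (word_mem_iff (mask_lt _)).2 h3

theorem oddVec_mem : oddVec ∈ leechLattice := mem_of_check (by decide +kernel)

theorem frame_mem (i j : GolayPt) : frame i j ∈ leechLattice := by
  refine mem_iff.2 ⟨0, fun p => (if p = i then 2 else 0) + (if p = j then 2 else 0), Or.inl rfl, fun p => ?_, ?_, ?_⟩
  · simp only [frame]; split_ifs <;> norm_num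
  · have e : ∀ k : GolayPt, ∑ p, (if p = k then (4 : ℤ) else 0) = 4 := fun k => by simp
    simp only [frame, Finset.sum_add_distrib, e]; norm_num
  · convert Submodule.zero_mem golayCode using 1
    funext p
    simp only [Pi.zero_apply]; split_ifs <;> rfl

theorem twoW_mem : ∀ B ∈ basis, twoW B ∈ leechLattice := by
  intro B hB
  refine mem_of_check ?_
  revert B; decide +kernel

theorem comb_lift (H : AddSubgroup (GolayPt → ℤ)) : ∀ L : List ℕ, (∀ B ∈ L, twoW B ∈ H) → ∀ k : ℕ,
    ∃ h ∈ H, ∀ p, (4 : ℤ) ∣ h p - twoW (comb L k) p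
  | [], _, k => ⟨0, H.zero_mem, fun p => by simp [twoW, comb]⟩
  | B :: bs, hL, k => by
    obtain ⟨h, hh, he⟩ := comb_lift H bs (fun C hC => hL C (List.mem_cons_of_mem _ hC)) (k >>> 1)
    simp only [comb]
    by_cases hk : k &&& 1 = 1
    · refine ⟨twoW B + h, H.add_mem (hL B (by simp)) hh, fun p => ?_⟩
      rw [if_pos hk]
      have := he p
      simp only [twoW, Pi.add_apply, Nat.testBit_xor] at this ⊢
      cases hb : B.testBit (ix p) <;> cases hc : (comb bs (k >>> 1)).testBit (ix p) <;> simp [hc] at this ⊢ <;> omega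
    · exact ⟨h, hh, fun p => by rw [if_neg hk, Nat.zero_xor]; exact he p⟩

/-- Even lattice vectors are generated by the octad vectors and the frame vectors. -/
theorem even_le {H : AddSubgroup (GolayPt → ℤ)} (hbasis : ∀ B ∈ basis, twoW B ∈ H) (hframe : ∀ i, frame i none ∈ H)
    {x : GolayPt → ℤ} (hx : x ∈ leechLattice) (heven : ∀ i, (2 : ℤ) ∣ x i) : x ∈ H := by
  obtain ⟨m, y, hm, hy, -, hw⟩ := mem_iff.1 hx
  obtain rfl : m = 0 := by have := heven none; rw [hy] at this; omega
  obtain ⟨k, -, hk⟩ := mem_code_iff.1 hw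
  obtain ⟨h, hh, he⟩ := comb_lift (H ⊓ leechLattice) basis (fun B hB => ⟨hbasis B hB, twoW_mem B hB⟩) k
  have hd : ∀ p, (4 : ℤ) ∣ (x - h) p := fun p => by
    have h1 := he p
    have h2 := congrFun hk p
    simp only [word] at h2
    simp only [Pi.sub_apply, hy, twoW] at h1 ⊢
    rw [enc] at h2
    cases hb : (comb basis k).testBit (ix p) <;> simp [hb] at h1 h2
    · have := (ZMod.intCast_zmod_eq_zero_iff_dvd (y p) 2).1 h2.symm
      omega
    · have : ¬ (2 : ℤ) ∣ y p := fun e => by
        rw [(ZMod.intCast_zmod_eq_zero_iff_dvd (y p) 2).2 e] at h2; exact one_ne_zero h2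
      omega
  choose z hz using hd
  obtain ⟨m', y', hm', hy', hs', -⟩ := mem_iff.1 (sub_mem hx hh.2 : x - h ∈ leechLattice)
  have hsum : (2 : ℤ) ∣ ∑ p, z p := by
    have h0 := hy' none
    rw [hz] at h0
    obtain rfl : m' = 0 := by omega
    rw [Finset.sum_congr rfl (fun p _ => hz p), ← Finset.mul_sum] at hs'
    omega
  obtain ⟨t, ht⟩ := hsum
  have key : x - h = (∑ p, z p • frame p none) - t • frame none none := by
    funext q
    rw [hz q]
    simp only [Pi.sub_apply, Finset.sum_apply, Pi.smul_apply, smul_eq_mul, frame, mul_add, Finset.sum_add_distrib,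
      mul_ite, mul_zero, Finset.sum_ite_eq, Finset.mem_univ, if_true]
    split_ifs
    · rw [← Finset.sum_mul, ht]; ring
    · simp; ring
  have : x - h ∈ H := key ▸ H.sub_mem (H.sum_mem fun p _ => H.zsmul_mem (hframe p) _) (H.zsmul_mem (hframe none) _)
  simpa using H.add_mem this hh.1

/-- The lattice is generated by one odd vector, twelve octad vectors and the frame vectors. -/
theorem lattice_le {H : AddSubgroup (GolayPt → ℤ)} (hodd : oddVec ∈ H) (hbasis : ∀ B ∈ basis, twoW B ∈ H)
    (hframe : ∀ i, frame i none ∈ H) : leechLattice ≤ H := by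
  suffices ∀ x ∈ leechLattice, (∀ i, (2 : ℤ) ∣ x i) → x ∈ H by
    intro x hx
    obtain ⟨m, y, -, hy, -⟩ := mem_iff.1 hx
    have h1 := this (x - m • oddVec) (sub_mem hx (AddSubgroup.zsmul_mem _ oddVec_mem m)) fun i => by
      simp only [Pi.sub_apply, Pi.smul_apply, smul_eq_mul, hy, oddVec]
      split_ifs <;> omega
    simpa using H.add_mem h1 (H.zsmul_mem hodd m)
  exact fun x hx heven => even_le hbasis hframe hx heven

end Cfsg.Agent.Lib.Leech
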