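import Cfsg.Agent.Lib.Leech.Co3Orbits

/-!
Pairs of vectors of norm 48 with inner product `-32`.
-/

set_option autoImplicit false

namespace Cfsg.Agent.Lib.Leech

open Cfsg Golay

/-- The partner of the standard vector. -/
def fivePartner : ↥leechLattice := ⟨fun p => if p = pt 0 then -5 else -1, mem_of_check (by decide +kernel)⟩

theorem partner_facts : sqNorm (fivePartner : GolayPt → ℤ) = 48 ∧
    dotInt (vFive : GolayPt → ℤ) (fivePartner : GolayPt → ℤ) = -32 ∧
    ∀ p : GolayPt, (fourNeg : GolayPt → ℤ) p = -((vFive : GolayPt → ℤ) p + (fivePartner : GolayPt → ℤ) p) := by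
  refine ⟨?_, ?_, ?_⟩ <;> decide +kernel

theorem fourNeg_eq : fourNeg = -(vFive + fivePartner) := Subtype.ext (funext partner_facts.2.2)

/-- Every such pair has the standard form. -/
theorem std_hs {v w : ↥leechLattice} (hv : sqNorm (v : GolayPt → ℤ) = 48) (hw : sqNorm (w : GolayPt → ℤ) = 48)
    (hvw : dotInt (v : GolayPt → ℤ) (w : GolayPt → ℤ) = -32) :
    ∃ k : ↥Co0, k • v = vFive ∧ k • w = fivePartner := by
  obtain ⟨c, hc⟩ := std_five hv
  have hx : -(c • v + c • w) ∈ dotSet vFive (-16) := by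
    refine ⟨?_, ?_⟩
    · rw [← negCo_smul, Same.sqNorm_eq ⟨negCo, rfl⟩, norm_add', dot_smul, Same.sqNorm_eq (x := v) ⟨c, rfl⟩,
        Same.sqNorm_eq (x := w) ⟨c, rfl⟩, hv, hw, hvw]
      norm_num
    · rw [hc]
      have h1 : dotInt (vFive : GolayPt → ℤ) ((c • w : ↥leechLattice) : GolayPt → ℤ) = -32 := by
        rw [← hc, dot_smul, hvw]
      have h2 : ∑ i, (vFive : GolayPt → ℤ) i * (vFive : GolayPt → ℤ) i = 48 := by
        have := vFive_shape.1
        simpa [sqNorm, pow_two] using this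
      simp only [dotInt] at h1 ⊢
      simp only [AddSubgroup.coe_neg, AddSubgroup.coe_add, Pi.neg_apply, Pi.add_apply, mul_neg, mul_add,
        Finset.sum_neg_distrib, Finset.sum_add_distrib, h1, h2]
      norm_num
  obtain ⟨g, hg, e⟩ := trans_neg hx
  refine ⟨g⁻¹ * c, by rw [mul_smul, hc, inv_smul_eq_iff, hg], ?_⟩
  rw [fourNeg_eq, smul_neg', smul_add', hg, hc] at e
  rw [mul_smul, ← add_left_cancel (neg_injective e), inv_smul_smul]

end Cfsg.Agent.Lib.Leech
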