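import Cfsg.Agent.Lib.Leech.Basic
import Cfsg.Agent.Lib.Leech.Gens
import Cfsg.Agent.Lib.Golay.Action

/-!
Indices of the lattice and of its double.
-/

namespace Cfsg.Agent.Lib.Leech

open Cfsg Golay

/-- Doubling. -/
def dbl : (GolayPt → ℤ) →+ (GolayPt → ℤ) where
  toFun x := fun i => 2 * x i
  map_zero' := by funext i; simp
  map_add' x y := by funext i; simp [mul_add]

/-- Reduction modulo two. -/
def red2 : (GolayPt → ℤ) →+ (GolayPt → ZMod 2) where
  toFun x := fun i => (x i : ZMod 2)
  map_zero' := by funext i; simp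
  map_add' x y := by funext i; simp

theorem dbl_injective : Function.Injective dbl := fun x y h => funext fun i => by
  have : 2 * x i = 2 * y i := congrFun h i
  omega

theorem red2_surjective : Function.Surjective red2 := fun w =>
  ⟨fun i => ((w i).val : ℤ), funext fun i => by
    show (((w i).val : ℤ) : ZMod 2) = w i
    rw [Int.cast_natCast, ZMod.natCast_zmod_val]⟩

theorem range_dbl : dbl.range = red2.ker := by
  ext x
  simp only [AddMonoidHom.mem_range, AddMonoidHom.mem_ker]
  constructor
  · rintro ⟨y, rfl⟩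
    funext i
    show ((2 * y i : ℤ) : ZMod 2) = 0
    rw [ZMod.intCast_zmod_eq_zero_iff_dvd]
    exact dvd_mul_right _ _
  · intro h
    refine ⟨fun i => x i / 2, funext fun i => ?_⟩
    have := (ZMod.intCast_zmod_eq_zero_iff_dvd (x i) 2).1 (congrFun h i)
    show 2 * (x i / 2) = x i
    omega

theorem index_range_dbl : dbl.range.index = 2 ^ 24 := by
  rw [range_dbl, AddSubgroup.index_ker, AddMonoidHom.range_eq_top.2 red2_surjective, AddSubgroup.card_top,
    Nat.card_fun, Nat.card_zmod, Nat.card_eq_fintype_card]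
  rfl

theorem index_map_dbl (H : AddSubgroup (GolayPt → ℤ)) : (H.map dbl).index = H.index * 2 ^ 24 := by
  rw [AddSubgroup.index_map, (AddMonoidHom.ker_eq_bot_iff dbl).2 dbl_injective, sup_bot_eq, index_range_dbl]

/-- The vectors with code-word parities. -/
def parCode : AddSubgroup (GolayPt → ℤ) := golayCode.toAddSubgroup.comap red2

theorem index_parCode : parCode.index = 4096 := by
  rw [parCode, AddSubgroup.index_comap_of_surjective _ red2_surjective]
  have h := AddSubgroup.card_mul_index golayCode.toAddSubgroup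
  rw [Nat.card_fun, Nat.card_zmod, Nat.card_eq_fintype_card (α := GolayPt)] at h
  have : Nat.card ↥golayCode.toAddSubgroup = 4096 := code_card
  rw [this] at h
  have e : (2 : ℕ) ^ Fintype.card GolayPt = 4096 * 4096 := by rw [show Fintype.card GolayPt = 24 from rfl]; norm_num
  rw [e] at h
  omega

/-- Those with coordinate sum divisible by four. -/
def parCode4 : AddSubgroup (GolayPt → ℤ) where
  carrier := {y | y ∈ parCode ∧ (4 : ℤ) ∣ ∑ i, y i}
  zero_mem' := ⟨zero_mem _, by simp⟩
  add_mem' := fun ha hb => ⟨add_mem ha.1 hb.1, by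
    simp only [Pi.add_apply, Finset.sum_add_distrib]; exact dvd_add ha.2 hb.2⟩
  neg_mem' := fun {a} ha => ⟨neg_mem ha.1, by
    rw [Finset.sum_congr rfl (fun i _ => Pi.neg_apply a i), Finset.sum_neg_distrib]; exact dvd_neg.2 ha.2⟩

theorem sum_even_of_parCode {y : GolayPt → ℤ} (h : y ∈ parCode) : (2 : ℤ) ∣ ∑ i, y i := by
  have hc := card_cases (support_mem (show (fun i => (y i : ZMod 2)) ∈ golayCode from h))
  rw [support_cast] at hc
  have hd : ∀ i, (2 : ℤ) ∣ y i - (if ¬ (2 : ℤ) ∣ y i then 1 else 0) := fun i => by split_ifs <;> omega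
  have := Finset.dvd_sum (s := Finset.univ) fun i _ => hd i
  rw [Finset.sum_sub_distrib, Finset.sum_boole] at this
  omega

theorem index_parCode4 : parCode4.index = 2 * 4096 := by
  have hle : parCode4 ≤ parCode := fun y h => h.1
  rw [← AddSubgroup.relIndex_mul_index hle, index_parCode]
  congr 1
  rw [AddSubgroup.relIndex, AddSubgroup.index_eq_two_iff]
  have hmem : (fun i : GolayPt => if i = none then (2 : ℤ) else 0) ∈ parCode := by
    show red2 _ ∈ golayCode
    convert Submodule.zero_mem golayCode using 1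
    funext i
    show ((if i = none then (2 : ℤ) else 0 : ℤ) : ZMod 2) = 0
    split_ifs <;> rfl
  refine ⟨⟨_, hmem⟩, fun b => ?_⟩
  have hb := sum_even_of_parCode b.2
  simp only [AddSubgroup.mem_addSubgroupOf, AddSubgroup.coe_add]
  have h1 : ((b : GolayPt → ℤ) ∈ parCode4) ↔ (4 : ℤ) ∣ ∑ i, (b : GolayPt → ℤ) i := ⟨fun h => h.2, fun h => ⟨b.2, h⟩⟩
  have h2 : ((b : GolayPt → ℤ) + fun i : GolayPt => if i = none then (2 : ℤ) else 0) ∈ parCode4 ↔
      (4 : ℤ) ∣ (∑ i, (b : GolayPt → ℤ) i) + 2 := by
    refine ⟨fun h => ?_, fun h => ⟨add_mem b.2 hmem, ?_⟩⟩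
    · have := h.2
      simp only [Pi.add_apply, Finset.sum_add_distrib, Finset.sum_ite_eq', Finset.mem_univ, if_true] at this
      exact this
    · simp only [Pi.add_apply, Finset.sum_add_distrib, Finset.sum_ite_eq', Finset.mem_univ, if_true]
      exact h
  rw [h1, h2]
  show Xor _ _
  rw [xor_iff_iff_not]
  omega

theorem map_parCode4_le : parCode4.map dbl ≤ leechLattice := by
  rintro _ ⟨y, ⟨hy, h4⟩, rfl⟩
  refine mem_iff.2 ⟨0, y, Or.inl rfl, fun i => (zero_add _).symm, ?_, hy⟩
  show (8 : ℤ) ∣ (∑ i, 2 * y i) - 4 * 0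
  rw [← Finset.mul_sum]
  omega

theorem index_lattice : leechLattice.index = 2 ^ 36 := by
  have h := AddSubgroup.relIndex_mul_index map_parCode4_le
  have h2 : (parCode4.map dbl).relIndex leechLattice = 2 := by
    rw [AddSubgroup.relIndex, AddSubgroup.index_eq_two_iff]
    refine ⟨⟨oddVec, oddVec_mem⟩, fun b => ?_⟩
    simp only [AddSubgroup.mem_addSubgroupOf, AddSubgroup.coe_add]
    have key : ∀ x ∈ leechLattice, (x ∈ parCode4.map dbl ↔ x none % 2 = 0) := by
      intro x hx
      constructor
      · rintro ⟨y, -, rfl⟩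
        show (2 * y none) % 2 = 0
        omega
      · intro h0
        obtain ⟨m, y, hm, hy, hs, hw⟩ := mem_iff.1 hx
        obtain rfl : m = 0 := by have := hy none; omega
        refine ⟨y, ⟨hw, ?_⟩, funext fun i => ?_⟩
        · rw [Finset.sum_congr rfl (fun i _ => hy i), Finset.sum_add_distrib, ← Finset.mul_sum] at hs
          rw [Finset.sum_const, smul_zero, zero_add, mul_zero, sub_zero] at hs
          omega
        · show 2 * y i = x i
          rw [hy i]; ring
    rw [key _ b.2, key _ (add_mem b.2 oddVec_mem)]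
    show Xor _ _
    rw [xor_iff_iff_not]
    simp only [Pi.add_apply, show oddVec none = 5 from rfl]
    omega
  rw [h2, index_map_dbl, index_parCode4] at h
  norm_num at h ⊢
  omega

/-- Twice the lattice, inside the lattice. -/
def twoLattice : AddSubgroup ↥leechLattice := (leechLattice.map dbl).addSubgroupOf leechLattice

theorem index_twoLattice : twoLattice.index = 2 ^ 24 := by
  have hle : leechLattice.map dbl ≤ leechLattice := by
    rintro _ ⟨y, hy, rfl⟩
    rw [show dbl y = y + y from funext fun i => two_mul _]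
    exact add_mem hy hy
  have h := AddSubgroup.relIndex_mul_index hle
  rw [index_map_dbl, index_lattice, mul_comm] at h
  exact Nat.eq_of_mul_eq_mul_left (by norm_num) h

theorem mk_eq_iff {x y : ↥leechLattice} :
    (QuotientAddGroup.mk x : ↥leechLattice ⧸ twoLattice) = QuotientAddGroup.mk y ↔
      ∃ z ∈ leechLattice, (x : GolayPt → ℤ) - y = 2 • z := by
  rw [QuotientAddGroup.eq_iff_sub_mem, twoLattice, AddSubgroup.mem_addSubgroupOf, AddSubgroup.mem_map]
  refine ⟨fun ⟨z, hz, e⟩ => ⟨z, hz, ?_⟩, fun ⟨z, hz, e⟩ => ⟨z, hz, ?_⟩⟩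
  · rw [← AddSubgroup.coe_sub, ← e]
    funext i
    show 2 * z i = (2 : ℕ) • z i
    simp
  · rw [AddSubgroup.coe_sub, e]
    funext i
    show 2 * z i = (2 : ℕ) • z i
    simp

end Cfsg.Agent.Lib.Leech
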