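import Mathlib

/-!
An element of prime order acting without fixed points on a normal subgroup.
-/

set_option autoImplicit false

namespace Cfsg.Agent.Lib.Leech

open scoped Pointwise

/-- The parts of a normal subgroup on which an element of prime order acts without fixed points. -/
theorem part_one {H : Type*} [Group H] [Finite H] {s : H} {l : ℕ} [hl : Fact l.Prime] (hs : orderOf s = l)
    (hfac : (Nat.card H).factorization l = 1)
    (N : Subgroup H) [N.Normal] (hN : ¬ l ∣ Nat.card N) (hfix : ∀ x ∈ N, x * s = s * x → x = 1)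
    (q : ℕ) [hq : Fact q.Prime] : q ^ (Nat.card N).factorization q % l = 1 := by
  classical
  obtain ⟨P0⟩ : Nonempty (Sylow q ↥N) := inferInstance
  let Q0 : Subgroup H := (P0 : Subgroup ↥N).map N.subtype
  have hQ0 : Nat.card Q0 = q ^ (Nat.card N).factorization q := by
    rw [Nat.card_congr ((P0 : Subgroup ↥N).equivMapOfInjective N.subtype N.subtype_injective).toEquiv.symm, P0.card_eq_multiplicity]
  -- an element of order l normalizing the Sylow subgroup
  have hdvd : l ∣ Nat.card ↥(Subgroup.normalizer (Q0 : Set H)) := by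
    have hsup := Sylow.normalizer_sup_eq_top P0
    have hdvdH : l ∣ Nat.card H := hs ▸ orderOf_dvd_natCard s
    haveI : (N.subgroupOf (Subgroup.normalizer (Q0 : Set H))).Normal := inferInstance
    have hidx : l ∣ N.index := by
      have h1 := Subgroup.card_mul_index N
      rw [← h1] at hdvdH
      exact ((Nat.Prime.dvd_mul hl.out).1 hdvdH).resolve_left hN
    have e := Subgroup.relIndex_sup_right (Subgroup.normalizer (Q0 : Set H)) N
    rw [hsup, Subgroup.relIndex_top_right] at e
    rw [e] at hidx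
    exact hidx.trans ((N.subgroupOf (Subgroup.normalizer (Q0 : Set H))).index_dvd_card)
  obtain ⟨τ, hτ⟩ := exists_prime_orderOf_dvd_card' (G := ↥(Subgroup.normalizer (Q0 : Set H))) l hdvd
  have hτ' : orderOf (τ : H) = l := (Subgroup.orderOf_coe τ).trans hτ
  let Pt : Sylow l H := Sylow.ofCard (Subgroup.zpowers (τ : H)) (by rw [Nat.card_zpowers, hτ', hfac, pow_one])
  let Ps : Sylow l H := Sylow.ofCard (Subgroup.zpowers s) (by rw [Nat.card_zpowers, hs, hfac, pow_one])
  obtain ⟨k, hk⟩ := MulAction.exists_smul_eq H Pt Ps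
  have hsmem : s ∈ (MulAut.conj k) • Subgroup.zpowers (τ : H) := by
    have h1 : ((k • Pt : Sylow l H) : Subgroup H) = Subgroup.zpowers s := by rw [hk]; rfl
    have h2 : ((k • Pt : Sylow l H) : Subgroup H) = (MulAut.conj k) • Subgroup.zpowers (τ : H) := rfl
    rw [← h2, h1]; exact Subgroup.mem_zpowers s
  obtain ⟨t, ht, hts⟩ := hsmem
  have htn : t ∈ Subgroup.normalizer (Q0 : Set H) :=
    (Subgroup.zpowers_le.2 τ.2 : Subgroup.zpowers (τ : H) ≤ _) ht
  let Q : Subgroup H := Q0.map (MulAut.conj k).toMonoidHom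
  have hsQ : ∀ x ∈ Q, s * x * s⁻¹ ∈ Q := by
    rintro _ ⟨x, hx, rfl⟩
    refine ⟨t * x * t⁻¹, (Subgroup.mem_normalizer_iff.1 htn x).1 hx, ?_⟩
    rw [← hts]
    show k * (t * x * t⁻¹) * k⁻¹ = (k * t * k⁻¹) * (k * x * k⁻¹) * (k * t * k⁻¹)⁻¹
    group
  have hQN : Q ≤ N := by
    rintro _ ⟨_, ⟨x, -, rfl⟩, rfl⟩
    exact (inferInstance : N.Normal).conj_mem _ x.2 k
  have hQc : Nat.card Q = q ^ (Nat.card N).factorization q := by
    rw [Subgroup.card_map_of_injective (MulAut.conj k).injective, hQ0]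
  -- count fixed points
  let P := Subgroup.zpowers s
  have hPn : ∀ g ∈ P, ∀ x ∈ Q, g * x * g⁻¹ ∈ Q := by
    intro g hg x hx
    have hsn : s ∈ Subgroup.normalizer (Q : Set H) := by
      refine Subgroup.mem_normalizer_iff.2 fun y => ⟨hsQ y, fun hy => ?_⟩
      have key : ∀ n : ℕ, s ^ n * (s * y * s⁻¹) * (s ^ n)⁻¹ ∈ Q := fun n => by
        induction n with
        | zero => simpa using hy
        | succ n ih =>
          have := hsQ _ ih
          rwa [show s * (s ^ n * (s * y * s⁻¹) * (s ^ n)⁻¹) * s⁻¹ = s ^ (n + 1) * (s * y * s⁻¹) * (s ^ (n + 1))⁻¹ by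
            rw [pow_succ']; group] at this
      have hlast := key (l - 1)
      have hpow : s ^ (l - 1) * s = 1 := by
        rw [← pow_succ, Nat.sub_add_cancel hl.out.one_le]; exact orderOf_dvd_iff_pow_eq_one.1 (dvd_of_eq hs)
      rwa [show s ^ (l - 1) * (s * y * s⁻¹) * (s ^ (l - 1))⁻¹ = (s ^ (l - 1) * s) * y * (s ^ (l - 1) * s)⁻¹ by group, hpow, one_mul,
        inv_one, mul_one] at hlast
    exact (Subgroup.mem_normalizer_iff.1 ((Subgroup.zpowers_le.2 hsn : P ≤ _) hg) x).1 hx
  letI : MulAction ↥P ↥Q :=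
    { smul := fun g x => ⟨g * x * g⁻¹, hPn g g.2 x x.2⟩
      one_smul := fun x => Subtype.ext (by show ((1 : ↥P) : H) * x * ((1 : ↥P) : H)⁻¹ = x; simp)
      mul_smul := fun g g' x => Subtype.ext (by
        show ((g * g' : ↥P) : H) * x * ((g * g' : ↥P) : H)⁻¹ = g * (g' * x * g'⁻¹) * g⁻¹
        simp [mul_assoc]) }
  have hP : IsPGroup l ↥P := IsPGroup.of_card (n := 1) (by rw [Nat.card_zpowers, hs, pow_one])
  have hmod := hP.card_modEq_card_fixedPoints ↥Q
  have hfp : Nat.card (MulAction.fixedPoints ↥P ↥Q) = 1 := by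
    rw [Nat.card_eq_one_iff_unique]
    refine ⟨⟨fun x y => ?_⟩, ⟨⟨1, fun g => Subtype.ext (by show (g : H) * ((1 : ↥Q) : H) * (g : H)⁻¹ = _; simp)⟩⟩⟩
    have triv : ∀ z : MulAction.fixedPoints ↥P ↥Q, ((z : ↥Q) : H) = 1 := fun z => by
      have h1 : s * ((z : ↥Q) : H) * s⁻¹ = ((z : ↥Q) : H) :=
        congrArg Subtype.val (z.2 ⟨s, Subgroup.mem_zpowers s⟩)
      exact hfix _ (hQN (z : ↥Q).2) (mul_inv_eq_iff_eq_mul.1 h1).symm
    exact Subtype.ext (Subtype.ext ((triv x).trans (triv y).symm))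
  rw [hQc, hfp] at hmod
  rw [show q ^ (Nat.card N).factorization q % l = 1 % l from hmod, Nat.mod_eq_of_lt hl.out.one_lt]

theorem mem_of_dvd {H : Type*} [Group H] [Finite H] {s : H} {l : ℕ} [hl : Fact l.Prime] (hs : orderOf s = l)
    (hfac : (Nat.card H).factorization l = 1) (N : Subgroup H) [N.Normal] (hN : l ∣ Nat.card N) :
    s ∈ N ∧ ∀ g : H, ∃ n ∈ N, (g * n)⁻¹ * s * (g * n) ∈ Subgroup.zpowers s := by
  have hsN : s ∈ N := by
    obtain ⟨τ, hτ⟩ := exists_prime_orderOf_dvd_card' (G := ↥N) l hN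
    have hτ' : orderOf (τ : H) = l := (Subgroup.orderOf_coe τ).trans hτ
    let Pt : Sylow l H := Sylow.ofCard (Subgroup.zpowers (τ : H)) (by rw [Nat.card_zpowers, hτ', hfac, pow_one])
    let Ps : Sylow l H := Sylow.ofCard (Subgroup.zpowers s) (by rw [Nat.card_zpowers, hs, hfac, pow_one])
    obtain ⟨k, hk⟩ := MulAction.exists_smul_eq H Pt Ps
    have h1 : ((k • Pt : Sylow l H) : Subgroup H) = Subgroup.zpowers s := by rw [hk]; rfl
    have h2 : ((k • Pt : Sylow l H) : Subgroup H) = (MulAut.conj k) • Subgroup.zpowers (τ : H) := rfl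
    have hsm : s ∈ (MulAut.conj k) • Subgroup.zpowers (τ : H) := by rw [← h2, h1]; exact Subgroup.mem_zpowers s
    obtain ⟨t, ht, hts⟩ := hsm
    rw [← hts]
    exact (inferInstance : N.Normal).conj_mem t ((Subgroup.zpowers_le.2 τ.2 : Subgroup.zpowers (τ : H) ≤ N) ht) k
  refine ⟨hsN, fun g => ?_⟩
  have hle : Subgroup.zpowers s ≤ N := Subgroup.zpowers_le.2 hsN
  have hN1 : (Nat.card N).factorization l = 1 := by
    have h1 : 1 ≤ (Nat.card N).factorization l := hl.out.factorization_pos_of_dvd Nat.card_pos.ne' hN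
    have h2 := (Nat.factorization_le_iff_dvd Nat.card_pos.ne' Nat.card_pos.ne').2 (Subgroup.card_subgroup_dvd_card N) l
    omega
  let P : Sylow l ↥N := Sylow.ofCard ((Subgroup.zpowers s).subgroupOf N)
    (by rw [Nat.card_congr (Subgroup.subgroupOfEquivOfLe hle).toEquiv, Nat.card_zpowers, hs, hN1, pow_one])
  have hsup := Sylow.normalizer_sup_eq_top P
  rw [show ((P : Subgroup ↥N)).map N.subtype = Subgroup.zpowers s from Subgroup.map_subgroupOf_eq_of_le hle] at hsup
  have hg : g ∈ ((Subgroup.normalizer (Subgroup.zpowers s : Set H) ⊔ N : Subgroup H) : Set H) := by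
    rw [hsup]; exact Subgroup.mem_top g
  rw [Subgroup.mul_normal, Set.mem_mul] at hg
  obtain ⟨a, ha, b, hb, rfl⟩ := hg
  refine ⟨b⁻¹, inv_mem hb, ?_⟩
  rw [show a * b * b⁻¹ = a by group]
  exact (Subgroup.mem_normalizer_iff''.1 ha s).1 (Subgroup.mem_zpowers s)

/-- A group with a simple subgroup containing the normalizer of a cyclic Sylow subgroup. -/
theorem simple_of_core {H K : Type*} [Group H] [Group K] [Finite H] [IsSimpleGroup K] (j : K →* H)
    (hinj : Function.Injective j) {t : K} {l : ℕ} [hl : Fact l.Prime] (ht : orderOf t = l)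
    (hfac : (Nat.card H).factorization l = 1)
    (hnorm : ∀ x : H, x⁻¹ * j t * x ∈ Subgroup.zpowers (j t) → x ∈ j.range)
    (hidx : ∀ d q k : ℕ, q.Prime → d * Nat.card K ∣ Nat.card H → q ^ k ∣ d → q ^ k % l = 1 → k = 0) :
    IsSimpleGroup H := by
  have hs : orderOf (j t) = l := (orderOf_injective j hinj t).trans ht
  haveI : Nontrivial H := ⟨⟨j t, 1, fun e => by rw [e, orderOf_one] at hs; exact hl.out.one_lt.ne hs⟩⟩
  refine ⟨fun N hN => ?_⟩
  haveI := hN
  haveI : (N.comap j).Normal := hN.comap j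
  by_cases hd : l ∣ Nat.card N
  · right
    obtain ⟨htN, hfr⟩ := mem_of_dvd hs hfac N hd
    have htop : N.comap j = ⊤ := by
      refine (inferInstance : (N.comap j).Normal).eq_bot_or_eq_top.resolve_left fun h => ?_
      have hm : t ∈ N.comap j := htN
      rw [h, Subgroup.mem_bot] at hm
      rw [hm, orderOf_one] at ht
      exact hl.out.one_lt.ne ht
    refine eq_top_iff.2 fun g _ => ?_
    obtain ⟨m, hm, hgm⟩ := hfr g
    obtain ⟨y, hy⟩ := hnorm _ hgm
    have hyN : j y ∈ N := (htop ▸ Subgroup.mem_top y : y ∈ N.comap j)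
    rw [hy] at hyN
    simpa using mul_mem hyN (inv_mem hm)
  · left
    have hbot : N.comap j = ⊥ := by
      refine (inferInstance : (N.comap j).Normal).eq_bot_or_eq_top.resolve_right fun h => hd ?_
      have hm : j t ∈ N := (h ▸ Subgroup.mem_top t : t ∈ N.comap j)
      have := orderOf_dvd_natCard (⟨j t, hm⟩ : ↥N)
      rwa [Subgroup.orderOf_mk, hs] at this
    have hfix : ∀ x ∈ N, x * j t = j t * x → x = 1 := by
      intro x hx hxs
      obtain ⟨y, rfl⟩ := hnorm x (by rw [mul_assoc, ← hxs, inv_mul_cancel_left]; exact Subgroup.mem_zpowers _)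
      have hy : y ∈ N.comap j := hx
      rw [hbot, Subgroup.mem_bot] at hy
      rw [hy, map_one]
    have hprod : Nat.card N * Nat.card K ∣ Nat.card H := by
      have hdis : Disjoint N j.range := by
        rw [disjoint_iff, eq_bot_iff]
        rintro x ⟨hx, y, rfl⟩
        have hy : y ∈ N.comap j := hx
        rw [hbot, Subgroup.mem_bot] at hy
        rw [hy, map_one]; exact Subgroup.one_mem _
      have h1 : N.relIndex j.range = Nat.card j.range := by
        rw [← Subgroup.relIndex_bot_left, ← Subgroup.inf_relIndex_right, disjoint_iff.1 hdis]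
      have h2 : N.relIndex j.range ∣ N.index := Subgroup.relIndex_dvd_index_of_normal N j.range
      rw [h1, ← Nat.card_congr (MonoidHom.ofInjective hinj).toEquiv] at h2
      exact (Nat.mul_dvd_mul_left _ h2).trans (Subgroup.card_mul_index N).dvd
    refine Subgroup.eq_bot_of_card_eq N (Nat.eq_one_iff_not_exists_prime_dvd.2 fun q hq hqd => ?_)
    haveI := Fact.mk hq
    have h := hidx (Nat.card N) q _ hq hprod (Nat.ordProj_dvd _ q) (part_one hs hfac N hd hfix q)
    exact absurd h (hq.factorization_pos_of_dvd Nat.card_pos.ne' hqd).ne'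

end Cfsg.Agent.Lib.Leech
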