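import Cfsg.Agent.Lib.Leech.HigmanSims
import Cfsg.Agent.Lib.Leech.PrimeTricks
import Cfsg.Agent.Lib.Golay.Mathieu

/-!
The joint stabilizers of two vectors: orders and simplicity.
-/

set_option autoImplicit false

namespace Cfsg.Agent.Lib.Leech

open Cfsg Golay
open scoped Pointwise

/-- The element of order 11 fixing two points, coded. -/
def t11code : ℕ := 965825821203350869786747403083897376

theorem t11_valid : inM24 t11code = true := by decide +kernel

theorem t11_facts : (imgPt t11code none = none) ∧ (imgPt t11code (pt 0) = pt 0) ∧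
    (∀ p : GolayPt, (imgPt t11code)^[11] p = p) ∧ imgPt t11code (pt 1) ≠ pt 1 ∧
    ((List.range 11).map (fun k => (imgPt t11code)^[k] (pt 1)) ++ (List.range 11).map (fun k => (imgPt t11code)^[k] (pt 6)) ++
      [none, pt 0]).Nodup ∧
    ((List.range 11).map (fun k => (imgPt t11code)^[k] (pt 1)) ++ (List.range 11).map (fun k => (imgPt t11code)^[k] (pt 6)) ++
      [none, pt 0]).toFinset = Finset.univ := by
  refine ⟨?_, ?_, ?_, ?_, ?_, ?_⟩ <;> decide +kernel

/-- The element of order 11 among the permutations fixing two points. -/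
noncomputable def t11 : ↥(st2 none (pt 0)) :=
  ⟨toPerm t11code, ⟨⟨toPerm_mem_M24 t11_valid, MulAction.mem_stabilizer_iff.2
    ((toPerm_apply (valid_of_inM24 t11_valid) none).trans t11_facts.1)⟩, MulAction.mem_stabilizer_iff.2
    ((toPerm_apply (valid_of_inM24 t11_valid) (pt 0)).trans t11_facts.2.1)⟩⟩

theorem t11_pow (k : ℕ) (p : GolayPt) : ((toPerm t11code) ^ k) p = (imgPt t11code)^[k] p := by
  induction k with
  | zero => rfl
  | succ k ih =>
    rw [pow_succ', Equiv.Perm.mul_apply, ih, Function.iterate_succ_apply', toPerm_apply (valid_of_inM24 t11_valid)]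
    rfl

theorem orderOf_t11 : orderOf t11 = 11 := by
  haveI : Fact (Nat.Prime 11) := ⟨by norm_num⟩
  rw [← Subgroup.orderOf_coe]
  refine orderOf_eq_prime (Equiv.Perm.ext fun p => ?_) fun e => t11_facts.2.2.2.1 ?_
  · rw [show ((t11 : ↥(st2 none (pt 0))) : Equiv.Perm GolayPt) = toPerm t11code from rfl, t11_pow, t11_facts.2.2.1]; rfl
  · show imgPt t11code (pt 1) = pt 1
    have := t11_pow 1 (pt 1)
    rw [pow_one, show toPerm t11code = 1 from e, Function.iterate_one] at this
    exact this.symm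

/-- The permutations fixing two points. -/
noncomputable def permTwo : ↥(st2 none (pt 0)) →* ↥Co0 :=
  permHom.comp (Subgroup.inclusion (inf_le_left.trans inf_le_left : st2 none (pt 0) ≤ M24))

theorem permTwo_injective : Function.Injective permTwo := fun x y e => by
  have h1 : permTwo (y⁻¹ * x) = 1 := by rw [map_mul, map_inv, e, inv_mul_cancel]
  have h2 := permHom_flips (σ := Subgroup.inclusion (inf_le_left.trans inf_le_left : st2 none (pt 0) ≤ M24) (y⁻¹ * x))
    (show permTwo (y⁻¹ * x) ∈ flips from h1 ▸ Subgroup.one_mem _)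
  exact (inv_mul_eq_one.1 (Subgroup.inclusion_injective _ (h2.trans (map_one _).symm))).symm

theorem permTwo_fix {x : ↥leechLattice} {a b c : ℤ}
    (h : ∀ p, (x : GolayPt → ℤ) p = if p = none then a else if p = pt 0 then b else c) (σ : ↥(st2 none (pt 0))) :
    permTwo σ • x = x := by
  refine Subtype.ext (funext fun p => ?_)
  show (x : GolayPt → ℤ) ((σ : Equiv.Perm GolayPt).symm p) = _
  have h1 : (σ : Equiv.Perm GolayPt) none = none := σ.2.1.2
  have h2 : (σ : Equiv.Perm GolayPt) (pt 0) = pt 0 := σ.2.2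
  rw [h, h]
  simp only [Equiv.symm_apply_eq, h1, h2]

theorem shapes : (∀ p, (vFive : GolayPt → ℤ) p = if p = none then 5 else if p = pt 0 then 1 else 1) ∧
    (∀ p, (fivePartner : GolayPt → ℤ) p = if p = none then -1 else if p = pt 0 then -5 else -1) ∧
    (∀ p, (fourFour : GolayPt → ℤ) p = if p = none then 4 else if p = pt 0 then 4 else 0) ∧
    (∀ p, (fourNeg : GolayPt → ℤ) p = if p = none then -4 else if p = pt 0 then 4 else 0) := by
  refine ⟨?_, ?_, ?_, ?_⟩ <;> decide +kernel

/-- A vector fixed by the element of order 11 with two prescribed inner products. -/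
theorem fixed_eleven (y : ↥leechLattice) (hy : permTwo t11 • y = y) (hn : sqNorm (y : GolayPt → ℤ) = 64)
    (hd : dotInt (vFive : GolayPt → ℤ) (y : GolayPt → ℤ) = 40)
    (hd2 : dotInt (fourFour : GolayPt → ℤ) (y : GolayPt → ℤ) = 32 ∨ dotInt (fourNeg : GolayPt → ℤ) (y : GolayPt → ℤ) = -32) :
    y = e8 none := by
  classical
  have hstep : ∀ p, (y : GolayPt → ℤ) (imgPt t11code p) = (y : GolayPt → ℤ) p := fun p => by
    have h := congrArg (fun t : ↥leechLattice => (t : GolayPt → ℤ) (toPerm t11code p)) hy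
    change (y : GolayPt → ℤ) ((toPerm t11code).symm (toPerm t11code p)) = _ at h
    rw [Equiv.symm_apply_apply, toPerm_apply (valid_of_inM24 t11_valid)] at h
    exact h.symm
  have hit : ∀ (k : ℕ) (p : GolayPt), (y : GolayPt → ℤ) ((imgPt t11code)^[k] p) = (y : GolayPt → ℤ) p := fun k => by
    induction k with
    | zero => exact fun p => rfl
    | succ k ih => intro p; rw [Function.iterate_succ_apply', hstep, ih]
  obtain ⟨c, hc⟩ : ∃ c, (y : GolayPt → ℤ) (pt 1) = c := ⟨_, rfl⟩
  obtain ⟨d, hdd⟩ : ∃ d, (y : GolayPt → ℤ) (pt 6) = d := ⟨_, rfl⟩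
  obtain ⟨a, ha⟩ : ∃ a, (y : GolayPt → ℤ) none = a := ⟨_, rfl⟩
  obtain ⟨b, hb⟩ : ∃ b, (y : GolayPt → ℤ) (pt 0) = b := ⟨_, rfl⟩
  have hsum : ∀ F : GolayPt → ℤ, (∀ p, F (imgPt t11code p) = F p) → ∑ p, F p = 11 * F (pt 1) + 11 * F (pt 6) + F none + F (pt 0) := by
    intro F hF
    have hF' : ∀ (k : ℕ) (p : GolayPt), F ((imgPt t11code)^[k] p) = F p := fun k => by
      induction k with
      | zero => exact fun p => rfl
      | succ k ih => intro p; rw [Function.iterate_succ_apply', hF, ih]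
    rw [← t11_facts.2.2.2.2.2, List.sum_toFinset _ t11_facts.2.2.2.2.1]
    simp only [List.map_append, List.map_map, List.map_cons, List.map_nil, List.sum_append, List.sum_cons, List.sum_nil, Function.comp_def]
    rw [List.map_congr_left (g := fun _ => F (pt 1)) fun k _ => hF' k _,
      List.map_congr_left (g := fun _ => F (pt 6)) fun k _ => hF' k _]
    simp only [List.map_const', List.sum_replicate, List.length_range, nsmul_eq_mul]
    push_cast; ring
  have hN := hsum (fun p => (y : GolayPt → ℤ) p ^ 2) (fun p => by rw [hstep])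
  rw [show ∑ p, (y : GolayPt → ℤ) p ^ 2 = 64 from hn, hc, hdd, ha, hb] at hN
  have t1 : imgPt t11code none = none := t11_facts.1
  have t2 : imgPt t11code (pt 0) = pt 0 := t11_facts.2.1
  have hinj : Function.Injective (imgPt t11code) := (imgPt_bijective (valid_of_inM24 t11_valid)).1
  have hD : ∀ (x : ↥leechLattice) (a' b' c' : ℤ),
      (∀ p, (x : GolayPt → ℤ) p = if p = none then a' else if p = pt 0 then b' else c') →
      dotInt (x : GolayPt → ℤ) (y : GolayPt → ℤ) = 11 * (c' * c) + 11 * (c' * d) + a' * a + b' * b := by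
    intro x a' b' c' hx
    rw [dotInt, hsum (fun p => (x : GolayPt → ℤ) p * (y : GolayPt → ℤ) p) (fun p => by
      have e1 : imgPt t11code p = none ↔ p = none := ⟨fun e => hinj (e.trans t1.symm), fun e => e ▸ t1⟩
      have e2 : imgPt t11code p = pt 0 ↔ p = pt 0 := ⟨fun e => hinj (e.trans t2.symm), fun e => e ▸ t2⟩
      rw [hstep, hx, hx]; simp only [e1, e2]), hc, hdd, ha, hb, hx, hx, hx, hx]
    rw [if_neg (by decide : pt 1 ≠ none), if_neg (by decide : pt 1 ≠ pt 0), if_neg (by decide : pt 6 ≠ none),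
      if_neg (by decide : pt 6 ≠ pt 0), if_pos rfl, if_neg (by decide : pt 0 ≠ none), if_pos rfl]
  rw [hD _ _ _ _ shapes.1] at hd
  rw [hD _ _ _ _ shapes.2.2.1, hD _ _ _ _ shapes.2.2.2] at hd2
  have hb1 : -8 ≤ a ∧ a ≤ 8 := by constructor <;> nlinarith
  have hb2 : -8 ≤ b ∧ b ≤ 8 := by constructor <;> nlinarith
  have ha8 : a = 8 ∧ b = 0 := by rcases hd2 with h | h <;> omega
  obtain ⟨rfl, rfl⟩ := ha8
  have hc0 : c = 0 := by nlinarith
  have hd0 : d = 0 := by nlinarith
  refine Subtype.ext (funext fun p => ?_)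
  have hmem : p ∈ ((List.range 11).map (fun k => (imgPt t11code)^[k] (pt 1)) ++
      (List.range 11).map (fun k => (imgPt t11code)^[k] (pt 6)) ++ [none, pt 0]).toFinset := by
    rw [t11_facts.2.2.2.2.2]; exact Finset.mem_univ p
  rw [coe_e8]
  by_cases hp : p = none
  · subst hp; rw [ha, Pi.single_eq_same]
  · rw [Pi.single_eq_of_ne hp]
    simp only [List.mem_toFinset, List.mem_append, List.mem_map, List.mem_cons, List.not_mem_nil, or_false] at hmem
    rcases hmem with (⟨k, -, rfl⟩ | ⟨k, -, rfl⟩) | h | h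
    · rw [hit, hc, hc0]
    · rw [hit, hdd, hd0]
    · exact absurd h hp
    · rw [h, hb]

/-- The stabilizer of the standard vector and a second vector. -/
def pairStab (x : ↥leechLattice) : Subgroup ↥Co0 := MulAction.stabilizer ↥Co0 vFive ⊓ MulAction.stabilizer ↥Co0 x

theorem permTwo_mem {x : ↥leechLattice} {a b c : ℤ}
    (h : ∀ p, (x : GolayPt → ℤ) p = if p = none then a else if p = pt 0 then b else c) (σ : ↥(st2 none (pt 0))) :
    permTwo σ ∈ pairStab x := ⟨permTwo_fix shapes.1 σ, permTwo_fix h σ⟩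

/-- The monomial elements of the stabilizer. -/
theorem mono_two {x : ↥leechLattice} (hx : x = fourFour ∨ x = fourNeg) {g : ↥Co0} (hg : g ∈ pairStab x)
    (hc : g • cross0 = cross0) : ∃ σ, permTwo σ = g := by
  obtain ⟨τ, h0, rfl⟩ := mono_fix (v := vFive) (a := 5) (by norm_num)
    ((shapes.1 none).trans (if_pos rfl)) (fun i hi => by rw [shapes.1 i, if_neg hi]; exact ite_self _) hc hg.1
  have h := congrArg (fun t : ↥leechLattice => (t : GolayPt → ℤ) ((τ : Equiv.Perm GolayPt) (pt 0))) hg.2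
  change (x : GolayPt → ℤ) ((τ : Equiv.Perm GolayPt).symm ((τ : Equiv.Perm GolayPt) (pt 0))) = _ at h
  rw [Equiv.symm_apply_apply] at h
  have hp : (τ : Equiv.Perm GolayPt) (pt 0) = pt 0 := by
    by_contra hne
    have hne2 : (τ : Equiv.Perm GolayPt) (pt 0) ≠ none := fun e => absurd (τ.1.injective (e.trans h0.symm)) (by decide)
    rcases hx with rfl | rfl
    · rw [shapes.2.2.1, shapes.2.2.1, if_neg (by decide : pt 0 ≠ none), if_pos rfl, if_neg hne2, if_neg hne] at h; norm_num at h
    · rw [shapes.2.2.2, shapes.2.2.2, if_neg (by decide : pt 0 ≠ none), if_pos rfl, if_neg hne2, if_neg hne] at h; norm_num at h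
  exact ⟨⟨τ, ⟨⟨τ.2, h0⟩, hp⟩⟩, rfl⟩

theorem card_pairStab (x : ↥leechLattice) {k : ℤ} {n : ℕ} (hx : x ∈ dotSet vFive k) (hn : (dotSet vFive k).ncard = n)
    (htr : ∀ y ∈ dotSet vFive k, ∃ g : ↥Co0, g • vFive = vFive ∧ g • x = y) :
    Nat.card (pairStab x) * n = 495766656000 := by
  set K := MulAction.stabilizer ↥Co0 vFive
  have horb : MulAction.orbit ↥K x = dotSet vFive k := by
    ext y
    constructor
    · rintro ⟨g, rfl⟩; exact smul_dotSet (g : ↥Co0) g.2 hx
    · intro hy
      obtain ⟨g, hg, e⟩ := htr y hy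
      exact ⟨⟨g, hg⟩, e⟩
  have h := Subgroup.card_mul_index (MulAction.stabilizer ↥K x)
  rw [MulAction.index_stabilizer, horb, hn, co3_simple.2] at h
  rw [← h]
  congr 1
  refine Nat.card_congr
    { toFun := fun g => ⟨⟨g, g.2.1⟩, g.2.2⟩
      invFun := fun g => ⟨g, g.1.2, g.2⟩
      left_inv := fun _ => rfl
      right_inv := fun _ => rfl }

theorem pair_simple {x : ↥leechLattice} (hx : x = fourFour ∨ x = fourNeg) {m : ℕ}
    (hm : Nat.card (pairStab x) = 443520 * m) (h11 : ¬ 11 ∣ m)
    (hq : ∀ q k : ℕ, q.Prime → q ^ k ∣ m → q ^ k % 11 = 1 → k = 0) : IsSimpleGroup (pairStab x) := by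
  haveI : Finite ↥Co0 := Nat.finite_of_card_ne_zero (by rw [card_Co0]; norm_num)
  haveI : Fact (Nat.Prime 11) := ⟨by norm_num⟩
  haveI := st2_simple (show (none : GolayPt) ≠ pt 0 by decide)
  have hfix : ∀ σ, permTwo σ ∈ pairStab x := by
    rcases hx with rfl | rfl
    · exact permTwo_mem shapes.2.2.1
    · exact permTwo_mem shapes.2.2.2
  let j : ↥(st2 none (pt 0)) →* ↥(pairStab x) := permTwo.codRestrict _ hfix
  refine simple_of_core j (fun a b e => permTwo_injective (congrArg Subtype.val e)) orderOf_t11 ?_ ?_ ?_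
  · rw [hm, show 443520 = 11 * 40320 by norm_num, mul_assoc, Nat.factorization_mul (by norm_num) ?_, Finsupp.add_apply,
      (by norm_num : Nat.Prime 11).factorization_self, Nat.factorization_eq_zero_of_not_dvd]
    · exact fun h => h11 ((Nat.Coprime.dvd_of_dvd_mul_left (by norm_num) h))
    · intro h
      rcases mul_eq_zero.1 h with e | e
      · norm_num at e
      · exact h11 (e ▸ dvd_zero _)
  · intro g hg
    have hc : (g : ↥Co0) • cross0 = cross0 := by
      refine mem_stab_cross0.2 ?_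
      obtain ⟨k, hk⟩ := Subgroup.mem_zpowers_iff.1 hg
      have h1 : (g : ↥Co0)⁻¹ * permTwo t11 * g = permTwo t11 ^ k := (congrArg Subtype.val hk).symm
      have hfe : permTwo t11 • e8 none = e8 none := permTwo_fix (a := 8) (b := 0) (c := 0)
        (fun p => by rw [coe_e8, Pi.single_apply]; split_ifs <;> rfl) t11
      have h2 : permTwo t11 • (g : ↥Co0) • e8 none = (g : ↥Co0) • e8 none := by
        have : ((g : ↥Co0)⁻¹ * permTwo t11 * g) • e8 none = e8 none := by
          rw [h1]
          exact (MulAction.stabilizer ↥Co0 (e8 none)).zpow_mem (MulAction.mem_stabilizer_iff.2 hfe) k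
        rwa [mul_smul, mul_smul, inv_smul_eq_iff] at this
      have he : ∀ (z : ↥leechLattice) (a' b' c' : ℤ),
          (∀ p, (z : GolayPt → ℤ) p = if p = none then a' else if p = pt 0 then b' else c') → (g : ↥Co0) • z = z →
          dotInt (z : GolayPt → ℤ) (((g : ↥Co0) • e8 none : ↥leechLattice) : GolayPt → ℤ) = 8 * a' := fun z a' b' c' hz hgz => by
        conv_lhs => rw [← hgz]
        rw [dot_smul, dotInt, coe_e8, Finset.sum_eq_single none (fun p _ hp => by rw [Pi.single_eq_of_ne hp, mul_zero])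
          (fun h => absurd (Finset.mem_univ _) h), Pi.single_eq_same, hz, if_pos rfl, mul_comm]
      rw [fixed_eleven _ h2 ((Same.sqNorm_eq ⟨(g : ↥Co0), rfl⟩).trans (sqNorm_e8 none))
        ((he _ _ _ _ shapes.1 g.2.1).trans (by norm_num)) ?_]
      · exact Cong.refl _
      · rcases hx with rfl | rfl
        · exact Or.inl ((he _ _ _ _ shapes.2.2.1 g.2.2).trans (by norm_num))
        · exact Or.inr ((he _ _ _ _ shapes.2.2.2 g.2.2).trans (by norm_num))
    obtain ⟨σ, hσ⟩ := mono_two hx g.2 hc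
    exact ⟨σ, Subtype.ext hσ⟩
  · intro d q k hqp hd hqd hmod
    rw [hm, st2_card (show (none : GolayPt) ≠ pt 0 by decide), mul_comm 443520 m] at hd
    exact hq q k hqp (hqd.trans (Nat.dvd_of_mul_dvd_mul_right (by norm_num) hd)) hmod

theorem hs_simple : IsSimpleGroup (pairStab fourNeg) ∧ Nat.card (pairStab fourNeg) = 44352000 := by
  have h := card_pairStab fourNeg ⟨start_facts.2.2.2.2.2.1, start_facts.2.2.2.2.2.2.1⟩ ncard_dotSet_five.2 fun y hy => trans_neg hy
  have hc : Nat.card (pairStab fourNeg) = 44352000 :=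
    Nat.eq_of_mul_eq_mul_right (Nat.succ_pos 11177) (h.trans (by norm_num))
  refine ⟨pair_simple (Or.inr rfl) (m := 100) (hc.trans (by norm_num)) (by norm_num) fun q k hq hqd hmod => ?_, hc⟩
  rcases Nat.eq_zero_or_pos k with hk | hk
  · exact hk
  have hq1 : q ∣ 2 ^ 2 * 5 ^ 2 := (dvd_pow_self q hk.ne').trans hqd
  have hk2 : k ≤ 7 := by
    by_contra hh
    have := Nat.le_of_dvd (by norm_num) ((pow_dvd_pow q (show 8 ≤ k by omega)).trans hqd)
    have := Nat.pow_le_pow_left hq.two_le 8
    omega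
  rcases (Nat.Prime.dvd_mul hq).1 hq1 with h' | h'
  · obtain rfl := (Nat.prime_dvd_prime_iff_eq hq Nat.prime_two).1 (hq.dvd_of_dvd_pow h')
    interval_cases k <;> first | (norm_num at hmod; done) | (norm_num at hqd; done)
  · obtain rfl := (Nat.prime_dvd_prime_iff_eq hq (by norm_num : Nat.Prime 5)).1 (hq.dvd_of_dvd_pow h')
    interval_cases k <;> first | (norm_num at hmod; done) | (norm_num at hqd; done)

theorem mcl_simple : IsSimpleGroup (pairStab fourFour) ∧ Nat.card (pairStab fourFour) = 898128000 := by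
  have h := card_pairStab fourFour ⟨start_facts.2.2.2.1, start_facts.2.2.2.2.1⟩ ncard_dotSet_five.1 fun y hy => trans_pair hy
  have hc : Nat.card (pairStab fourFour) = 898128000 :=
    Nat.eq_of_mul_eq_mul_right (Nat.succ_pos 551) (h.trans (by norm_num))
  refine ⟨pair_simple (Or.inl rfl) (m := 2025) (hc.trans (by norm_num)) (by norm_num) fun q k hq hqd hmod => ?_, hc⟩
  rcases Nat.eq_zero_or_pos k with hk | hk
  · exact hk
  have hq1 : q ∣ 3 ^ 4 * 5 ^ 2 := (dvd_pow_self q hk.ne').trans hqd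
  have hk2 : k ≤ 11 := by
    by_contra hh
    have := Nat.le_of_dvd (by norm_num) ((pow_dvd_pow q (show 12 ≤ k by omega)).trans hqd)
    have := Nat.pow_le_pow_left hq.two_le 12
    omega
  rcases (Nat.Prime.dvd_mul hq).1 hq1 with h' | h'
  · obtain rfl := (Nat.prime_dvd_prime_iff_eq hq Nat.prime_three).1 (hq.dvd_of_dvd_pow h')
    interval_cases k <;> first | (norm_num at hmod; done) | (norm_num at hqd; done)
  · obtain rfl := (Nat.prime_dvd_prime_iff_eq hq (by norm_num : Nat.Prime 5)).1 (hq.dvd_of_dvd_pow h')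
    interval_cases k <;> first | (norm_num at hmod; done) | (norm_num at hqd; done)

/-- Joint stabilizers of corresponding pairs. -/
def pairConj (k : ↥Co0) {a b a' b' : ↥leechLattice} (ha : k • a = a') (hb : k • b = b') :
    ↥(MulAction.stabilizer ↥Co0 a ⊓ MulAction.stabilizer ↥Co0 b) ≃*
      ↥(MulAction.stabilizer ↥Co0 a' ⊓ MulAction.stabilizer ↥Co0 b') where
  toFun g := ⟨k * g * k⁻¹, by
    refine ⟨MulAction.mem_stabilizer_iff.2 ?_, MulAction.mem_stabilizer_iff.2 ?_⟩
    · rw [← ha, mul_smul, mul_smul, inv_smul_smul, MulAction.mem_stabilizer_iff.1 g.2.1]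
    · rw [← hb, mul_smul, mul_smul, inv_smul_smul, MulAction.mem_stabilizer_iff.1 g.2.2]⟩
  invFun g := ⟨k⁻¹ * g * k, by
    refine ⟨MulAction.mem_stabilizer_iff.2 ?_, MulAction.mem_stabilizer_iff.2 ?_⟩
    · rw [mul_smul, mul_smul, ha, MulAction.mem_stabilizer_iff.1 g.2.1, ← ha, inv_smul_smul]
    · rw [mul_smul, mul_smul, hb, MulAction.mem_stabilizer_iff.1 g.2.2, ← hb, inv_smul_smul]⟩
  left_inv g := Subtype.ext (by show k⁻¹ * (k * g * k⁻¹) * k = g; group)
  right_inv g := Subtype.ext (by show k * (k⁻¹ * g * k) * k⁻¹ = g; group)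
  map_mul' g h := Subtype.ext (by show k * (g * h) * k⁻¹ = (k * g * k⁻¹) * (k * h * k⁻¹); group)

theorem inf_stab_add (a b : ↥leechLattice) : MulAction.stabilizer ↥Co0 a ⊓ MulAction.stabilizer ↥Co0 b =
    MulAction.stabilizer ↥Co0 (a + b) ⊓ MulAction.stabilizer ↥Co0 a := by
  ext g
  simp only [Subgroup.mem_inf, MulAction.mem_stabilizer_iff, smul_add']
  constructor
  · rintro ⟨h1, h2⟩; exact ⟨by rw [h1, h2], h1⟩
  · rintro ⟨h1, h2⟩; exact ⟨h2, by rw [h2] at h1; exact add_left_cancel h1⟩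

theorem pairStab_fourNeg : pairStab fourNeg = MulAction.stabilizer ↥Co0 vFive ⊓ MulAction.stabilizer ↥Co0 fivePartner := by
  ext g
  simp only [pairStab, Subgroup.mem_inf, MulAction.mem_stabilizer_iff, fourNeg_eq, smul_neg', smul_add']
  constructor
  · rintro ⟨h1, h2⟩; exact ⟨h1, by rw [h1] at h2; exact add_left_cancel (neg_injective h2)⟩
  · rintro ⟨h1, h2⟩; exact ⟨h1, by rw [h1, h2]⟩

end Cfsg.Agent.Lib.Leech
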