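import Cfsg.Agent.Lib.Leech.Co2Core

/-!
Pairs of minimal vectors with a given inner product.
-/

set_option autoImplicit false

namespace Cfsg.Agent.Lib.Leech

open Cfsg Golay
open scoped Pointwise

theorem norm_add' (v w : ↥leechLattice) : sqNorm ((v + w : ↥leechLattice) : GolayPt → ℤ) =
    sqNorm (v : GolayPt → ℤ) + sqNorm (w : GolayPt → ℤ) + 2 * dotInt (v : GolayPt → ℤ) (w : GolayPt → ℤ) := by
  simp only [sqNorm, dotInt, AddSubgroup.coe_add, Pi.add_apply, Finset.mul_sum, ← Finset.sum_add_distrib]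
  exact Finset.sum_congr rfl fun i _ => by ring

theorem dot_smul (g : ↥Co0) (v w : ↥leechLattice) :
    dotInt ((g • v : ↥leechLattice) : GolayPt → ℤ) ((g • w : ↥leechLattice) : GolayPt → ℤ) =
      dotInt (v : GolayPt → ℤ) (w : GolayPt → ℤ) := by
  have h1 := norm_add' (g • v) (g • w)
  rw [← smul_add', Same.sqNorm_eq (x := v + w) ⟨g, rfl⟩, Same.sqNorm_eq (x := v) ⟨g, rfl⟩,
    Same.sqNorm_eq (x := w) ⟨g, rfl⟩, norm_add'] at h1
  omega

theorem uVec_dot (w : GolayPt → ℤ) : dotInt (uVec : GolayPt → ℤ) w = 4 * w (pt 13) - 4 * w (pt 18) := by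
  classical
  have hab := uVec_facts.2.2.1
  have e : ∀ p, (uVec : GolayPt → ℤ) p * w p =
      (if p = pt 13 then 4 * w p else 0) + (if p = pt 18 then -4 * w p else 0) := fun p => by
    rw [uVec_apply]
    by_cases h1 : p = pt 13
    · subst h1; simp [hab]
    · by_cases h2 : p = pt 18 <;> simp [h1, h2, Ne.symm hab]
  simp only [dotInt, e, Finset.sum_add_distrib, Finset.sum_ite_eq', Finset.mem_univ, if_true]
  ring

theorem tetrad_one : Finset.univ.filter (fun q => tid q = 1) = ({pt 13, pt 18, pt 20, pt 21} : Finset GolayPt) ∧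
    tid (pt 13) = 1 ∧ tid (pt 18) = 1 ∧ tid (pt 20) = 1 ∧
    pt 13 ≠ pt 20 ∧ pt 13 ≠ pt 21 ∧ pt 18 ≠ pt 20 ∧ pt 18 ≠ pt 21 ∧ pt 20 ≠ pt 21 := by
  refine ⟨?_, ?_, ?_, ?_, ?_, ?_, ?_, ?_, ?_⟩ <;> decide +kernel

/-- An isometry fixing the minimal vector, made from the sextet map. -/
theorem xi_move (w : ↥leechLattice) {c d : GolayPt} (hcd : c ≠ d) (hc1 : c ≠ pt 13) (hc2 : c ≠ pt 18)
    (hd1 : d ≠ pt 13) (hd2 : d ≠ pt 18) :
    ∃ g : ↥Co0, g • uVec = uVec ∧ ∀ S, S = (w : GolayPt → ℤ) (pt 13) + (w : GolayPt → ℤ) (pt 18) + (w : GolayPt → ℤ) c + (w : GolayPt → ℤ) d →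
      ((g • w : ↥leechLattice) : GolayPt → ℤ) (pt 13) = (w : GolayPt → ℤ) (pt 13) - S / 2 ∧
      ((g • w : ↥leechLattice) : GolayPt → ℤ) (pt 18) = (w : GolayPt → ℤ) (pt 18) - S / 2 ∧
      ((g • w : ↥leechLattice) : GolayPt → ℤ) (pt 20) = (w : GolayPt → ℤ) c - S / 2 := by
  have hab := uVec_facts.2.2.1
  obtain ⟨hT, t13, t18, t20, n1, n2, n3, n4, n5⟩ := tetrad_one
  obtain ⟨σ, hσ, hσm⟩ := exists_M24_map (k := 4) (by norm_num) ![pt 13, pt 18, pt 20, pt 21] ![pt 13, pt 18, c, d]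
    (by intro a b; fin_cases a <;> fin_cases b <;>
          simp [hab, Ne.symm hab, n1, Ne.symm n1, n2, Ne.symm n2, n3, Ne.symm n3, n4, Ne.symm n4, n5, Ne.symm n5])
    (by intro a b; fin_cases a <;> fin_cases b <;>
          simp [hab, Ne.symm hab, hcd, Ne.symm hcd, hc1, Ne.symm hc1, hc2, Ne.symm hc2, hd1, Ne.symm hd1, hd2, Ne.symm hd2])
  have s13 : σ (pt 13) = pt 13 := hσm 0
  have s18 : σ (pt 18) = pt 18 := hσm 1
  have s20 : σ (pt 20) = c := hσm 2
  have s21 : σ (pt 21) = d := hσm 3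
  refine ⟨xiCo * permCo σ hσ, ?_, fun S hS => ?_⟩
  · have h1 : permCo σ hσ • uVec = uVec := Subtype.ext (funext fun p => by
      show (uVec : GolayPt → ℤ) (σ p) = _
      rw [uVec_apply, uVec_apply]
      have a1 : σ p = pt 13 ↔ p = pt 13 := ⟨fun e => σ.injective (e.trans s13.symm), fun e => e ▸ s13⟩
      have a2 : σ p = pt 18 ↔ p = pt 18 := ⟨fun e => σ.injective (e.trans s18.symm), fun e => e ▸ s18⟩
      simp only [a1, a2])
    rw [mul_smul, h1]
    exact Subtype.ext uVec_facts.2.1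
  · have hsum : tsum ((permCo σ hσ • w : ↥leechLattice) : GolayPt → ℤ) 1 = S := by
      rw [tsum, hT, coe_permCo, Finset.sum_insert (by simp [hab, n1, n2]), Finset.sum_insert (by simp [n3, n4]),
        Finset.sum_pair n5, hS]
      simp only [s13, s18, s20, s21]; ring
    have key : ∀ p, tid p = 1 → (((xiCo * permCo σ hσ) • w : ↥leechLattice) : GolayPt → ℤ) p = (w : GolayPt → ℤ) (σ p) - S / 2 := by
      intro p hp
      rw [mul_smul, coe_xiCo, tsum_eq_of_sextet _ 1 p hp, if_neg (by decide), one_mul, hsum]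
      rfl
    exact ⟨by rw [key _ t13, s13], by rw [key _ t18, s18], by rw [key _ t20, s20]⟩

theorem univ_code : (Finset.univ : Finset GolayPt) ∈ codeSets := ⟨1, one_mem, by simp [support₂]⟩

/-- Exchange of the two points. -/
theorem swap_move (w : ↥leechLattice) : ∃ g : ↥Co0, g • uVec = uVec ∧
    ((g • w : ↥leechLattice) : GolayPt → ℤ) (pt 13) = -(w : GolayPt → ℤ) (pt 18) ∧
    ((g • w : ↥leechLattice) : GolayPt → ℤ) (pt 18) = -(w : GolayPt → ℤ) (pt 13) := by
  have hab := uVec_facts.2.2.1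
  obtain ⟨σ, hσ, h1, h2⟩ := M24_trans_pairs hab hab.symm
  refine ⟨flipCo _ univ_code * permCo σ hσ, Subtype.ext (funext fun p => ?_), ?_, ?_⟩
  · rw [mul_smul]
    show (if p ∈ (Finset.univ : Finset GolayPt) then -(uVec : GolayPt → ℤ) (σ p) else (uVec : GolayPt → ℤ) (σ p)) = _
    rw [if_pos (Finset.mem_univ _), uVec_apply, uVec_apply]
    by_cases a : p = pt 13
    · subst a; rw [h1, if_neg hab.symm, if_pos rfl, if_pos rfl]; norm_num
    · by_cases b : p = pt 18
      · subst b; rw [h2, if_pos rfl, if_neg hab.symm, if_pos rfl]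
      · rw [if_neg a, if_neg b, if_neg (fun e => b (σ.injective (e.trans h2.symm))),
          if_neg (fun e => a (σ.injective (e.trans h1.symm)))]
        norm_num
  · rw [mul_smul]
    show (if pt 13 ∈ (Finset.univ : Finset GolayPt) then -(w : GolayPt → ℤ) (σ (pt 13)) else (w : GolayPt → ℤ) (σ (pt 13))) = _
    rw [if_pos (Finset.mem_univ _), h1]
  · rw [mul_smul]
    show (if pt 18 ∈ (Finset.univ : Finset GolayPt) then -(w : GolayPt → ℤ) (σ (pt 18)) else (w : GolayPt → ℤ) (σ (pt 18))) = _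
    rw [if_pos (Finset.mem_univ _), h2]

/-- The normal odd vector with special point `p`. -/
def oddAt (p : GolayPt) : GolayPt → ℤ := fun i => if i = p then -3 else 1

theorem odd_form (w : ↥leechLattice) (hn : sqNorm (w : GolayPt → ℤ) = 32) (hodd : ∀ i, (w : GolayPt → ℤ) i % 2 = 1) :
    ∃ (D : Finset GolayPt) (_ : D ∈ codeSets) (p : GolayPt),
      ∀ i, (w : GolayPt → ℤ) i = if i ∈ D then -oddAt p i else oddAt p i := by
  obtain ⟨m, t, hm, ht, -, hc⟩ := mem_iff.1 w.2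
  obtain rfl : m = 1 := by have := hodd none; rw [ht] at this; omega
  have hs := support_mem hc
  set D := support₂ (fun j => (t j : ZMod 2)) with hD
  have hD' : ∀ i, i ∈ D ↔ ¬ (2 : ℤ) ∣ t i := fun i => by simp [hD, support_cast]
  have hn' := (Same.sqNorm_eq (x := w) ⟨flipCo D hs, rfl⟩).trans hn
  set y0 := flipCo D hs • w with hy0
  obtain ⟨h1, h2⟩ := normal_values (x := y0) (fun i => by
    show (if i ∈ D then -(w : GolayPt → ℤ) i else (w : GolayPt → ℤ) i) % 4 = 1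
    have := ht i; have := hD' i
    split_ifs <;> simp_all <;> omega) (by omega)
  rw [hn'] at h2
  have hA : (posOf y0 (-3)).card = 1 := by omega
  have hB : (posOf y0 5).card = 0 := by omega
  obtain ⟨p, hp⟩ := Finset.card_eq_one.1 hA
  refine ⟨D, hs, p, fun i => ?_⟩
  have e1 : i ∈ posOf y0 (-3) ↔ i = p := by rw [hp, Finset.mem_singleton]
  have e2 : i ∉ posOf y0 5 := by rw [Finset.card_eq_zero.1 hB]; exact Finset.notMem_empty i
  have h := h1 i
  simp only [posOf, Finset.mem_filter, Finset.mem_univ, true_and] at e1 e2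
  change (if i ∈ D then -(w : GolayPt → ℤ) i else (w : GolayPt → ℤ) i) = -3 ↔ i = p at e1
  change ¬ (if i ∈ D then -(w : GolayPt → ℤ) i else (w : GolayPt → ℤ) i) = 5 at e2
  change (if i ∈ D then -(w : GolayPt → ℤ) i else (w : GolayPt → ℤ) i) = 1 ∨
    (if i ∈ D then -(w : GolayPt → ℤ) i else (w : GolayPt → ℤ) i) = -3 ∨
    (if i ∈ D then -(w : GolayPt → ℤ) i else (w : GolayPt → ℤ) i) = 5 at h
  unfold oddAt
  by_cases hip : i = p
  · have e1' := e1.2 hip
    rw [if_pos hip]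
    split_ifs at h e1' e2 ⊢ <;> omega
  · have e1' := mt e1.1 hip
    rw [if_neg hip]
    split_ifs at h e1' e2 ⊢ <;> omega

theorem odd_of_one (w : ↥leechLattice) {i : GolayPt} (h : (w : GolayPt → ℤ) i % 2 = 1) :
    ∀ j, (w : GolayPt → ℤ) j % 2 = 1 := fun j => by
  obtain ⟨m, t, hm, ht, -, -⟩ := mem_iff.1 w.2
  have := ht i; have := ht j
  omega

theorem four_big {x : GolayPt → ℤ} {N : ℤ} (hn : sqNorm x = N) {T : Finset GolayPt} {b : ℤ} (hT : ∀ i ∈ T, b ≤ x i ^ 2) :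
    (T.card : ℤ) * b ≤ N := by
  have h1 := Finset.sum_le_sum (f := fun _ => b) (g := fun i => x i ^ 2) hT
  rw [Finset.sum_const, nsmul_eq_mul] at h1
  have h2 : ∑ i ∈ T, x i ^ 2 ≤ sqNorm x :=
    Finset.sum_le_sum_of_subset_of_nonneg (Finset.subset_univ T) fun i _ _ => sq_nonneg _
  omega

theorem exists_outside_two (T : Finset GolayPt) (h : T.card ≤ 20) :
    ∃ c d, c ≠ d ∧ c ∉ T ∧ d ∉ T ∧ c ≠ pt 13 ∧ c ≠ pt 18 ∧ d ≠ pt 13 ∧ d ≠ pt 18 := by
  classical
  have h2 : 1 < (Finset.univ \ (T ∪ {pt 13, pt 18})).card := by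
    rw [Finset.card_sdiff, Finset.inter_univ, Finset.card_univ, show Fintype.card GolayPt = 24 from rfl]
    have := Finset.card_union_le T {pt 13, pt 18}
    have := Finset.card_le_two (a := pt 13) (b := pt 18)
    omega
  obtain ⟨c, hc, d, hd, hcd⟩ := Finset.one_lt_card.1 h2
  simp only [Finset.mem_sdiff, Finset.mem_univ, true_and, Finset.mem_union, Finset.mem_insert, Finset.mem_singleton, not_or] at hc hd
  exact ⟨c, d, hcd, hc.1, hd.1, hc.2.1, hc.2.2, hd.2.1, hd.2.2⟩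

/-- An even vector not divisible by four, with admissible inner product, becomes odd. -/
theorem even_step (w : ↥leechLattice) (hn : sqNorm (w : GolayPt → ℤ) = 32) (heven : ∀ i, (w : GolayPt → ℤ) i % 2 = 0)
    {i0 : GolayPt} (h0 : (w : GolayPt → ℤ) i0 % 4 = 2)
    (hk : dotInt (uVec : GolayPt → ℤ) (w : GolayPt → ℤ) = -16 ∨ dotInt (uVec : GolayPt → ℤ) (w : GolayPt → ℤ) = -8) :
    ∃ g : ↥Co0, g • uVec = uVec ∧ ∀ i, ((g • w : ↥leechLattice) : GolayPt → ℤ) i % 2 = 1 := by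
  classical
  obtain ⟨m, t, hm, ht, -, hc⟩ := mem_iff.1 w.2
  obtain rfl : m = 0 := by have := ht none; have := heven none; omega
  have hwt := card_cases (support_mem hc)
  rw [support_cast] at hwt
  set D := Finset.univ.filter fun i => ¬ (2 : ℤ) ∣ t i with hD
  have hD' : ∀ i, i ∈ D ↔ (w : GolayPt → ℤ) i % 4 = 2 := fun i => by
    simp only [hD, Finset.mem_filter, Finset.mem_univ, true_and]
    have := ht i; omega
  have h8 : D.card ≤ 8 := by
    have := four_big hn (T := D) (b := 4) fun i hi => by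
      have := (hD' i).1 hi
      rcases (show (w : GolayPt → ℤ) i ≤ -2 ∨ 2 ≤ (w : GolayPt → ℤ) i by omega) with h | h <;> nlinarith
    omega
  have hpos : 0 < D.card := Finset.card_pos.2 ⟨i0, (hD' i0).2 h0⟩
  rw [uVec_dot] at hk
  obtain ⟨c, d, hcd, hS, hc1, hc2, hd1, hd2⟩ : ∃ c d, c ≠ d ∧
      (((w : GolayPt → ℤ) (pt 13) + (w : GolayPt → ℤ) (pt 18) + (w : GolayPt → ℤ) c + (w : GolayPt → ℤ) d) % 4 = 2) ∧
      c ≠ pt 13 ∧ c ≠ pt 18 ∧ d ≠ pt 13 ∧ d ≠ pt 18 := by
    obtain ⟨p, q, hpq, hp, hq, a1, a2, a3, a4⟩ := exists_outside_two D (by omega)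
    rw [hD'] at hp hq
    have := heven p; have := heven q; have := heven (pt 13); have := heven (pt 18)
    rcases hk with hk | hk
    · obtain ⟨c, hc⟩ : ∃ c, c ∈ D \ {pt 13, pt 18} := by
        refine Finset.card_pos.1 ?_
        have := Finset.le_card_sdiff ({pt 13, pt 18} : Finset GolayPt) D
        have := Finset.card_le_two (a := pt 13) (b := pt 18)
        omega
      simp only [Finset.mem_sdiff, hD', Finset.mem_insert, Finset.mem_singleton, not_or] at hc
      exact ⟨c, p, fun e => hp (e ▸ hc.1), by omega, hc.2.1, hc.2.2, a1, a2⟩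
    · exact ⟨p, q, hpq, by omega, a1, a2, a3, a4⟩
  obtain ⟨g, hg, hgv⟩ := xi_move w hcd hc1 hc2 hd1 hd2
  obtain ⟨e13, -, -⟩ := hgv _ rfl
  refine ⟨g, hg, odd_of_one _ (i := pt 13) ?_⟩
  have := heven (pt 13)
  omega

/-- Every vector with admissible inner product becomes odd. -/
theorem to_odd_dot (w : ↥leechLattice) (hn : sqNorm (w : GolayPt → ℤ) = 32)
    (hk : dotInt (uVec : GolayPt → ℤ) (w : GolayPt → ℤ) = -16 ∨ dotInt (uVec : GolayPt → ℤ) (w : GolayPt → ℤ) = -8) :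
    ∃ g : ↥Co0, g • uVec = uVec ∧ ∀ i, ((g • w : ↥leechLattice) : GolayPt → ℤ) i % 2 = 1 := by
  classical
  by_cases hodd : ∃ i, (w : GolayPt → ℤ) i % 2 = 1
  · obtain ⟨i, hi⟩ := hodd
    exact ⟨1, one_smul _ _, fun j => by rw [one_smul]; exact odd_of_one w hi j⟩
  push Not at hodd
  have heven : ∀ i, (w : GolayPt → ℤ) i % 2 = 0 := fun i => by have := hodd i; omega
  by_cases h2 : ∃ i, (w : GolayPt → ℤ) i % 4 = 2
  · obtain ⟨i, hi⟩ := h2
    exact even_step w hn heven hi hk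
  push Not at h2
  have h4 : ∀ i, (w : GolayPt → ℤ) i % 4 = 0 := fun i => by have := h2 i; have := heven i; omega
  have hk' := hk
  rw [uVec_dot] at hk'
  let N := Finset.univ.filter fun i => (w : GolayPt → ℤ) i % 8 ≠ 0
  have hN : N.card ≤ 2 := by
    have := four_big hn (T := N) (b := 16) fun i hi => by
      have := (Finset.mem_filter.1 hi).2; have := h4 i
      rcases (show (w : GolayPt → ℤ) i ≤ -4 ∨ 4 ≤ (w : GolayPt → ℤ) i by omega) with h | h <;> nlinarith
    omega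
  obtain ⟨p, q, hpq, hp, hq, a1, a2, a3, a4⟩ := exists_outside_two N (by omega)
  simp only [N, Finset.mem_filter, Finset.mem_univ, true_and, not_not] at hp hq
  obtain ⟨g, hg, hgv⟩ := xi_move w hpq a1 a2 a3 a4
  obtain ⟨e13, -, -⟩ := hgv _ rfl
  have := h4 (pt 13); have := h4 (pt 18)
  have hn' := (Same.sqNorm_eq (x := w) ⟨g, rfl⟩).trans hn
  have hd := dot_smul g uVec w
  rw [hg] at hd
  have h13 : ((g • w : ↥leechLattice) : GolayPt → ℤ) (pt 13) % 4 = 2 := by omega
  obtain ⟨g', hg', h'⟩ := even_step (g • w) hn' (fun i => by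
    obtain ⟨m, t, hm, ht, -, -⟩ := mem_iff.1 (g • w).2
    have := ht i; have := ht (pt 13); omega) h13 (by rw [hd]; exact hk)
  exact ⟨g' * g, by rw [mul_smul, hg, hg'], fun i => by rw [mul_smul]; exact h' i⟩

theorem oddAt_code_ne {D : Finset GolayPt} (hD : D ∈ codeSets) (h : D.card = 1 ∨ D.card = 2 ∨ D.card = 22 ∨ D.card = 23) : False := by
  have := card_cases hD; omega

/-- Pairs with inner product `-16`. -/
theorem trans_sixteen {w : ↥leechLattice} (hn : sqNorm (w : GolayPt → ℤ) = 32)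
    (hk : dotInt (uVec : GolayPt → ℤ) (w : GolayPt → ℤ) = -16) :
    ∃ g : ↥Co0, g • uVec = uVec ∧ ((g • w : ↥leechLattice) : GolayPt → ℤ) = oddAt (pt 13) := by
  classical
  have hab := uVec_facts.2.2.1
  obtain ⟨g, hg, hodd⟩ := to_odd_dot w hn (Or.inl hk)
  have main : ∀ x : ↥leechLattice, sqNorm (x : GolayPt → ℤ) = 32 → (∀ i, (x : GolayPt → ℤ) i % 2 = 1) →
      (x : GolayPt → ℤ) (pt 13) = -3 → (x : GolayPt → ℤ) (pt 18) = 1 →
      ∃ h : ↥Co0, h • uVec = uVec ∧ ((h • x : ↥leechLattice) : GolayPt → ℤ) = oddAt (pt 13) := by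
    intro x hx hxo hx13 hx18
    obtain ⟨D, hD, p, hform⟩ := odd_form x hx hxo
    have e13 := hform (pt 13); have e18 := hform (pt 18)
    obtain rfl : p = pt 13 := by
      by_contra hne
      rw [hx13, oddAt, if_neg (Ne.symm hne)] at e13
      split_ifs at e13 <;> omega
    rw [hx13, oddAt, if_pos rfl] at e13
    rw [hx18, oddAt, if_neg hab.symm] at e18
    have n13 : pt 13 ∉ D := fun h => by rw [if_pos h] at e13; omega
    have n18 : pt 18 ∉ D := fun h => by rw [if_pos h] at e18; omega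
    refine ⟨flipCo D hD, Subtype.ext (funext fun i => ?_), funext fun i => ?_⟩
    · show (if i ∈ D then -(uVec : GolayPt → ℤ) i else (uVec : GolayPt → ℤ) i) = _
      rw [uVec_apply]
      split_ifs with h h1 h2 <;> first | rfl | (subst h1; exact absurd h n13) | (subst h2; exact absurd h n18)
    · show (if i ∈ D then -(x : GolayPt → ℤ) i else (x : GolayPt → ℤ) i) = _
      rw [hform i]; split_ifs <;> simp
  set x := g • w with hx'
  have hx : sqNorm (x : GolayPt → ℤ) = 32 := (Same.sqNorm_eq ⟨g, rfl⟩).trans hn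
  have hd := dot_smul g uVec w
  rw [hg, hk, uVec_dot, ← hx'] at hd
  obtain ⟨D, -, p, hform⟩ := odd_form x hx hodd
  have e13 := hform (pt 13); have e18 := hform (pt 18)
  simp only [oddAt] at e13 e18
  by_cases hp : (x : GolayPt → ℤ) (pt 13) = -3
  · obtain ⟨h, hh, hhx⟩ := main x hx hodd hp (by omega)
    exact ⟨h * g, by rw [mul_smul, hg, hh], by rw [mul_smul]; exact hhx⟩
  · have hb : (x : GolayPt → ℤ) (pt 13) = -1 ∧ (x : GolayPt → ℤ) (pt 18) = 3 := by
      split_ifs at e13 e18 <;> omega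
    obtain ⟨s, hs, s13, s18⟩ := swap_move x
    obtain ⟨h, hh, hhx⟩ := main (s • x) ((Same.sqNorm_eq ⟨s, rfl⟩).trans hx)
      (odd_of_one _ (i := pt 13) (by omega)) (by omega) (by omega)
    exact ⟨h * (s * g), by rw [mul_smul, mul_smul, hg, hs, hh], by rw [mul_smul, mul_smul]; exact hhx⟩

/-- Pairs with inner product `-8`: the regular form. -/
theorem to_regular {w : ↥leechLattice} (hn : sqNorm (w : GolayPt → ℤ) = 32)
    (hk : dotInt (uVec : GolayPt → ℤ) (w : GolayPt → ℤ) = -8) :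
    ∃ g : ↥Co0, g • uVec = uVec ∧ (∀ i, ((g • w : ↥leechLattice) : GolayPt → ℤ) i % 2 = 1) ∧
      ((g • w : ↥leechLattice) : GolayPt → ℤ) (pt 13) = -1 ∧ ((g • w : ↥leechLattice) : GolayPt → ℤ) (pt 18) = 1 := by
  classical
  have hab := uVec_facts.2.2.1
  obtain ⟨g, hg, hodd⟩ := to_odd_dot w hn (Or.inr hk)
  set x := g • w with hx'
  have hx : sqNorm (x : GolayPt → ℤ) = 32 := (Same.sqNorm_eq ⟨g, rfl⟩).trans hn
  have hd := dot_smul g uVec w
  rw [hg, hk, uVec_dot, ← hx'] at hd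
  -- the special point at the first position
  have main : ∀ y : ↥leechLattice, sqNorm (y : GolayPt → ℤ) = 32 → (∀ i, (y : GolayPt → ℤ) i % 2 = 1) →
      (y : GolayPt → ℤ) (pt 13) = -3 → (y : GolayPt → ℤ) (pt 18) = -1 →
      ∃ h : ↥Co0, h • uVec = uVec ∧ (∀ i, ((h • y : ↥leechLattice) : GolayPt → ℤ) i % 2 = 1) ∧
        ((h • y : ↥leechLattice) : GolayPt → ℤ) (pt 13) = -1 ∧ ((h • y : ↥leechLattice) : GolayPt → ℤ) (pt 18) = 1 := by
    intro y hy hyo hy13 hy18
    obtain ⟨D, hD, p, hform⟩ := odd_form y hy hyo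
    have e13 := hform (pt 13)
    obtain rfl : p = pt 13 := by
      by_contra hne
      rw [hy13, oddAt, if_neg (Ne.symm hne)] at e13
      split_ifs at e13 <;> omega
    have n13 : pt 13 ∉ D := fun h => by rw [hy13, oddAt, if_pos rfl, if_pos h] at e13; omega
    have m18 : pt 18 ∈ D := by
      by_contra h
      have e18 := hform (pt 18)
      rw [hy18, oddAt, if_neg hab.symm, if_neg h] at e18
      omega
    obtain ⟨c, hc, d, hd'⟩ : ∃ c, (c ∈ D ∧ c ≠ pt 18) ∧ ∃ d, (d ∉ D ∧ d ≠ pt 13) := by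
      have hcases := card_cases hD
      have hpos : 0 < D.card := Finset.card_pos.2 ⟨_, m18⟩
      have hlt : D.card < 24 := by
        rw [show (24 : ℕ) = (Finset.univ : Finset GolayPt).card from rfl]
        exact Finset.card_lt_card (Finset.ssubset_univ_iff.2 fun e => n13 (e ▸ Finset.mem_univ _))
      obtain ⟨c, hc, hc'⟩ := Finset.exists_mem_ne (show 1 < D.card by omega) (pt 18)
      obtain ⟨d, hd, hd'⟩ := Finset.exists_mem_ne (show 1 < Dᶜ.card by
        rw [Finset.card_compl, show Fintype.card GolayPt = 24 from rfl]; omega) (pt 13)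
      exact ⟨c, ⟨hc, hc'⟩, d, Finset.mem_compl.1 hd, hd'⟩
    have hc13 : c ≠ pt 13 := fun e => n13 (e ▸ hc.1)
    have hd18 : d ≠ pt 18 := fun e => hd'.1 (e ▸ m18)
    have ec := hform c; have ed := hform d
    rw [if_pos hc.1, oddAt, if_neg hc13] at ec
    rw [if_neg hd'.1, oddAt, if_neg hd'.2] at ed
    obtain ⟨h, hh, hhv⟩ := xi_move y (c := c) (d := d) (fun e => hd'.1 (e ▸ hc.1)) hc13 hc.2 hd'.2 hd18
    obtain ⟨f13, f18, -⟩ := hhv _ rfl
    exact ⟨h, hh, odd_of_one _ (i := pt 18) (by omega), by omega, by omega⟩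
  obtain ⟨D, -, p, hform⟩ := odd_form x hx hodd
  have e13 := hform (pt 13); have e18 := hform (pt 18)
  simp only [oddAt] at e13 e18
  rcases (show ((x : GolayPt → ℤ) (pt 13) = -3 ∧ (x : GolayPt → ℤ) (pt 18) = -1) ∨
      ((x : GolayPt → ℤ) (pt 13) = 1 ∧ (x : GolayPt → ℤ) (pt 18) = 3) ∨
      ((x : GolayPt → ℤ) (pt 13) = -1 ∧ (x : GolayPt → ℤ) (pt 18) = 1) by
    split_ifs at e13 e18 <;> omega) with hc | hc | hc
  · obtain ⟨h, hh, h'⟩ := main x hx hodd hc.1 hc.2
    exact ⟨h * g, by rw [mul_smul, hg, hh], by rw [mul_smul]; exact h'⟩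
  · obtain ⟨s, hs, s13, s18⟩ := swap_move x
    obtain ⟨h, hh, h'⟩ := main (s • x) ((Same.sqNorm_eq ⟨s, rfl⟩).trans hx)
      (odd_of_one _ (i := pt 13) (by omega)) (by omega) (by omega)
    exact ⟨h * (s * g), by rw [mul_smul, mul_smul, hg, hs, hh], by rw [mul_smul, mul_smul]; exact h'⟩
  · exact ⟨g, hg, hodd, hc⟩

theorem trans_eight {w w' : ↥leechLattice} (hn : sqNorm (w : GolayPt → ℤ) = 32) (hn' : sqNorm (w' : GolayPt → ℤ) = 32)
    (hk : dotInt (uVec : GolayPt → ℤ) (w : GolayPt → ℤ) = -8) (hk' : dotInt (uVec : GolayPt → ℤ) (w' : GolayPt → ℤ) = -8) :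
    ∃ g : ↥Co0, g • uVec = uVec ∧ g • w = w' := by
  classical
  have hab := uVec_facts.2.2.1
  obtain ⟨g, hg, ho, g13, g18⟩ := to_regular hn hk
  obtain ⟨g', hg', ho', g13', g18'⟩ := to_regular hn' hk'
  obtain ⟨D, hD, p, hf⟩ := odd_form _ ((Same.sqNorm_eq ⟨g, rfl⟩).trans hn) ho
  obtain ⟨D', hD', p', hf'⟩ := odd_form _ ((Same.sqNorm_eq ⟨g', rfl⟩).trans hn') ho'
  have aux : ∀ (E : Finset GolayPt) (q : GolayPt) (x : GolayPt → ℤ), (∀ i, x i = if i ∈ E then -oddAt q i else oddAt q i) →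
      x (pt 13) = -1 → x (pt 18) = 1 → q ≠ pt 13 ∧ q ≠ pt 18 ∧ pt 13 ∈ E ∧ pt 18 ∉ E := by
    intro E q x h a b
    have e1 := h (pt 13); have e2 := h (pt 18)
    rw [a, oddAt] at e1; rw [b, oddAt] at e2
    refine ⟨fun e => ?_, fun e => ?_, ?_, ?_⟩
    · subst e; rw [if_pos rfl] at e1; split_ifs at e1 <;> omega
    · subst e; rw [if_pos rfl] at e2; split_ifs at e2 <;> omega
    · by_contra hh; rw [if_neg hh] at e1; split_ifs at e1 <;> omega
    · intro hh; rw [if_pos hh] at e2; split_ifs at e2 <;> omega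
  obtain ⟨p1, p2, a13, a18⟩ := aux D p _ hf g13 g18
  obtain ⟨p1', p2', a13', a18'⟩ := aux D' p' _ hf' g13' g18'
  obtain ⟨σ, hσ, hσm⟩ := exists_M24_map (k := 3) (by norm_num) ![pt 13, pt 18, p'] ![pt 13, pt 18, p]
    (by intro a b; fin_cases a <;> fin_cases b <;> simp [hab, Ne.symm hab, p1', Ne.symm p1', p2', Ne.symm p2'])
    (by intro a b; fin_cases a <;> fin_cases b <;> simp [hab, Ne.symm hab, p1, Ne.symm p1, p2, Ne.symm p2])
  have s13 : σ (pt 13) = pt 13 := hσm 0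
  have s18 : σ (pt 18) = pt 18 := hσm 1
  have sp : σ p' = p := hσm 2
  let h : ↥Co0 := flipCo D' hD' * permCo σ hσ * flipCo D hD
  have hflip : ∀ (x : ↥leechLattice) (i : GolayPt), ((h • x : ↥leechLattice) : GolayPt → ℤ) i =
      (if i ∈ D' then -1 else 1) * ((if σ i ∈ D then -1 else 1) * (x : GolayPt → ℤ) (σ i)) := by
    intro x i
    rw [mul_smul, mul_smul]
    show (if i ∈ D' then -(if σ i ∈ D then -(x : GolayPt → ℤ) (σ i) else (x : GolayPt → ℤ) (σ i))
      else (if σ i ∈ D then -(x : GolayPt → ℤ) (σ i) else (x : GolayPt → ℤ) (σ i))) = _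
    split_ifs <;> ring
  have hu : h • uVec = uVec := Subtype.ext (funext fun i => by
    rw [hflip]
    by_cases a : i = pt 13
    · subst a; rw [s13, if_pos a13, if_pos a13']; ring
    · by_cases b : i = pt 18
      · subst b; rw [s18, if_neg a18, if_neg a18']; ring
      · have u0 : (uVec : GolayPt → ℤ) (σ i) = 0 := by
          rw [uVec_apply, if_neg (fun e => a (σ.injective (e.trans s13.symm))),
            if_neg (fun e => b (σ.injective (e.trans s18.symm)))]
        have u1 : (uVec : GolayPt → ℤ) i = 0 := by rw [uVec_apply, if_neg a, if_neg b]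
        rw [u0, u1]
        ring)
  have hw : h • g • w = g' • w' := Subtype.ext (funext fun i => by
    rw [hflip, hf (σ i), hf' i]
    have : oddAt p (σ i) = oddAt p' i := by
      simp only [oddAt, ← sp, σ.injective.eq_iff]
    rw [this]
    split_ifs <;> ring)
  refine ⟨g'⁻¹ * (h * g), ?_, ?_⟩
  · rw [mul_smul, mul_smul, hg, hu]
    conv_lhs => rw [← hg', inv_smul_smul]
  · rw [mul_smul, mul_smul, hw, inv_smul_smul]

end Cfsg.Agent.Lib.Leech
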