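import Cfsg.Agent.Lib.Leech.RankOrbits
import Cfsg.Agent.Lib.PermOut.Basic

/-!
The permutation representation on a certified orbit of lattice vectors.
-/

set_option autoImplicit false

namespace Cfsg.Agent.Lib.Leech

open Cfsg Golay
open scoped Pointwise

/-- The coded permutations agree with the action of words on an orbit. -/
def permsOK (n w : ℕ) (gs : List (List Op)) (T : List (ℕ × ℕ)) (start : ℕ) (perms : List ℕ) : Bool :=
  let V := orbitVecs gs T start
  perms.length == gs.length && perms.all (PermOut.okP n w) &&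
    (List.range gs.length).all fun j => (List.range n).all fun i =>
      key (wRun (gs.getD j []) (V.getD i 0)) == key (V.getD (PermOut.im w (perms.getD j 0) i) 0)

/-- A faithful representation on a certified orbit, from simplicity. -/
theorem exists_orbit_rep {gs : List (List Op)} {T : List (ℕ × ℕ)} {start n w : ℕ} {perms : List ℕ}
    (h : orbitOK gs T start n = true) (hp : permsOK n w gs T start perms = true)
    (hne : (perms.any fun q => (List.range n).any fun i => PermOut.im w q i != i) = true)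
    (K : Subgroup ↥Co0) [IsSimpleGroup K] (hK : ∀ g ∈ gs, wCo g ∈ K) {x : ↥leechLattice}
    (hx : (x : GolayPt → ℤ) = toVec start) (hx64 : sqNorm (x : GolayPt → ℤ) ≤ 64)
    (S : Set ↥leechLattice) (hn : S.ncard = n) (hxS : x ∈ S) (hS : ∀ k ∈ K, ∀ y ∈ S, k • y ∈ S) :
    ∃ φ : ↥K →* Equiv.Perm (Fin n), Function.Injective φ ∧ ∀ c ∈ perms, PermOut.perm n w c ∈ φ.range := by
  simp only [orbitOK, Bool.and_eq_true, List.all_eq_true, Nat.blt_eq, beq_iff_eq] at h
  obtain ⟨⟨⟨hok, hT⟩, hlen⟩, hd⟩ := h
  obtain ⟨hnd, -⟩ := distinctFrom_spec hd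
  set V := orbitVecs gs T start with hV
  have hall : ∀ a ∈ V, ∃ k ∈ K, ((k • x : ↥leechLattice) : GolayPt → ℤ) = toVec a := by
    intro a ha
    rcases List.mem_cons.1 ha with rfl | ha
    · exact ⟨1, Subgroup.one_mem K, by rw [one_smul]; exact hx⟩
    · exact walk_reach K hok hK x hx64 T [start] hT
        (fun c hc => by rw [List.mem_singleton.1 hc]; exact ⟨1, Subgroup.one_mem K, by rw [one_smul]; exact hx⟩) a ha
  choose f hf1 hf2 using hall
  have hmem : ∀ i : Fin n, V.getD i 0 ∈ V := fun i => by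
    rw [List.getD_eq_getElem _ _ (hlen ▸ i.2)]; exact List.getElem_mem _
  let v : Fin n → S := fun i => ⟨f _ (hmem i) • x, hS _ (hf1 _ _) x hxS⟩
  have hv : ∀ i, ((v i : ↥leechLattice) : GolayPt → ℤ) = toVec (V.getD i 0) := fun i => hf2 _ _
  have hkey : ∀ {i j : Fin n}, key (V.getD i 0) = key (V.getD j 0) → i = j := fun {i j} e => by
    rw [List.getD_eq_getElem _ _ (hlen ▸ i.2), List.getD_eq_getElem _ _ (hlen ▸ j.2)] at e
    have hi : (i : ℕ) < (V.map key).length := by rw [List.length_map]; exact hlen ▸ i.2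
    have hj : (j : ℕ) < (V.map key).length := by rw [List.length_map]; exact hlen ▸ j.2
    exact Fin.ext ((hnd.getElem_inj_iff (hi := hi) (hj := hj)).1 (by simpa using e))
  have hinj : Function.Injective v := fun i j e => hkey (key_congr (by rw [← hv, ← hv, e]))
  have hnpos : 0 < n := by rw [← hlen, hV, orbitVecs, List.length_cons]; omega
  haveI : Finite S := (Set.finite_of_ncard_pos (hn ▸ hnpos)).to_subtype
  have hbij := hinj.bijective_of_nat_card_le (by rw [Nat.card_fin, Nat.card_coe_set_eq, hn])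
  let e := Equiv.ofBijective v hbij
  let act : ↥K → Fin n → Fin n := fun g i => e.symm ⟨(g : ↥Co0) • (e i : ↥leechLattice), hS _ g.2 _ (e i).2⟩
  have hact : ∀ g i, ((e (act g i) : S) : ↥leechLattice) = (g : ↥Co0) • (e i : ↥leechLattice) := fun g i => by
    simp [act]
  have hmul : ∀ g g' i, act (g * g') i = act g (act g' i) := fun g g' i =>
    e.injective (Subtype.ext (by rw [hact, hact, hact, Subgroup.coe_mul, mul_smul]))
  have hone : ∀ i, act 1 i = i := fun i => e.injective (Subtype.ext (by rw [hact, Subgroup.coe_one, one_smul]))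
  let φ : ↥K →* Equiv.Perm (Fin n) :=
    { toFun := fun g => ⟨act g, act g⁻¹, fun i => by rw [← hmul, inv_mul_cancel, hone],
        fun i => by rw [← hmul, mul_inv_cancel, hone]⟩
      map_one' := Equiv.ext hone
      map_mul' := fun g g' => Equiv.ext (hmul g g') }
  simp only [permsOK, Bool.and_eq_true, beq_iff_eq, List.all_eq_true, List.mem_range] at hp
  obtain ⟨⟨hpl, hpok⟩, hpk⟩ := hp
  have himg : ∀ c ∈ perms, ∃ g, φ g = PermOut.perm n w c := by
    intro c hc
    obtain ⟨j, hj, rfl⟩ := List.getElem_of_mem hc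
    have hjg : j < gs.length := hpl ▸ hj
    have hwm : gs.getD j [] ∈ gs := by rw [List.getD_eq_getElem _ _ hjg]; exact List.getElem_mem hjg
    refine ⟨⟨wCo (gs.getD j []), hK _ hwm⟩, Equiv.ext fun i => hkey ?_⟩
    rw [PermOut.perm_val (hpok _ (List.getElem_mem hj))]
    have h1 := hpk j hjg i i.2
    rw [List.getD_eq_getElem _ _ hj] at h1
    rw [← h1]
    refine key_congr ?_
    rw [← hv]
    show (((e (act _ i) : S) : ↥leechLattice) : GolayPt → ℤ) = _
    rw [hact]
    exact wRun_spec (hok _ hwm) (hv i) (by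
      show sqNorm ((f _ (hmem i) • x : ↥leechLattice) : GolayPt → ℤ) ≤ 64
      exact (Same.sqNorm_eq (x := x) ⟨f _ (hmem i), rfl⟩).le.trans hx64)
  refine ⟨φ, ?_, fun c hc => himg c hc⟩
  rw [← MonoidHom.ker_eq_bot_iff]
  refine (IsSimpleGroup.eq_bot_or_eq_top_of_normal φ.ker inferInstance).resolve_right fun htop => ?_
  simp only [List.any_eq_true, bne_iff_ne, List.mem_range] at hne
  obtain ⟨c, hc, i, hi, hci⟩ := hne
  obtain ⟨g, hg⟩ := himg c hc
  have h1 : φ g = 1 := by
    have : g ∈ φ.ker := htop ▸ Subgroup.mem_top g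
    exact this
  rw [hg] at h1
  exact hci ((PermOut.perm_val (hpok c hc) ⟨i, hi⟩).symm.trans (by rw [h1]; rfl))

end Cfsg.Agent.Lib.Leech
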