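import Cfsg.Agent.Lib.Leech.RankWeights
import Cfsg.Agent.Lib.Leech.DotsFast

/-!
Counts for the 100 points.
-/

set_option autoImplicit false
set_option maxRecDepth 100000

namespace Cfsg.Agent.Lib.Leech

open Cfsg Golay

theorem hs_pts_count : (cpOK (wTwo (toVec RankOrb.five) (toVec RankOrb.fiveNeg)) (clsOf [-4999, -999, -995]) 84416697312953326605786133868610592 &&
    (nsum (fun P => cntP (clsOf [-4999, -999, -995]) 32 (24 + 1000 * (-24)) (unpack (clsOf [-4999, -999, -995]).length P)) (fastTable 84416697312953326605786133868610592) == 100)) = true := by decide +kernel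

theorem hs_near_count : (cpOK (wThree (toVec RankOrb.five) (toVec RankOrb.fiveNeg) (toVec RankOrb.fourFour)) (clsOf [-999, 3995001, 3999005]) 83076749736557242056487941267521537 &&
    (nsum (fun P => cntP (clsOf [-999, 3995001, 3999005]) 32 (24 + 1000 * (-24) + 1000000 * 8) (unpack (clsOf [-999, 3995001, 3999005]).length P)) (fastTable 83076749736557242056487941267521537) == 22)) = true := by decide +kernel

end Cfsg.Agent.Lib.Leech
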