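import Cfsg.Agent.Lib.Leech.RankWeights
import Cfsg.Agent.Lib.Leech.DotsFast

/-!
Counts for the 275 points.
-/

set_option autoImplicit false
set_option maxRecDepth 100000

namespace Cfsg.Agent.Lib.Leech

open Cfsg Golay

theorem mc_pts_count : (cpOK (wTwo (toVec RankOrb.five) (toVec RankOrb.fourFour)) (clsOf [1, 4001, 4005]) 83076749736557242056487941267521537 &&
    (nsum (fun P => cntP (clsOf [1, 4001, 4005]) 32 (24 + 1000 * 16) (unpack (clsOf [1, 4001, 4005]).length P)) (fastTable 83076749736557242056487941267521537) == 275)) = true := by decide +kernel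

theorem mc_suborbit_count : (cpOK (wThree (toVec RankOrb.five) (toVec RankOrb.fourFour) (toVec RankOrb.mcStart)) (clsOf [1, 2000001, 2004001, 2004005]) 124655689462767752176766833299292162 &&
    (nsum (fun P => cntP (clsOf [1, 2000001, 2004001, 2004005]) 32 (24 + 1000 * 16 + 1000000 * 8) (unpack (clsOf [1, 2000001, 2004001, 2004005]).length P)) (fastTable 124655689462767752176766833299292162) == 112) &&
    (nsum (fun P => cntP (clsOf [1, 2000001, 2004001, 2004005]) 32 (24 + 1000 * 16 + 1000000 * 16) (unpack (clsOf [1, 2000001, 2004001, 2004005]).length P)) (fastTable 124655689462767752176766833299292162) == 162)) = true := by decide +kernel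

end Cfsg.Agent.Lib.Leech
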