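import Cfsg.Agent.Lib.Leech.RankWeights
import Cfsg.Agent.Lib.Leech.Dots
import Cfsg.Agent.Lib.Leech.Orbit

/-!
Kernel checks for the orbits of two joint stabilizers.
-/

set_option autoImplicit false
set_option maxRecDepth 100000

namespace Cfsg.Agent.Lib.Leech

open Cfsg Golay

theorem hs_orbit_ok : orbitOK RankOrb.hsGens RankOrb.hsPtTree RankOrb.fourFour 100 = true := by decide +kernel

theorem hs_near_ok : orbitOK (RankOrb.hsGens.take 2) RankOrb.hsNearTree RankOrb.hsNear 22 = true := by decide +kernel

theorem hs_far_ok : orbitOK (RankOrb.hsGens.take 2) RankOrb.hsFarTree RankOrb.hsFar 77 = true := by decide +kernel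

theorem mc_orbit_ok : orbitOK RankOrb.mcGens RankOrb.mcTree RankOrb.mcStart 275 = true := by decide +kernel

theorem mc_near_ok : orbitOK RankOrb.mcPtGens RankOrb.mcNearTree RankOrb.mcNear 112 = true := by decide +kernel

theorem mc_far_ok : orbitOK RankOrb.mcPtGens RankOrb.mcFarTree RankOrb.mcFar 162 = true := by decide +kernel

theorem fix_checks :
    (RankOrb.hsGens.all fun w => wOk w && (wRun w RankOrb.five == RankOrb.five) && (wRun w RankOrb.fiveNeg == RankOrb.fiveNeg)) = true ∧
    ((RankOrb.hsGens.take 2).all fun w => wOk w && (wRun w RankOrb.fourFour == RankOrb.fourFour)) = true ∧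
    (RankOrb.mcGens.all fun w => wOk w && (wRun w RankOrb.five == RankOrb.five) && (wRun w RankOrb.fourFour == RankOrb.fourFour)) = true ∧
    (RankOrb.mcPtGens.all fun w => wOk w && (wRun w RankOrb.five == RankOrb.five) && (wRun w RankOrb.fourFour == RankOrb.fourFour) &&
      (wRun w RankOrb.mcStart == RankOrb.mcStart)) = true := by
  refine ⟨?_, ?_, ?_, ?_⟩ <;> decide +kernel

theorem invol_checks : (wOk RankOrb.hsInvol && (wRun RankOrb.hsInvol RankOrb.five == RankOrb.five) &&
    (wRun RankOrb.hsInvol RankOrb.fiveNeg == RankOrb.fiveNeg) &&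
    ((orbitVecs RankOrb.hsGens RankOrb.hsPtTree RankOrb.fourFour).all fun L => key (wRun RankOrb.hsInvol L) != key L) &&
    (idx.all fun i => wRun (RankOrb.hsInvol ++ RankOrb.hsInvol) (mk fun j => if j == i then 40 else 32) ==
      mk fun j => if j == i then 40 else 32)) = true := by
  decide +kernel

end Cfsg.Agent.Lib.Leech
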