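import Cfsg.Agent.Lib.Leech.RankCensusHS
import Cfsg.Agent.Lib.Leech.RankCensusMC
import Cfsg.Agent.Lib.Leech.RankChecks
import Cfsg.Agent.Lib.Leech.HigmanSims

/-!
The rank three actions on 100 and on 275 minimal vectors.
-/

set_option autoImplicit false
set_option maxRecDepth 100000

namespace Cfsg.Agent.Lib.Leech

open Cfsg Golay

theorem dot_bound (v x : GolayPt → ℤ) :
    -(sqNorm v + sqNorm x) ≤ 2 * dotInt v x ∧ 2 * dotInt v x ≤ sqNorm v + sqNorm x := by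
  simp only [sqNorm, dotInt, Finset.mul_sum, ← Finset.sum_add_distrib, ← Finset.sum_neg_distrib]
  exact ⟨Finset.sum_le_sum fun i _ => by nlinarith [sq_nonneg (v i + x i)],
    Finset.sum_le_sum fun i _ => by nlinarith [sq_nonneg (v i - x i)]⟩

theorem dot_wTwo (a b x : GolayPt → ℤ) : dotInt (wTwo a b) x = dotInt a x + 1000 * dotInt b x := by
  simp only [dotInt, wTwo, Finset.mul_sum, ← Finset.sum_add_distrib]
  exact Finset.sum_congr rfl fun i _ => by ring

theorem dot_wThree (a b c x : GolayPt → ℤ) :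
    dotInt (wThree a b c) x = dotInt a x + 1000 * dotInt b x + 1000000 * dotInt c x := by
  simp only [dotInt, wThree, Finset.mul_sum, ← Finset.sum_add_distrib]
  exact Finset.sum_congr rfl fun i _ => by ring

theorem dot_self_eq (x : ↥leechLattice) : dotInt (x : GolayPt → ℤ) (x : GolayPt → ℤ) = sqNorm (x : GolayPt → ℤ) :=
  Finset.sum_congr rfl fun i _ => (pow_two _).symm

theorem eq_of_dot {x y : ↥leechLattice} (hx : sqNorm (x : GolayPt → ℤ) = 32) (hy : sqNorm (y : GolayPt → ℤ) = 32)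
    (h : dotInt (x : GolayPt → ℤ) (y : GolayPt → ℤ) = 32) : y = x := by
  have h0 : sqNorm ((x : GolayPt → ℤ) - (y : GolayPt → ℤ)) = 0 := by rw [sqNorm_sub_eq, hx, hy, h]; norm_num
  refine Subtype.ext (funext fun i => ?_)
  have := (Finset.sum_eq_zero_iff_of_nonneg fun j _ => sq_nonneg _).1 h0 i (Finset.mem_univ i)
  rw [pow_eq_zero_iff two_ne_zero, Pi.sub_apply, sub_eq_zero] at this
  exact this.symm

/-- The 100 points of a pair. -/
def hsPts (v w : ↥leechLattice) : Set ↥leechLattice :=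
  {x | sqNorm (x : GolayPt → ℤ) = 32 ∧ dotInt (v : GolayPt → ℤ) (x : GolayPt → ℤ) = 24 ∧
    dotInt (w : GolayPt → ℤ) (x : GolayPt → ℤ) = -24}

/-- The 275 points of a pair. -/
def mcPts (u v : ↥leechLattice) : Set ↥leechLattice :=
  {x | sqNorm (x : GolayPt → ℤ) = 32 ∧ sqNorm ((u : GolayPt → ℤ) - (x : GolayPt → ℤ)) = 32 ∧
    dotInt (v : GolayPt → ℤ) (x : GolayPt → ℤ) = 16}

/-- The base point among the 275. -/
def mcBase : ↥leechLattice := ⟨toVec RankOrb.mcStart, mem_of_check (by decide +kernel)⟩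

/-- Representatives of the suborbits. -/
def hsNearPt : ↥leechLattice := ⟨toVec RankOrb.hsNear, mem_of_check (by decide +kernel)⟩

/-- Representatives of the suborbits. -/
def hsFarPt : ↥leechLattice := ⟨toVec RankOrb.hsFar, mem_of_check (by decide +kernel)⟩

/-- Representatives of the suborbits. -/
def mcNearPt : ↥leechLattice := ⟨toVec RankOrb.mcNear, mem_of_check (by decide +kernel)⟩

/-- Representatives of the suborbits. -/
def mcFarPt : ↥leechLattice := ⟨toVec RankOrb.mcFar, mem_of_check (by decide +kernel)⟩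

theorem vec_eqs : (∀ p, (vFive : GolayPt → ℤ) p = toVec RankOrb.five p) ∧
    (∀ p, (fivePartner : GolayPt → ℤ) p = toVec RankOrb.fiveNeg p) ∧
    (∀ p, (fourFour : GolayPt → ℤ) p = toVec RankOrb.fourFour p) := by
  refine ⟨?_, ?_, ?_⟩ <;> decide +kernel

theorem rep_facts :
    (sqNorm (fourFour : GolayPt → ℤ) = 32 ∧ dotInt (vFive : GolayPt → ℤ) (fourFour : GolayPt → ℤ) = 24 ∧
      dotInt (fivePartner : GolayPt → ℤ) (fourFour : GolayPt → ℤ) = -24) ∧
    (sqNorm (hsNearPt : GolayPt → ℤ) = 32 ∧ dotInt (vFive : GolayPt → ℤ) (hsNearPt : GolayPt → ℤ) = 24 ∧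
      dotInt (fivePartner : GolayPt → ℤ) (hsNearPt : GolayPt → ℤ) = -24 ∧
      dotInt (fourFour : GolayPt → ℤ) (hsNearPt : GolayPt → ℤ) = 8) ∧
    (sqNorm (hsFarPt : GolayPt → ℤ) = 32 ∧ dotInt (vFive : GolayPt → ℤ) (hsFarPt : GolayPt → ℤ) = 24 ∧
      dotInt (fivePartner : GolayPt → ℤ) (hsFarPt : GolayPt → ℤ) = -24 ∧
      dotInt (fourFour : GolayPt → ℤ) (hsFarPt : GolayPt → ℤ) = 16) ∧
    (sqNorm (mcBase : GolayPt → ℤ) = 32 ∧ dotInt (vFive : GolayPt → ℤ) (mcBase : GolayPt → ℤ) = 24 ∧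
      dotInt (fourFour : GolayPt → ℤ) (mcBase : GolayPt → ℤ) = 16) ∧
    (sqNorm (mcNearPt : GolayPt → ℤ) = 32 ∧ dotInt (vFive : GolayPt → ℤ) (mcNearPt : GolayPt → ℤ) = 24 ∧
      dotInt (fourFour : GolayPt → ℤ) (mcNearPt : GolayPt → ℤ) = 16 ∧
      dotInt (mcBase : GolayPt → ℤ) (mcNearPt : GolayPt → ℤ) = 8) ∧
    (sqNorm (mcFarPt : GolayPt → ℤ) = 32 ∧ dotInt (vFive : GolayPt → ℤ) (mcFarPt : GolayPt → ℤ) = 24 ∧
      dotInt (fourFour : GolayPt → ℤ) (mcFarPt : GolayPt → ℤ) = 16 ∧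
      dotInt (mcBase : GolayPt → ℤ) (mcFarPt : GolayPt → ℤ) = 16) := by
  decide +kernel

theorem mc_mem_iff {u v x : ↥leechLattice} (hu : sqNorm (u : GolayPt → ℤ) = 48) :
    x ∈ mcPts u v ↔ sqNorm (x : GolayPt → ℤ) = 32 ∧ dotInt (u : GolayPt → ℤ) (x : GolayPt → ℤ) = 24 ∧
      dotInt (v : GolayPt → ℤ) (x : GolayPt → ℤ) = 16 :=
  and_congr_right fun hx => and_congr_left' (sub_norm_iff hu hx)

theorem hs_ncard : (hsPts vFive fivePartner).ncard = 100 := by
  have h := hs_pts_count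
  simp only [Bool.and_eq_true, beq_iff_eq] at h
  refine Eq.trans ?_ h.2
  rw [← census_fast _ 32 _ (by norm_num) _ (by decide) _ h.1, ← ncard_sub
    (fun x => sqNorm x = 32 ∧ dotInt (wTwo (toVec RankOrb.five) (toVec RankOrb.fiveNeg)) x = 24 + 1000 * (-24))]
  congr 1
  ext x
  show _ ∧ _ ∧ _ ↔ _ ∧ _
  rw [← funext vec_eqs.1, ← funext vec_eqs.2.1, dot_wTwo]
  refine and_congr_right fun hx => ?_
  have h1 := dot_bound (vFive : GolayPt → ℤ) (x : GolayPt → ℤ)
  rw [vFive_shape.1, hx] at h1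
  omega

theorem mc_ncard : (mcPts vFive fourFour).ncard = 275 := by
  have h := mc_pts_count
  simp only [Bool.and_eq_true, beq_iff_eq] at h
  refine Eq.trans ?_ h.2
  rw [← census_fast _ 32 _ (by norm_num) _ (by decide) _ h.1, ← ncard_sub
    (fun x => sqNorm x = 32 ∧ dotInt (wTwo (toVec RankOrb.five) (toVec RankOrb.fourFour)) x = 24 + 1000 * 16)]
  congr 1
  ext x
  rw [mc_mem_iff vFive_shape.1]
  show _ ∧ _ ∧ _ ↔ _ ∧ _
  rw [← funext vec_eqs.1, ← funext vec_eqs.2.2, dot_wTwo]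
  refine and_congr_right fun hx => ?_
  have h1 := dot_bound (vFive : GolayPt → ℤ) (x : GolayPt → ℤ)
  rw [vFive_shape.1, hx] at h1
  omega

theorem hs_near_ncard : {y : ↥leechLattice | y ∈ hsPts vFive fivePartner ∧
    dotInt (fourFour : GolayPt → ℤ) (y : GolayPt → ℤ) = 8}.ncard = 22 := by
  have h := hs_near_count
  simp only [Bool.and_eq_true, beq_iff_eq] at h
  refine Eq.trans ?_ h.2
  rw [← census_fast _ 32 _ (by norm_num) _ (by decide) _ h.1, ← ncard_sub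
    (fun x => sqNorm x = 32 ∧ dotInt (wThree (toVec RankOrb.five) (toVec RankOrb.fiveNeg) (toVec RankOrb.fourFour)) x =
      24 + 1000 * (-24) + 1000000 * 8)]
  congr 1
  ext x
  show (_ ∧ _ ∧ _) ∧ _ ↔ _ ∧ _
  rw [← funext vec_eqs.1, ← funext vec_eqs.2.1, ← funext vec_eqs.2.2, dot_wThree, and_assoc]
  refine and_congr_right fun hx => ?_
  have h1 := dot_bound (vFive : GolayPt → ℤ) (x : GolayPt → ℤ)
  have h2 := dot_bound (fivePartner : GolayPt → ℤ) (x : GolayPt → ℤ)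
  rw [vFive_shape.1, hx] at h1
  rw [partner_facts.1, hx] at h2
  omega

theorem mc_sub_ncard (c : ℤ) (n : ℕ) (h : c = 8 ∧ n = 112 ∨ c = 16 ∧ n = 162) : {y : ↥leechLattice | y ∈ mcPts vFive fourFour ∧
    dotInt (mcBase : GolayPt → ℤ) (y : GolayPt → ℤ) = c}.ncard = n := by
  have hh := mc_suborbit_count
  simp only [Bool.and_eq_true, beq_iff_eq] at hh
  refine Eq.trans ?_ (show nsum (fun P => cntP (clsOf [1, 2000001, 2004001, 2004005]) 32 (24 + 1000 * 16 + 1000000 * c)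
      (unpack (clsOf [1, 2000001, 2004001, 2004005]).length P)) (fastTable 124655689462767752176766833299292162) = n by
      rcases h with ⟨rfl, rfl⟩ | ⟨rfl, rfl⟩
      · exact hh.1.2
      · exact hh.2)
  rw [← census_fast _ 32 _ (by norm_num) _ (by decide) _ hh.1.1, ← ncard_sub
    (fun x => sqNorm x = 32 ∧ dotInt (wThree (toVec RankOrb.five) (toVec RankOrb.fourFour) (toVec RankOrb.mcStart)) x =
      24 + 1000 * 16 + 1000000 * c)]
  congr 1
  ext x
  show _ ∧ _ ↔ _ ∧ _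
  rw [mc_mem_iff vFive_shape.1, ← funext vec_eqs.1, ← funext vec_eqs.2.2,
    show toVec RankOrb.mcStart = (mcBase : GolayPt → ℤ) from rfl, dot_wThree, and_assoc]
  refine and_congr_right fun hx => ?_
  have h1 := dot_bound (vFive : GolayPt → ℤ) (x : GolayPt → ℤ)
  have h2 := dot_bound (fourFour : GolayPt → ℤ) (x : GolayPt → ℤ)
  rw [vFive_shape.1, hx] at h1
  rw [rep_facts.1.1, hx] at h2
  omega

/-- The two-vector fixers. -/
theorem gens_fix_pair {gs : List (List Op)} {a b : ℕ} {x y : ↥leechLattice}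
    (h : (gs.all fun w => wOk w && (wRun w a == a) && (wRun w b == b)) = true)
    (hx : (x : GolayPt → ℤ) = toVec a) (hy : (y : GolayPt → ℤ) = toVec b)
    (nx : sqNorm (x : GolayPt → ℤ) ≤ 64) (ny : sqNorm (y : GolayPt → ℤ) ≤ 64) :
    ∀ w ∈ gs, wCo w ∈ MulAction.stabilizer ↥Co0 x ⊓ MulAction.stabilizer ↥Co0 y := by
  intro w hw
  have h' := List.all_eq_true.1 h w hw
  simp only [Bool.and_eq_true] at h'
  exact ⟨wCo_fix h'.1.1 hx nx h'.1.2, wCo_fix h'.1.1 hy ny h'.2⟩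

theorem smul_hsPts {v w x : ↥leechLattice} (g : ↥Co0) : g • x ∈ hsPts (g • v) (g • w) ↔ x ∈ hsPts v w := by
  simp only [hsPts, Set.mem_setOf_eq, dot_smul, Same.sqNorm_eq (x := x) ⟨g, rfl⟩]

theorem smul_mcPts {u v x : ↥leechLattice} (g : ↥Co0) : g • x ∈ mcPts (g • u) (g • v) ↔ x ∈ mcPts u v := by
  simp only [mcPts, Set.mem_setOf_eq, sqNorm_sub_eq, dot_smul, Same.sqNorm_eq (x := x) ⟨g, rfl⟩,
    Same.sqNorm_eq (x := u) ⟨g, rfl⟩]

theorem hs_trans {y : ↥leechLattice} (hy : y ∈ hsPts vFive fivePartner) :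
    ∃ g : ↥Co0, g • vFive = vFive ∧ g • fivePartner = fivePartner ∧ g • fourFour = y := by
  obtain ⟨g, hg, e⟩ := orbit_fills hs_orbit_ok (MulAction.stabilizer ↥Co0 vFive ⊓ MulAction.stabilizer ↥Co0 fivePartner)
    (gens_fix_pair fix_checks.1 (funext vec_eqs.1) (funext vec_eqs.2.1) (by rw [vFive_shape.1]; norm_num)
      (by rw [partner_facts.1]; norm_num))
    (funext vec_eqs.2.2) (by rw [rep_facts.1.1]; norm_num) (hsPts vFive fivePartner) hs_ncard
    (fun k hk => by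
      have h := (smul_hsPts (v := vFive) (w := fivePartner) k).2 (rep_facts.1 : fourFour ∈ hsPts vFive fivePartner)
      rwa [MulAction.mem_stabilizer_iff.1 hk.1, MulAction.mem_stabilizer_iff.1 hk.2] at h) y hy
  exact ⟨g, hg.1, hg.2, e⟩

theorem mc_trans {y : ↥leechLattice} (hy : y ∈ mcPts vFive fourFour) :
    ∃ g : ↥Co0, g • vFive = vFive ∧ g • fourFour = fourFour ∧ g • mcBase = y := by
  obtain ⟨g, hg, e⟩ := orbit_fills mc_orbit_ok (MulAction.stabilizer ↥Co0 vFive ⊓ MulAction.stabilizer ↥Co0 fourFour)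
    (gens_fix_pair fix_checks.2.2.1 (funext vec_eqs.1) (funext vec_eqs.2.2) (by rw [vFive_shape.1]; norm_num)
      (by rw [rep_facts.1.1]; norm_num))
    (x := mcBase) rfl (by rw [rep_facts.2.2.2.1.1]; norm_num) (mcPts vFive fourFour) mc_ncard
    (fun k hk => by
      have h := (smul_mcPts (u := vFive) (v := fourFour) k).2 ((mc_mem_iff vFive_shape.1).2 rep_facts.2.2.2.1)
      rwa [MulAction.mem_stabilizer_iff.1 hk.1, MulAction.mem_stabilizer_iff.1 hk.2] at h) y hy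
  exact ⟨g, hg.1, hg.2, e⟩

/-- The points far from the base point. -/
def hsFarSet : Set ↥leechLattice :=
  {y | y ∈ hsPts vFive fivePartner ∧ y ≠ fourFour ∧ dotInt (fourFour : GolayPt → ℤ) (y : GolayPt → ℤ) ≠ 8}

theorem hs_far_ncard : hsFarSet.ncard = 77 := by
  set A := {y : ↥leechLattice | y ∈ hsPts vFive fivePartner ∧ dotInt (fourFour : GolayPt → ℤ) (y : GolayPt → ℤ) = 8}
  have hb : fourFour ∈ hsPts vFive fivePartner := rep_facts.1
  have hfin : (hsPts vFive fivePartner).Finite := Set.finite_of_ncard_pos (by rw [hs_ncard]; norm_num)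
  have hA : A.ncard = 22 := hs_near_ncard
  have hnot : fourFour ∉ A := fun h => by
    have := h.2; rw [dot_self_eq, rep_facts.1.1] at this; norm_num at this
  have hsub : insert fourFour A ⊆ hsPts vFive fivePartner := Set.insert_subset hb fun y hy => hy.1
  have e : hsFarSet = hsPts vFive fivePartner \ insert fourFour A := by
    ext y
    simp only [hsFarSet, A, Set.mem_setOf_eq, Set.mem_diff, Set.mem_insert_iff]
    tauto
  rw [e, Set.ncard_diff hsub (hfin.subset hsub), hs_ncard,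
    Set.ncard_insert_of_notMem hnot (hfin.subset fun y hy => hy.1), hA]

theorem hs_sub_trans {y : ↥leechLattice} (hy : y ∈ hsPts vFive fivePartner) (hne : y ≠ fourFour) :
    ∃ g : ↥Co0, g • vFive = vFive ∧ g • fivePartner = fivePartner ∧ g • fourFour = fourFour ∧
      g • (if dotInt (fourFour : GolayPt → ℤ) (y : GolayPt → ℤ) = 8 then hsNearPt else hsFarPt) = y := by
  have hK : ∀ w ∈ RankOrb.hsGens.take 2, wCo w ∈ MulAction.stabilizer ↥Co0 vFive ⊓
      MulAction.stabilizer ↥Co0 fivePartner ⊓ MulAction.stabilizer ↥Co0 fourFour := by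
    intro w hw
    have h1 := gens_fix_pair fix_checks.1 (funext vec_eqs.1) (funext vec_eqs.2.1) (by rw [vFive_shape.1]; norm_num)
      (by rw [partner_facts.1]; norm_num) w (List.mem_of_mem_take hw)
    have h2 := List.all_eq_true.1 fix_checks.2.1 w hw
    simp only [Bool.and_eq_true] at h2
    exact ⟨h1, wCo_fix h2.1 (funext vec_eqs.2.2) (by rw [rep_facts.1.1]; norm_num) h2.2⟩
  have hmove : ∀ k ∈ MulAction.stabilizer ↥Co0 vFive ⊓ MulAction.stabilizer ↥Co0 fivePartner ⊓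
      MulAction.stabilizer ↥Co0 fourFour, ∀ z ∈ hsPts vFive fivePartner, k • z ∈ hsPts vFive fivePartner ∧
        dotInt (fourFour : GolayPt → ℤ) ((k • z : ↥leechLattice) : GolayPt → ℤ) =
          dotInt (fourFour : GolayPt → ℤ) (z : GolayPt → ℤ) := fun k hk z hz => by
    refine ⟨?_, ?_⟩
    · have h := (smul_hsPts (v := vFive) (w := fivePartner) k).2 hz
      rwa [MulAction.mem_stabilizer_iff.1 hk.1.1, MulAction.mem_stabilizer_iff.1 hk.1.2] at h
    · conv_lhs => rw [← MulAction.mem_stabilizer_iff.1 hk.2]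
      rw [dot_smul]
  obtain ⟨-, ⟨n1, n2, n3, n4⟩, ⟨f1, f2, f3, f4⟩, -⟩ := rep_facts
  by_cases h8 : dotInt (fourFour : GolayPt → ℤ) (y : GolayPt → ℤ) = 8
  · rw [if_pos h8]
    obtain ⟨g, hg, e⟩ := orbit_fills hs_near_ok _ hK (x := hsNearPt) rfl (by rw [n1]; norm_num) _ hs_near_ncard
      (fun k hk => ⟨(hmove k hk _ ⟨n1, n2, n3⟩).1, (hmove k hk _ ⟨n1, n2, n3⟩).2.trans n4⟩) y ⟨hy, h8⟩
    exact ⟨g, hg.1.1, hg.1.2, hg.2, e⟩
  · rw [if_neg h8]
    obtain ⟨g, hg, e⟩ := orbit_fills hs_far_ok _ hK (x := hsFarPt) rfl (by rw [f1]; norm_num) hsFarSet hs_far_ncard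
      (fun k hk => by
        refine ⟨(hmove k hk _ ⟨f1, f2, f3⟩).1, fun e => ?_, ?_⟩
        · have := (hmove k hk _ ⟨f1, f2, f3⟩).2
          rw [e, f4, dot_self_eq, rep_facts.1.1] at this
          norm_num at this
        · rw [(hmove k hk _ ⟨f1, f2, f3⟩).2, f4]; norm_num) y ⟨hy, hne, h8⟩
    exact ⟨g, hg.1.1, hg.1.2, hg.2, e⟩

theorem mc_sub_trans {y : ↥leechLattice} (hy : y ∈ mcPts vFive fourFour) (c : ℤ) (hc : c = 8 ∨ c = 16)
    (hd : dotInt (mcBase : GolayPt → ℤ) (y : GolayPt → ℤ) = c) :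
    ∃ g : ↥Co0, g • vFive = vFive ∧ g • fourFour = fourFour ∧ g • mcBase = mcBase ∧
      g • (if c = 8 then mcNearPt else mcFarPt) = y := by
  obtain ⟨b0, -, -, ⟨b1, b2, b3⟩, ⟨n1, n2, n3, n4⟩, ⟨f1, f2, f3, f4⟩⟩ := rep_facts
  have hK : ∀ w ∈ RankOrb.mcPtGens, wCo w ∈ MulAction.stabilizer ↥Co0 vFive ⊓
      MulAction.stabilizer ↥Co0 fourFour ⊓ MulAction.stabilizer ↥Co0 mcBase := by
    intro w hw
    have h2 := List.all_eq_true.1 fix_checks.2.2.2 w hw
    simp only [Bool.and_eq_true] at h2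
    exact ⟨⟨wCo_fix h2.1.1.1 (funext vec_eqs.1) (by rw [vFive_shape.1]; norm_num) h2.1.1.2,
      wCo_fix h2.1.1.1 (funext vec_eqs.2.2) (by rw [b0.1]; norm_num) h2.1.2⟩,
      wCo_fix h2.1.1.1 (x := mcBase) rfl (by rw [b1]; norm_num) h2.2⟩
  have hmove : ∀ k ∈ MulAction.stabilizer ↥Co0 vFive ⊓ MulAction.stabilizer ↥Co0 fourFour ⊓
      MulAction.stabilizer ↥Co0 mcBase, ∀ z ∈ mcPts vFive fourFour, k • z ∈ mcPts vFive fourFour ∧
        dotInt (mcBase : GolayPt → ℤ) ((k • z : ↥leechLattice) : GolayPt → ℤ) =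
          dotInt (mcBase : GolayPt → ℤ) (z : GolayPt → ℤ) := fun k hk z hz => by
    refine ⟨?_, ?_⟩
    · have h := (smul_mcPts (u := vFive) (v := fourFour) k).2 hz
      rwa [MulAction.mem_stabilizer_iff.1 hk.1.1, MulAction.mem_stabilizer_iff.1 hk.1.2] at h
    · conv_lhs => rw [← MulAction.mem_stabilizer_iff.1 hk.2]
      rw [dot_smul]
  rcases hc with rfl | rfl
  · rw [if_pos rfl]
    have hm : mcNearPt ∈ mcPts vFive fourFour := (mc_mem_iff vFive_shape.1).2 ⟨n1, n2, n3⟩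
    obtain ⟨g, hg, e⟩ := orbit_fills mc_near_ok _ hK (x := mcNearPt) rfl (by rw [n1]; norm_num) _
      (mc_sub_ncard 8 112 (Or.inl ⟨rfl, rfl⟩))
      (fun k hk => ⟨(hmove k hk _ hm).1, (hmove k hk _ hm).2.trans n4⟩) y ⟨hy, hd⟩
    exact ⟨g, hg.1.1, hg.1.2, hg.2, e⟩
  · rw [if_neg (by norm_num)]
    have hm : mcFarPt ∈ mcPts vFive fourFour := (mc_mem_iff vFive_shape.1).2 ⟨f1, f2, f3⟩
    obtain ⟨g, hg, e⟩ := orbit_fills mc_far_ok _ hK (x := mcFarPt) rfl (by rw [f1]; norm_num) _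
      (mc_sub_ncard 16 162 (Or.inr ⟨rfl, rfl⟩))
      (fun k hk => ⟨(hmove k hk _ hm).1, (hmove k hk _ hm).2.trans f4⟩) y ⟨hy, hd⟩
    exact ⟨g, hg.1.1, hg.1.2, hg.2, e⟩

end Cfsg.Agent.Lib.Leech
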