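import Cfsg.Agent.Lib.Leech.RankData
import Cfsg.Agent.Lib.Leech.Dots
import Cfsg.Agent.Lib.Leech.Orbit

/-!
Weights encoding several vectors at once.
-/

set_option autoImplicit false
set_option maxRecDepth 100000

namespace Cfsg.Agent.Lib.Leech

open Cfsg Golay

/-- Classes for a weight with the given values. -/
def clsOf (l : List ℤ) : List (ℤ × Bool) := l.flatMap fun w => [(w, false), (w, true)]

/-- The weight encoding two vectors. -/
def wTwo (a b : GolayPt → ℤ) : GolayPt → ℤ := fun p => a p + 1000 * b p

/-- The weight encoding three vectors. -/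
def wThree (a b c : GolayPt → ℤ) : GolayPt → ℤ := fun p => a p + 1000 * b p + 1000000 * c p

end Cfsg.Agent.Lib.Leech
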