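import Cfsg.Agent.Lib.Leech.Gens

/-! # The sextet isometry of the lattice -/

set_option autoImplicit false

namespace Cfsg.Agent.Lib.Leech

open Cfsg Golay

/-- The six tetrads of a sextet. -/
def tetrads : List ℕ := [0xf, 0x342000, 0x824020, 0x98100, 0x400a40, 0x1490]

/-- The index of the tetrad through a point. -/
def tid (p : GolayPt) : Fin 6 :=
  if (0xf : ℕ).testBit (ix p) then 0 else if (0x342000 : ℕ).testBit (ix p) then 1 else
    if (0x824020 : ℕ).testBit (ix p) then 2 else if (0x98100 : ℕ).testBit (ix p) then 3 else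
    if (0x400a40 : ℕ).testBit (ix p) then 4 else 5

theorem tid_card : ∀ t : Fin 6, (Finset.univ.filter fun p => tid p = t).card = 4 := by decide +kernel

/-- The sum over the tetrad of a point. -/
def tsum (x : GolayPt → ℤ) (t : Fin 6) : ℤ := ∑ q ∈ Finset.univ.filter (fun q => tid q = t), x q

/-- The map. -/
def xi (x : GolayPt → ℤ) : GolayPt → ℤ :=
  fun p => (if tid p = 0 then -1 else 1) * (x p - tsum x (tid p) / 2)

theorem tsum_even {x : GolayPt → ℤ} (hx : x ∈ leechLattice) (t : Fin 6) : (2 : ℤ) ∣ tsum x t := by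
  obtain ⟨m, y, -, hy, -⟩ := mem_iff.1 hx
  rw [tsum, Finset.sum_congr rfl (fun p _ => hy p), Finset.sum_add_distrib, Finset.sum_const, tid_card,
    ← Finset.mul_sum, nsmul_eq_mul]
  omega

theorem xi_add {x : GolayPt → ℤ} (hx : x ∈ leechLattice) (y : GolayPt → ℤ) : xi (x + y) = xi x + xi y := by
  funext p
  have h : tsum (x + y) (tid p) = tsum x (tid p) + tsum y (tid p) := by
    simp only [tsum, Pi.add_apply, Finset.sum_add_distrib]
  simp only [xi, Pi.add_apply, h, Int.add_ediv_of_dvd_left (tsum_even hx _)]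
  ring

theorem xi_zero : xi 0 = 0 := by funext p; simp [xi, tsum]

theorem xi_neg {x : GolayPt → ℤ} (hx : x ∈ leechLattice) : xi (-x) = -xi x := by
  refine eq_neg_of_add_eq_zero_left ?_
  rw [← xi_add (neg_mem hx), neg_add_cancel, xi_zero]

theorem xi_oddVec : check (xi oddVec) = true := by decide +kernel

theorem xi_basis : basis.all (fun B => check (xi (twoW B))) = true := by decide +kernel

theorem xi_frame : ∀ i, check (xi (frame i none)) = true := by decide +kernel

/-- Vectors whose image lies in the lattice. -/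
def xiPre : AddSubgroup (GolayPt → ℤ) where
  carrier := {x | x ∈ leechLattice ∧ xi x ∈ leechLattice}
  zero_mem' := ⟨zero_mem _, by rw [xi_zero]; exact zero_mem _⟩
  add_mem' := fun {a b} ha hb => ⟨add_mem ha.1 hb.1, by rw [xi_add ha.1]; exact add_mem ha.2 hb.2⟩
  neg_mem' := fun {a} ha => ⟨neg_mem ha.1, by rw [xi_neg ha.1]; exact neg_mem ha.2⟩

theorem xi_mem {x : GolayPt → ℤ} (hx : x ∈ leechLattice) : xi x ∈ leechLattice := by
  have h : leechLattice ≤ xiPre := lattice_le ⟨oddVec_mem, mem_of_check xi_oddVec⟩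
    (fun B hB => ⟨twoW_mem B hB, mem_of_check (List.all_eq_true.1 xi_basis B hB)⟩)
    (fun i => ⟨frame_mem i none, mem_of_check (xi_frame i)⟩)
  exact (h hx).2

theorem tsum_xi {x : GolayPt → ℤ} (hx : x ∈ leechLattice) (t : Fin 6) :
    tsum (xi x) t = (if t = 0 then -1 else 1) * (- tsum x t) := by
  obtain ⟨s, hs⟩ := tsum_even hx t
  have e : ∀ p ∈ Finset.univ.filter (fun q => tid q = t), xi x p = (if t = 0 then -1 else 1) * (x p - s) := by
    intro p hp
    rw [Finset.mem_filter] at hp
    rw [xi, hp.2, hs, Int.mul_ediv_cancel_left _ two_ne_zero]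
  rw [tsum, Finset.sum_congr rfl e, ← Finset.mul_sum, Finset.sum_sub_distrib, Finset.sum_const, tid_card,
    ← tsum, hs, nsmul_eq_mul]
  push_cast; ring

theorem xi_xi {x : GolayPt → ℤ} (hx : x ∈ leechLattice) : xi (xi x) = x := by
  funext p
  obtain ⟨s, hs⟩ := tsum_even hx (tid p)
  show (if tid p = 0 then -1 else 1) * (xi x p - tsum (xi x) (tid p) / 2) = x p
  rw [tsum_xi hx, hs, show xi x p = (if tid p = 0 then -1 else 1) * (x p - s) by
    rw [xi, hs, Int.mul_ediv_cancel_left _ two_ne_zero]]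
  split_ifs
  · rw [show (-1 : ℤ) * -(2 * s) = 2 * s by ring, Int.mul_ediv_cancel_left _ two_ne_zero]; ring
  · rw [show (1 : ℤ) * -(2 * s) = 2 * -s by ring, Int.mul_ediv_cancel_left _ two_ne_zero]; ring

theorem xi_norm {x : GolayPt → ℤ} (hx : x ∈ leechLattice) : sqNorm (xi x) = sqNorm x := by
  simp only [sqNorm]
  rw [← Finset.sum_fiberwise (Finset.univ : Finset GolayPt) tid fun p => xi x p ^ 2,
    ← Finset.sum_fiberwise (Finset.univ : Finset GolayPt) tid fun p => x p ^ 2]
  refine Finset.sum_congr rfl fun t _ => ?_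
  obtain ⟨s, hs⟩ := tsum_even hx t
  have e : ∀ p ∈ Finset.univ.filter (fun q => tid q = t), xi x p ^ 2 = x p ^ 2 - 2 * s * x p + s ^ 2 := by
    intro p hp
    rw [Finset.mem_filter] at hp
    rw [xi, hp.2, hs, Int.mul_ediv_cancel_left _ two_ne_zero]
    split_ifs <;> ring
  rw [Finset.sum_congr rfl e, Finset.sum_add_distrib, Finset.sum_sub_distrib, ← Finset.mul_sum, Finset.sum_const,
    tid_card, show ∑ i ∈ Finset.univ.filter (fun q => tid q = t), x i = 2 * s from hs, nsmul_eq_mul]
  push_cast; ring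

/-- An isometry given by an involutive additive map. -/
def ofInvol (f : (GolayPt → ℤ) → GolayPt → ℤ) (hmem : ∀ x ∈ leechLattice, f x ∈ leechLattice)
    (hadd : ∀ x ∈ leechLattice, ∀ y ∈ leechLattice, f (x + y) = f x + f y)
    (hinv : ∀ x ∈ leechLattice, f (f x) = x) (hnorm : ∀ x ∈ leechLattice, sqNorm (f x) = sqNorm x) : ↥Co0 :=
  ⟨⟨fun v => ⟨f v, hmem v v.2⟩, fun v => ⟨f v, hmem v v.2⟩, fun v => Subtype.ext (hinv v v.2),
      fun v => Subtype.ext (hinv v v.2)⟩,
    fun v w => Subtype.ext (hadd v v.2 w w.2), fun v => hnorm v v.2⟩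

/-- The sextet isometry. -/
def xiCo : ↥Co0 := ofInvol xi (fun _ hx => xi_mem hx) (fun _ hx y _ => xi_add hx y) (fun _ hx => xi_xi hx)
  (fun _ hx => xi_norm hx)

/-- The sign change on a code word. -/
noncomputable def flipCo (c : Finset GolayPt) (hc : c ∈ codeSets) : ↥Co0 :=
  ofInvol (fun x i => if i ∈ c then -x i else x i) (fun _ hx => flip_mem hc hx)
    (fun x _ y _ => by funext i; simp only [Pi.add_apply]; split_ifs <;> ring)
    (fun x _ => by funext i; simp only; split_ifs <;> simp)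
    (fun x _ => by
      refine Finset.sum_congr rfl fun i _ => ?_
      show (if i ∈ c then -x i else x i) ^ 2 = x i ^ 2
      split_ifs <;> ring)

/-- A permutation in the automorphism group of the code. -/
def permCo (σ : Equiv.Perm GolayPt) (hσ : σ ∈ M24) : ↥Co0 :=
  ⟨⟨fun v => ⟨_, perm_mem hσ v.2⟩, fun v => ⟨_, perm_mem (inv_mem hσ) v.2⟩,
      fun v => Subtype.ext (funext fun i => by simp), fun v => Subtype.ext (funext fun i => by simp)⟩,
    fun v w => Subtype.ext rfl, fun v => Equiv.sum_comp σ fun i => ((v : GolayPt → ℤ) i) ^ 2⟩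

end Cfsg.Agent.Lib.Leech
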