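import Cfsg.Agent.Lib.Leech.PairGroups
import Cfsg.Prelude.Def_Spor_Conway

/-!
The sporadic groups defined by fixed vectors, as joint stabilizers.
-/

set_option autoImplicit false

namespace Cfsg.Agent.Lib.Leech

open Cfsg Golay
open scoped Pointwise

theorem leech_vecs : (∀ p, (Spor.leechV : GolayPt → ℤ) p = -(vFive : GolayPt → ℤ) p) ∧
    (∀ p, (Spor.leechU : GolayPt → ℤ) p = (fourFour : GolayPt → ℤ) p) ∧
    (∀ p, (Spor.leechU' : GolayPt → ℤ) p = -(fourNeg : GolayPt → ℤ) p) := by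
  refine ⟨?_, ?_, ?_⟩ <;> decide +kernel

theorem leechV_eq : Spor.leechV = -vFive := Subtype.ext (funext leech_vecs.1)

theorem leechU_eq : Spor.leechU = fourFour := Subtype.ext (funext leech_vecs.2.1)

theorem leechU'_eq : Spor.leechU' = -fourNeg := Subtype.ext (funext leech_vecs.2.2)

theorem smul_neg_iff (g : ↥Co0) (x : ↥leechLattice) : g • (-x) = -x ↔ g • x = x := by
  rw [smul_neg', neg_inj]

/-- A pair stabilizer as a subgroup of permutations of the lattice. -/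
noncomputable def pairStabImage (x : ↥leechLattice) : ↥(pairStab x) ≃* ↥((pairStab x).map Co0.subtype) :=
  (pairStab x).equivMapOfInjective _ Co0.subtype_injective

theorem HS_eq : Spor.HS = (pairStab fourNeg).map Co0.subtype := by
  ext g
  constructor
  · rintro ⟨⟨hg, h1⟩, h2⟩
    rw [leechV_eq] at h1
    rw [leechU'_eq] at h2
    exact ⟨⟨g, hg⟩, ⟨(smul_neg_iff ⟨g, hg⟩ _).1 h1, (smul_neg_iff ⟨g, hg⟩ _).1 h2⟩, rfl⟩
  · rintro ⟨⟨g', hg⟩, ⟨h1, h2⟩, rfl⟩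
    refine ⟨⟨hg, ?_⟩, ?_⟩
    · rw [leechV_eq]; exact (smul_neg_iff ⟨g', hg⟩ _).2 h1
    · rw [leechU'_eq]; exact (smul_neg_iff ⟨g', hg⟩ _).2 h2

theorem McL_eq : Spor.McL = (pairStab fourFour).map Co0.subtype := by
  ext g
  constructor
  · rintro ⟨⟨hg, h1⟩, h2⟩
    rw [leechV_eq] at h1
    rw [leechU_eq] at h2
    exact ⟨⟨g, hg⟩, ⟨(smul_neg_iff ⟨g, hg⟩ _).1 h1, h2⟩, rfl⟩
  · rintro ⟨⟨g', hg⟩, ⟨h1, h2⟩, rfl⟩
    refine ⟨⟨hg, ?_⟩, ?_⟩
    · rw [leechV_eq]; exact (smul_neg_iff ⟨g', hg⟩ _).2 h1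
    · rw [leechU_eq]; exact h2

/-- The Higman–Sims group as a pair stabilizer. -/
noncomputable def hsEquiv : ↥(pairStab fourNeg) ≃* ↥Spor.HS :=
  (pairStabImage fourNeg).trans (MulEquiv.subgroupCongr HS_eq.symm)

/-- The McLaughlin group as a pair stabilizer. -/
noncomputable def mclEquiv : ↥(pairStab fourFour) ≃* ↥Spor.McL :=
  (pairStabImage fourFour).trans (MulEquiv.subgroupCongr McL_eq.symm)

end Cfsg.Agent.Lib.Leech
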