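import Cfsg.Agent.Lib.Leech.Crosses
import Cfsg.Agent.Lib.Leech.Census

/-!
The monomial stabilizer of the standard cross, the order and the centre of the isometry group.
-/

set_option autoImplicit false

namespace Cfsg.Agent.Lib.Leech

open Cfsg Golay
open scoped Pointwise

theorem eight_expand (x : ↥leechLattice) : (8 : ℤ) • x = ∑ i, (x : GolayPt → ℤ) i • e8 i := by
  apply Subtype.ext
  rw [AddSubgroup.coe_zsmul, AddSubgroup.val_finsetSum]
  funext p
  simp [coe_e8, Pi.single_apply, Finset.sum_apply, mul_comm]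

theorem co_ext {g h : ↥Co0} (e : ∀ i, g • e8 i = h • e8 i) : g = h := by
  apply Subtype.ext
  apply Equiv.ext
  intro x
  have hh : coHom g ((8 : ℤ) • x) = coHom h ((8 : ℤ) • x) := by
    rw [eight_expand, map_sum, map_sum]
    refine Finset.sum_congr rfl fun i _ => ?_
    rw [map_zsmul, map_zsmul]
    exact congrArg _ (e i)
  rw [map_zsmul, map_zsmul] at hh
  apply Subtype.ext
  funext p
  have h8 := congrArg (fun t : ↥leechLattice => (t : GolayPt → ℤ) p) hh
  simp only [AddSubgroup.coe_zsmul, Pi.smul_apply, smul_eq_mul] at h8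
  exact mul_left_cancel₀ (by norm_num : (8 : ℤ) ≠ 0) h8

/-- A code set separating two points. -/
theorem exists_sep {p q : GolayPt} (h : p ≠ q) : ∃ c ∈ codeSets, p ∉ c ∧ q ∈ c := by
  have hO : toSet 0x49f002 ∈ codeSets := codeSet_of_mask (by decide +kernel)
  obtain ⟨a, b, ha, hb⟩ : ∃ a b : GolayPt, a ∈ toSet 0x49f002 ∧ b ∉ toSet 0x49f002 :=
    ⟨pt 1, pt 0, by simp only [mem_toSet]; decide +kernel, by simp only [mem_toSet]; decide +kernel⟩
  obtain ⟨σ, hσ, h1, h2⟩ := M24_trans_pairs h (show b ≠ a from fun e => hb (e ▸ ha))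
  refine ⟨σ⁻¹ • toSet 0x49f002, mem_codeSets_smul (inv_mem hσ) hO, ?_, ?_⟩
  · rw [← Finset.inv_smul_mem_iff, inv_inv, Equiv.Perm.smul_def, h1]; exact hb
  · rw [← Finset.inv_smul_mem_iff, inv_inv, Equiv.Perm.smul_def, h2]; exact ha
where
  codeSet_of_mask {m : ℕ} (h : isCode m = true) : toSet m ∈ codeSets := mem_codeSets.2 ⟨m, h, rfl⟩

theorem flip_e8 {c : Finset GolayPt} (hc : c ∈ codeSets) (i : GolayPt) :
    flipCo c hc • e8 i = if i ∈ c then -e8 i else e8 i := by
  apply Subtype.ext
  funext p
  show (if p ∈ c then -(e8 i : GolayPt → ℤ) p else (e8 i : GolayPt → ℤ) p) = _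
  rw [coe_e8]
  by_cases hp : p = i
  · subst hp
    split_ifs <;> simp [coe_e8]
  · simp only [Pi.single_eq_of_ne hp, neg_zero, ite_self]
    split_ifs <;> simp [coe_e8, hp]

theorem perm_e8 {σ : Equiv.Perm GolayPt} (hσ : σ ∈ M24) (i : GolayPt) : permCo σ hσ • e8 i = e8 (σ.symm i) := by
  apply Subtype.ext
  funext p
  show (e8 i : GolayPt → ℤ) (σ p) = _
  rw [coe_e8, coe_e8]
  simp only [Pi.single_apply, Equiv.eq_symm_apply]

theorem smul_neg' (g : ↥Co0) (x : ↥leechLattice) : g • (-x) = -(g • x) := map_neg (coHom g) x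

theorem e8_inj {i j : GolayPt} (h : e8 i = e8 j) : i = j := by
  have := congrArg (fun t : ↥leechLattice => (t : GolayPt → ℤ) i) h
  simp only [coe_e8, Pi.single_eq_same] at this
  by_contra e
  rw [Pi.single_eq_of_ne e] at this
  omega

theorem e8_ne_neg (i j : GolayPt) : e8 i ≠ -e8 j := by
  intro h
  have := congrArg (fun t : ↥leechLattice => (t : GolayPt → ℤ) i) h
  simp only [AddSubgroup.coe_neg, Pi.neg_apply, coe_e8, Pi.single_eq_same] at this
  by_cases e : i = j
  · subst e; simp at this
  · rw [Pi.single_eq_of_ne e] at this; omega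

/-- Monomial elements. -/
noncomputable def mono (a : ↥codeFinset × ↥M24) : ↥Co0 :=
  permCo (a.2 : Equiv.Perm GolayPt) a.2.2 * flipCo a.1 (mem_codeFinset.1 a.1.2)

theorem mono_e8 (a : ↥codeFinset × ↥M24) (i : GolayPt) :
    mono a • e8 i = if i ∈ (a.1 : Finset GolayPt) then -e8 ((a.2 : Equiv.Perm GolayPt).symm i) else e8 ((a.2 : Equiv.Perm GolayPt).symm i) := by
  rw [mono, mul_smul, flip_e8]
  split_ifs
  · rw [smul_neg', perm_e8]
  · rw [perm_e8]

theorem mono_mem (a : ↥codeFinset × ↥M24) : mono a • cross0 = cross0 := by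
  have key : mono a • cross0 ⊆ cross0 := by
    rintro _ ⟨x, hx, rfl⟩
    rcases hx with ⟨i, rfl⟩ | ⟨i, rfl⟩
    · show mono a • e8 i ∈ cross0
      rw [mono_e8]; split_ifs
      · exact Or.inr ⟨_, rfl⟩
      · exact Or.inl ⟨_, rfl⟩
    · show mono a • (-e8 i) ∈ cross0
      rw [smul_neg', mono_e8]; split_ifs
      · exact Or.inl ⟨_, (neg_neg _).symm⟩
      · exact Or.inr ⟨_, rfl⟩
  refine Set.eq_of_subset_of_ncard_le key ?_ ?_
  · rw [Set.ncard_smul_set]
  · exact Set.finite_of_ncard_pos (by rw [ncard_cross0]; norm_num)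

theorem stab_cases {g : ↥Co0} (hg : g • cross0 = cross0) : ∃ a, mono a = g := by
  classical
  have h : ∀ i, ∃ (j : GolayPt) (b : Bool), g • e8 i = if b then -e8 j else e8 j := by
    intro i
    have : g • e8 i ∈ cross0 := hg.le ⟨e8 i, Or.inl ⟨i, rfl⟩, rfl⟩
    rcases this with ⟨j, hj⟩ | ⟨j, hj⟩
    · exact ⟨j, false, by simpa using hj.symm⟩
    · exact ⟨j, true, by simpa using hj.symm⟩
  choose τ b hτ using h
  have hinj : Function.Injective τ := by
    intro i k e
    have h1 := hτ i; have h2 := hτ k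
    rw [e] at h1
    rcases hb : b i <;> rcases hb' : b k <;> simp only [hb, hb', Bool.false_eq_true, if_false, if_true] at h1 h2
    · exact e8_inj (MulAction.injective g (h1.trans h2.symm))
    · have : g • e8 i = g • (-e8 k) := by rw [smul_neg', h1, h2, neg_neg]
      exact absurd (MulAction.injective g this) (e8_ne_neg i k)
    · have : g • e8 i = g • (-e8 k) := by rw [smul_neg', h1, h2]
      exact absurd (MulAction.injective g this) (e8_ne_neg i k)
    · exact e8_inj (MulAction.injective g (h1.trans h2.symm))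
  let ρ : Equiv.Perm GolayPt := Equiv.ofBijective τ (Finite.injective_iff_bijective.1 hinj)
  have himg : ∀ (x : ↥leechLattice) i, ((g • x : ↥leechLattice) : GolayPt → ℤ) (τ i) =
      if b i then -(x : GolayPt → ℤ) i else (x : GolayPt → ℤ) i := by
    intro x i
    have h8 := congrArg (coHom g) (eight_expand x)
    rw [map_zsmul, map_sum] at h8
    simp only [map_zsmul] at h8
    have h8' := congrArg (fun t : ↥leechLattice => (t : GolayPt → ℤ) (τ i)) h8
    simp only [AddSubgroup.val_finsetSum, AddSubgroup.coe_zsmul, Finset.sum_apply, Pi.smul_apply, smul_eq_mul] at h8'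
    rw [Finset.sum_eq_single i] at h8'
    · rw [show coHom g (e8 i) = g • e8 i from rfl, hτ] at h8'
      change 8 * ((g • x : ↥leechLattice) : GolayPt → ℤ) (τ i) = _ at h8'
      cases hb : b i <;> simp only [hb, Bool.false_eq_true, if_false, if_true] at h8' ⊢ <;>
        simp only [AddSubgroup.coe_neg, Pi.neg_apply, coe_e8, Pi.single_eq_same] at h8' <;> omega
    · intro k _ hk
      rw [show coHom g (e8 k) = g • e8 k from rfl, hτ]
      have : τ i ≠ τ k := fun e => hk (hinj e).symm
      cases b k <;> simp [coe_e8, this]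
    · simp
  have hρ : ρ ∈ M24 := by
    rw [MulAction.mem_stabilizer_iff]
    have key : ρ • codeSets ⊆ codeSets := by
      rintro _ ⟨c, hc, rfl⟩
      have hx : (fun p => if p ∈ c then (2 : ℤ) else 0) ∈ leechLattice := by
        refine mem_iff.2 ⟨0, fun p => if p ∈ c then 1 else 0, Or.inl rfl, fun p => by dsimp only; split_ifs <;> norm_num, ?_, ?_⟩
        · rw [← Finset.sum_filter, Finset.sum_const, Finset.filter_mem_eq_inter, Finset.univ_inter, nsmul_eq_mul]
          have := card_cases hc
          omega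
        · convert ind_mem hc using 1
          funext p; by_cases h : p ∈ c <;> simp [h]
      obtain ⟨m, y, hm, hy, -, hyc⟩ := mem_iff.1 (g • (⟨_, hx⟩ : ↥leechLattice)).2
      have e : support₂ (fun p => (y p : ZMod 2)) = ρ • c := by
        rw [support_cast]
        ext p
        obtain ⟨i, rfl⟩ := ρ.surjective p
        have h1 := himg ⟨_, hx⟩ i
        have h2 := hy (τ i)
        rw [h1] at h2
        rw [Finset.mem_filter]
        show _ ↔ ρ • i ∈ ρ • c
        rw [Finset.smul_mem_smul_finset_iff]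
        simp only [Finset.mem_univ, true_and]
        change ¬ (2 : ℤ) ∣ y (τ i) ↔ _
        by_cases hi : i ∈ c <;> cases b i <;>
          simp only [hi, Bool.false_eq_true, if_false, if_true] at h2 <;> rcases hm with rfl | rfl <;>
          simp only [hi, iff_true, iff_false] <;> omega
      show ρ • c ∈ codeSets
      rw [← e]
      exact support_mem hyc
    exact Set.eq_of_subset_of_ncard_le key (by rw [Set.ncard_smul_set]) (Set.toFinite _)
  -- the set of sign changes
  have hS : (Finset.univ.filter fun i => b i = true) ∈ codeSets := by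
    obtain ⟨m, y, hm, hy, -, hyc⟩ := mem_iff.1 (g • (⟨oddVec, oddVec_mem⟩ : ↥leechLattice)).2
    have e : (Finset.univ.filter fun i => b i = true) = ρ⁻¹ • support₂ (fun p => (y p : ZMod 2)) := by
      rw [support_cast]
      ext i
      rw [Finset.mem_inv_smul_finset_iff, Finset.mem_filter, Finset.mem_filter]
      simp only [Finset.mem_univ, true_and]
      change _ ↔ ¬ (2 : ℤ) ∣ y (τ i)
      have h1 := himg ⟨oddVec, oddVec_mem⟩ i
      have h2 := hy (τ i)
      rw [h1] at h2
      have hodd : (oddVec i = 5 ∨ oddVec i = 1) := by unfold oddVec; split_ifs <;> simp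
      constructor
      · intro h
        simp only [h, if_true] at h2
        rcases hodd with a | a <;> rcases hm with rfl | rfl <;> simp only [a] at h2 <;> omega
      · intro h
        by_contra hb
        simp only [Bool.not_eq_true] at hb
        simp only [hb, Bool.false_eq_true, if_false] at h2
        rcases hodd with a | a <;> rcases hm with rfl | rfl <;> simp only [a] at h2 <;> omega
    exact e ▸ mem_codeSets_smul (inv_mem hρ) (support_mem hyc)
  refine ⟨(⟨_, mem_codeFinset.2 hS⟩, ⟨ρ⁻¹, inv_mem hρ⟩), co_ext fun i => ?_⟩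
  rw [mono_e8, hτ]
  simp only [Finset.mem_filter, Finset.mem_univ, true_and]
  rfl

theorem mono_injective : Function.Injective mono := by
  intro a a' h
  have key : ∀ i, (i ∈ (a.1 : Finset GolayPt) ↔ i ∈ (a'.1 : Finset GolayPt)) ∧
      (a.2 : Equiv.Perm GolayPt).symm i = (a'.2 : Equiv.Perm GolayPt).symm i := by
    intro i
    have h1 := congrArg (· • e8 i) h
    simp only [mono_e8] at h1
    split_ifs at h1 with x y y
    · exact ⟨iff_of_true x y, e8_inj (neg_injective h1)⟩
    · exact absurd h1.symm (e8_ne_neg _ _)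
    · exact absurd h1 (e8_ne_neg _ _)
    · exact ⟨iff_of_false x y, e8_inj h1⟩
  refine Prod.ext (Subtype.ext (Finset.ext fun i => (key i).1)) (Subtype.ext ?_)
  exact Equiv.symm_bijective.injective (Equiv.ext fun i => (key i).2)

theorem card_stab : Nat.card (MulAction.stabilizer ↥Co0 cross0) = 4096 * 244823040 := by
  rw [← card_codeFinset, ← M24_card, ← Nat.card_eq_finsetCard, ← Nat.card_prod]
  refine (Nat.card_eq_of_bijective (fun a => (⟨mono a, mono_mem a⟩ : MulAction.stabilizer ↥Co0 cross0)) ⟨?_, ?_⟩).symm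
  · exact fun a a' h => mono_injective (congrArg Subtype.val h)
  · rintro ⟨g, hg⟩
    obtain ⟨a, ha⟩ := stab_cases hg
    exact ⟨a, Subtype.ext ha⟩

/-- The class of a norm 64 vector. -/
def classOf (v : ↥leechLattice) : Set ↥leechLattice := {x | sqNorm (x : GolayPt → ℤ) = 64 ∧ Cong x v}

theorem smul_classOf (g : ↥Co0) (v : ↥leechLattice) : g • classOf v = classOf (g • v) := by
  ext y
  constructor
  · rintro ⟨x, ⟨hx, hc⟩, rfl⟩
    exact ⟨(Same.sqNorm_eq ⟨g, rfl⟩).trans hx, hc.smul g⟩
  · rintro ⟨hy, hc⟩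
    refine ⟨g⁻¹ • y, ⟨(Same.sqNorm_eq ⟨g⁻¹, rfl⟩).trans hy, ?_⟩, smul_inv_smul g y⟩
    have := hc.smul g⁻¹
    rwa [inv_smul_smul] at this

theorem classOf_congr {v w : ↥leechLattice} (h : Cong v w) : classOf v = classOf w :=
  Set.ext fun _ => and_congr_right fun _ => ⟨fun h' => h'.trans h, fun h' => h'.trans h.symm⟩

theorem classOf_e8 : classOf (e8 none) = cross0 := Set.ext fun _ => mem_cross0.symm

theorem ncard_orbit : (MulAction.orbit ↥Co0 cross0).ncard * 48 = 398034000 := by
  classical
  have hfin : {x : ↥leechLattice | sqNorm (x : GolayPt → ℤ) = 64}.Finite := by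
    have hc := census_all 64 le_rfl
    have hf : {x : GolayPt → ℤ | x ∈ leechLattice ∧ sqNorm x = 64}.Finite :=
      Set.finite_of_ncard_pos (by rw [hc]; decide +kernel)
    exact Set.Finite.subset (hf.preimage Subtype.val_injective.injOn) fun x hx => ⟨x.2, hx⟩
  have hcard : hfin.toFinset.card = 398034000 := by
    rw [← Set.ncard_eq_toFinset_card _ hfin, ← Set.ncard_image_of_injective _ Subtype.val_injective]
    have : Subtype.val '' {x : ↥leechLattice | sqNorm (x : GolayPt → ℤ) = 64} =
        {x : GolayPt → ℤ | x ∈ leechLattice ∧ sqNorm x = 64} := by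
      ext y
      exact ⟨fun ⟨x, hx, e⟩ => e ▸ ⟨x.2, hx⟩, fun ⟨h, h'⟩ => ⟨⟨y, h⟩, h', rfl⟩⟩
    rw [this, census_all 64 le_rfl]
    decide +kernel
  have horb : MulAction.orbit ↥Co0 cross0 = ((hfin.toFinset.image classOf : Finset (Set ↥leechLattice)) : Set (Set ↥leechLattice)) := by
    ext S
    rw [Finset.coe_image, Set.mem_image]
    constructor
    · rintro ⟨g, rfl⟩
      exact ⟨g • e8 none, hfin.mem_toFinset.2 ((Same.sqNorm_eq ⟨g, rfl⟩).trans (sqNorm_e8 none)),
        by rw [← smul_classOf, classOf_e8]⟩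
    · rintro ⟨v, hv, rfl⟩
      obtain ⟨g, hg⟩ := cross v (hfin.mem_toFinset.1 hv)
      refine ⟨g⁻¹, ?_⟩
      show g⁻¹ • cross0 = _
      rw [← classOf_e8, ← classOf_congr hg, smul_classOf, inv_smul_smul]
  rw [horb, Set.ncard_coe_finset, ← hcard,
    Finset.card_eq_sum_card_image classOf hfin.toFinset, Finset.sum_congr rfl (g := fun _ => 48), Finset.sum_const, smul_eq_mul]
  intro S hS
  obtain ⟨v, hv, rfl⟩ := Finset.mem_image.1 hS
  have hv' := hfin.mem_toFinset.1 hv
  rw [← class_card v hv', ← Set.ncard_coe_finset]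
  congr 1
  ext x
  simp only [Finset.coe_filter, Set.Finite.mem_toFinset, Set.mem_setOf_eq]
  constructor
  · rintro ⟨hx, he⟩
    have : x ∈ classOf x := ⟨hx, Cong.refl x⟩
    rw [he] at this
    exact this
  · rintro ⟨hx, hc⟩
    exact ⟨hx, classOf_congr hc⟩

theorem card_Co0 : Nat.card ↥Co0 = 8315553613086720000 := by
  have h1 : (MulAction.orbit ↥Co0 cross0).ncard = 8292375 := by have := ncard_orbit; omega
  rw [← Subgroup.card_mul_index (MulAction.stabilizer ↥Co0 cross0), card_stab, MulAction.index_stabilizer, h1]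

/-- Negation. -/
def negCo : ↥Co0 := ofInvol (fun x => -x) (fun _ hx => neg_mem hx) (fun _ _ _ _ => neg_add _ _)
  (fun _ _ => neg_neg _) (fun x _ => by simp [sqNorm])

theorem negCo_smul (x : ↥leechLattice) : negCo • x = -x := rfl

theorem center_cases {g : ↥Co0} (hg : g ∈ Subgroup.center ↥Co0) : g = 1 ∨ g = negCo := by
  have hcomm : ∀ (h : ↥Co0) (x : ↥leechLattice), h • g • x = g • h • x := fun h x => by
    rw [← mul_smul, ← mul_smul, Subgroup.mem_center_iff.1 hg h]
  set w := g • e8 none with hw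
  have h0 : ∀ i, i ≠ none → (w : GolayPt → ℤ) i = 0 := by
    intro i hi
    obtain ⟨c, hc, hn, hin⟩ := exists_sep (Ne.symm hi)
    have e : flipCo c hc • w = w := by rw [hw, hcomm, flip_e8, if_neg hn]
    have := congrArg (fun t : ↥leechLattice => (t : GolayPt → ℤ) i) e
    change (if i ∈ c then -(w : GolayPt → ℤ) i else (w : GolayPt → ℤ) i) = _ at this
    rw [if_pos hin] at this
    omega
  have hw64 : (w : GolayPt → ℤ) none = 8 ∨ (w : GolayPt → ℤ) none = -8 := by
    have h := (Same.sqNorm_eq (x := e8 none) (y := w) ⟨g, rfl⟩).trans (sqNorm_e8 none)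
    rw [sqNorm, Finset.sum_eq_single none (fun b _ hb => by rw [h0 b hb]; rfl) (fun h => absurd (Finset.mem_univ _) h)] at h
    have : ((w : GolayPt → ℤ) none - 8) * ((w : GolayPt → ℤ) none + 8) = 0 := by linarith
    rcases mul_eq_zero.1 this with a | a
    · left; omega
    · right; omega
  have hw2 : w = e8 none ∨ w = -e8 none := by
    rcases hw64 with a | a
    · left
      refine Subtype.ext (funext fun i => ?_)
      rw [coe_e8]
      by_cases hi : i = none
      · subst hi; simp [a]
      · simp [hi, h0 i hi]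
    · right
      refine Subtype.ext (funext fun i => ?_)
      rw [AddSubgroup.coe_neg, coe_e8]
      by_cases hi : i = none
      · subst hi; simp [a]
      · simp [hi, h0 i hi]
  have hall : ∀ i, (w = e8 none → g • e8 i = e8 i) ∧ (w = -e8 none → g • e8 i = -e8 i) := by
    intro i
    obtain ⟨σ, hσ, h1⟩ := exists_M24_map (k := 1) (by norm_num) ![i] ![none]
      (fun a b _ => Subsingleton.elim a b) (fun a b _ => Subsingleton.elim a b)
    have hσi : σ.symm none = i := by
      rw [Equiv.symm_apply_eq]; exact (h1 0).symm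
    constructor <;> intro e
    · rw [← hσi, ← perm_e8 hσ none, ← hcomm, ← hw, e]
    · rw [← hσi, ← perm_e8 hσ none, ← hcomm, ← hw, e, smul_neg']
  rcases hw2 with e | e
  · left; exact co_ext fun i => by rw [(hall i).1 e, one_smul]
  · right; exact co_ext fun i => by rw [(hall i).2 e, negCo_smul]

theorem card_center : Nat.card (Subgroup.center ↥Co0) = 2 := by
  have hneg : negCo ∈ Subgroup.center ↥Co0 := Subgroup.mem_center_iff.2 fun h => co_ext fun i => by
    rw [mul_smul, mul_smul, negCo_smul, negCo_smul, smul_neg']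
  have hne : negCo ≠ 1 := fun e => by
    have h := congrArg (· • e8 none) e
    simp only [negCo_smul, one_smul] at h
    exact e8_ne_neg none none h.symm
  rw [Nat.card_eq_two_iff' (1 : Subgroup.center ↥Co0)]
  refine ⟨⟨negCo, hneg⟩, fun e => hne (congrArg Subtype.val e), ?_⟩
  rintro ⟨g, hg⟩ hg1
  rcases center_cases hg with e | e
  · exact absurd (Subtype.ext e) hg1
  · exact Subtype.ext e

end Cfsg.Agent.Lib.Leech
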