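import Cfsg.Agent.Lib.Leech.Words

/-! Spanning trees for some suborbits. -/

set_option autoImplicit false
set_option maxRecDepth 20000

namespace Cfsg.Agent.Lib.Leech.SubOrb

def mcBlockGens : List (List Op) := [
  [.perm 984720318083293386171020239853207200, .perm 975681614181179578364395677514404416, .perm 975681614181179578364395677514404416, .perm 984720318083293386171020239853207200, .perm 975681614181179578364395677514404416, .perm 984720318083293386171020239853207200, .perm 972852829426176772889562282409315488, .perm 972852829426176772889562282409315488, .perm 983999421392256391462397223812637184, .perm 972852829426176772889562282409315488, .perm 972852829426176772889562282409315488, .perm 972852829426176772889562282409315488, .perm 972852829426176772889562282409315488, .perm 972852829426176772889562282409315488],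
  [.perm 975681614181179578364395677514404416, .perm 975681614181179578364395677514404416, .perm 984720318083293386171020239853207200, .perm 975681614181179578364395677514404416, .perm 983999421392256391462397223812637184, .perm 967735972602132343148942353369487976, .perm 967735972602132343148942353369487976, .sext, .flip 8241104, .perm 552008174849838304979606382336911475, .flip 8241104, .sext, .perm 262498328562369344188227987756944561, .perm 958241225628886311854360080399355021, .perm 958241225628886311854360080399355021, .perm 984639527609615198651048301965921954, .perm 972852829426176772889562282409315488, .perm 972852829426176772889562282409315488, .perm 972852829426176772889562282409315488, .perm 983999421392256391462397223812637184]]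

def mcBlock : ℕ := 11681169922751361070010106189286250095966431

def negFour : ℕ := 9933566065615327173164223714701502297802788

def mcBlockTree_0 : List (ℕ × ℕ) := [
  (0, 0), (0, 0), (0, 0), (0, 0), (1, 0), (0, 0), (0, 0), (2, 1), (2, 2), (0, 0), (2, 1), (1, 0), (1, 5), (0, 0),
  (0, 0), (0, 0), (1, 0), (2, 1), (1, 2), (0, 0), (1, 1), (0, 0), (2, 2), (2, 3), (0, 0), (2, 1), (1, 3), (0, 0),
  (0, 0), (1, 0), (1, 0), (2, 1), (1, 3), (0, 0), (2, 2), (1, 2), (0, 0), (2, 0), (1, 2), (0, 0), (1, 1), (2, 0),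
  (2, 3), (2, 3), (0, 0), (1, 0), (0, 0), (1, 1), (1, 3), (0, 0), (1, 0), (2, 2), (0, 0), (2, 3), (1, 0), (1, 0),
  (2, 5), (0, 0), (0, 0), (0, 0), (2, 0), (2, 2), (1, 0), (1, 3), (0, 0), (1, 0), (1, 2), (0, 0), (1, 1), (2, 2),
  (2, 2), (0, 0), (2, 0), (1, 2), (1, 0), (2, 2), (0, 0), (1, 4), (0, 0), (0, 0), (0, 0), (2, 1), (1, 2), (2, 1),
  (0, 0), (0, 0), (1, 2), (1, 0), (1, 4), (0, 0), (2, 0), (2, 0), (1, 3), (2, 1), (0, 0), (2, 3), (0, 0), (1, 0),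
  (2, 1), (1, 2), (2, 3), (0, 0), (1, 0), (0, 0), (2, 2), (1, 0), (1, 3), (0, 0), (0, 0), (1, 1), (1, 2), (0, 0),
  (2, 2), (0, 0), (2, 1), (2, 3), (2, 0), (1, 0), (2, 1), (1, 6), (0, 0), (0, 0), (1, 0), (0, 0), (1, 1), (2, 1),
  (2, 0), (2, 3), (0, 0), (0, 0), (1, 1), (2, 2), (1, 0), (2, 1), (1, 4), (0, 0), (2, 0), (1, 2), (0, 0), (1, 1),
  (0, 0), (1, 1), (2, 1), (2, 2), (0, 0), (2, 1), (2, 3), (0, 0), (2, 1), (2, 0), (2, 4), (0, 0), (0, 0), (2, 0),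
  (2, 2), (1, 2), (0, 0), (1, 0), (1, 2), (2, 2), (0, 0), (2, 0), (2, 2), (1, 4), (0, 0), (0, 0), (2, 0), (1, 0),
  (2, 1), (1, 3), (1, 0), (2, 2), (0, 0), (1, 1), (2, 0), (1, 4), (0, 0), (2, 0), (0, 0), (1, 1), (1, 3), (0, 0),
  (0, 0), (1, 1), (2, 1), (1, 2), (2, 0), (2, 3), (0, 0), (2, 0), (1, 2), (2, 0), (2, 2), (0, 0), (1, 1), (2, 4),
  (0, 0), (0, 0), (0, 0), (2, 1), (2, 2), (1, 2), (1, 0), (0, 0), (2, 2), (2, 2), (0, 0), (1, 0), (2, 1), (1, 2),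
  (2, 0), (2, 5), (0, 0), (1, 0), (2, 1), (2, 0), (1, 0), (2, 1), (1, 0), (1, 5), (0, 0), (1, 0), (0, 0), (1, 3),
  (0, 0), (2, 1), (2, 0), (2, 3), (2, 0), (0, 0), (2, 4), (1, 0), (2, 1), (0, 0), (0, 0), (1, 0), (1, 3), (2, 1),
  (2, 5), (0, 0), (2, 0), (0, 0), (0, 0), (1, 0), (2, 2), (1, 2), (1, 0), (1, 0), (2, 3), (0, 0), (2, 1), (2, 0),
  (2, 0), (1, 6), (0, 0), (0, 0), (1, 0), (1, 2), (2, 1), (0, 0), (0, 0), (1, 2), (2, 1), (1, 0), (2, 1), (1, 4),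
  (0, 0), (2, 0), (1, 0), (2, 3), (0, 0), (0, 0), (1, 1), (1, 2), (0, 0), (2, 2), (2, 0), (2, 4), (0, 0), (0, 0),
  (1, 1), (1, 0), (1, 3), (2, 0), (2, 2), (0, 0), (0, 0), (1, 1), (2, 1), (2, 2), (1, 0), (2, 5), (0, 0), (0, 0),
  (1, 0), (1, 0), (2, 1), (2, 0), (1, 4), (0, 0), (0, 0), (1, 1), (2, 1), (2, 3), (0, 0), (0, 0), (2, 1), (2, 0),
  (2, 3), (0, 0), (1, 1), (1, 4), (1, 0), (0, 0), (1, 1), (2, 0), (2, 2), (2, 2), (0, 0), (2, 0), (1, 2), (2, 0),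
  (2, 2), (2, 3), (0, 0), (1, 0), (0, 0), (2, 1), (2, 2), (1, 0), (2, 1), (1, 3), (0, 0), (0, 0), (1, 1), (2, 2),
  (1, 6), (0, 0), (0, 0), (0, 0), (1, 0), (2, 1), (0, 0), (1, 1), (1, 0), (1, 4), (0, 0), (0, 0), (0, 0), (1, 1),
  (1, 2), (2, 0), (2, 2), (1, 0), (1, 3), (0, 0), (2, 2), (1, 0), (0, 0), (1, 1), (2, 1), (2, 2), (0, 0), (2, 4),
  (0, 0), (1, 0), (2, 1), (0, 0), (1, 1), (1, 3), (0, 0), (1, 0), (1, 2), (2, 1), (2, 0), (2, 3), (0, 0), (2, 1),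
  (1, 4), (0, 0), (0, 0), (1, 0), (0, 0), (2, 1), (2, 0), (1, 4), (1, 0), (2, 1), (0, 0), (2, 3), (1, 0), (1, 3),
  (0, 0), (0, 0), (1, 1), (0, 0), (1, 1), (1, 3), (0, 0), (1, 1), (1, 0), (2, 2), (0, 0), (2, 4), (0, 0), (0, 0),
  (1, 0), (1, 2), (1, 2), (0, 0), (0, 0), (1, 2), (2, 1), (2, 2), (0, 0), (2, 4), (0, 0), (0, 0), (1, 0), (0, 0),
  (1, 1), (2, 2), (1, 0), (1, 3), (2, 1), (0, 0), (1, 1), (2, 1), (0, 0), (1, 4), (0, 0), (0, 0), (1, 1), (0, 0),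
  (1, 3), (0, 0), (1, 1), (1, 0), (2, 3), (0, 0), (1, 1), (1, 0), (2, 2), (2, 3), (0, 0), (0, 0), (1, 1), (1, 0),
  (2, 2), (0, 0), (1, 1), (1, 3), (0, 0), (0, 0), (1, 2), (2, 2), (0, 0), (0, 0), (1, 2), (1, 0), (1, 6), (0, 0),
  (0, 0), (0, 0), (0, 0), (1, 1), (0, 0), (2, 2), (2, 0), (2, 3), (2, 0), (1, 3), (0, 0), (0, 0), (2, 0), (2, 2),
  (2, 2), (0, 0), (2, 0), (2, 4), (0, 0), (1, 0), (1, 0), (2, 2), (0, 0), (2, 1), (1, 3), (0, 0), (2, 2), (1, 0),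
  (0, 0), (2, 1), (2, 2), (1, 4), (0, 0), (0, 0), (0, 0), (1, 1), (1, 2), (0, 0)]

def mcBlockTree_1 : List (ℕ × ℕ) := [
  (1, 0), (2, 1), (1, 2), (1, 3), (1, 0), (0, 0), (1, 0), (1, 2), (0, 0), (2, 1), (2, 2), (1, 0), (2, 3), (0, 0),
  (1, 1), (2, 3), (1, 0), (0, 0), (1, 0), (1, 2), (1, 0), (2, 1), (2, 2), (2, 4), (0, 0), (1, 1), (0, 0), (0, 0),
  (1, 0), (1, 0), (2, 3), (1, 2), (1, 0), (2, 2), (0, 0), (1, 1), (2, 1), (2, 0), (2, 4), (0, 0), (0, 0), (1, 0),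
  (0, 0), (1, 3), (2, 1), (0, 0), (2, 1), (1, 3), (0, 0), (2, 1), (2, 2), (2, 4), (0, 0), (0, 0), (0, 0), (0, 0),
  (1, 1), (1, 0), (1, 3), (1, 0), (2, 1), (0, 0), (2, 3), (0, 0), (2, 1), (2, 0), (1, 4), (0, 0), (0, 0), (1, 1),
  (2, 0), (2, 2), (1, 0), (1, 3), (0, 0), (1, 1), (1, 0), (2, 1), (2, 2), (2, 2), (2, 0), (1, 0), (2, 4), (0, 0),
  (1, 0), (2, 1), (1, 2), (1, 0), (2, 1), (1, 0), (2, 3), (0, 0), (0, 0), (1, 2), (1, 4), (0, 0), (0, 0), (0, 0),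
  (1, 2), (2, 1), (0, 0), (0, 0), (2, 1), (1, 2), (1, 3), (0, 0), (0, 0), (1, 1), (2, 1), (2, 0), (1, 3), (1, 0),
  (2, 1), (0, 0), (2, 4), (0, 0), (1, 0), (1, 2), (1, 0), (1, 0), (2, 1), (2, 2), (1, 0), (2, 3), (0, 0), (0, 0),
  (2, 5), (0, 0), (0, 0), (0, 0), (2, 0), (1, 2), (2, 0), (2, 2), (1, 2), (0, 0), (1, 0), (2, 1), (1, 2), (1, 3),
  (0, 0), (0, 0), (2, 0), (1, 2), (1, 2), (0, 0), (1, 1), (1, 0), (2, 3), (2, 2), (0, 0), (0, 0), (2, 2), (1, 0),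
  (2, 1), (2, 6), (0, 0), (0, 0), (0, 0), (0, 0), (1, 0), (1, 2), (1, 0), (1, 0), (2, 3), (0, 0), (2, 0), (1, 2),
  (0, 0), (2, 1), (1, 4), (0, 0), (0, 0), (0, 0), (1, 1), (1, 2), (1, 2), (0, 0), (1, 1), (2, 0), (2, 2), (2, 2),
  (2, 2), (0, 0), (1, 0), (0, 0), (2, 5), (0, 0), (0, 0), (0, 0), (1, 1), (1, 0), (2, 1), (2, 2), (1, 2), (2, 1),
  (1, 2), (0, 0), (1, 0), (2, 1), (1, 0), (1, 3), (1, 0), (2, 2), (0, 0), (2, 1), (0, 0), (2, 4), (0, 0), (0, 0),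
  (2, 0), (1, 3), (2, 1), (0, 0), (0, 0), (1, 2), (2, 1), (2, 0), (2, 0), (1, 7), (0, 0), (0, 0), (0, 0), (0, 0),
  (1, 2), (0, 0), (0, 0), (1, 2), (2, 0), (2, 3), (1, 0), (0, 0), (2, 1), (1, 4), (0, 0), (0, 0), (1, 0), (1, 2),
  (1, 0), (1, 3), (0, 0), (2, 0), (2, 2), (2, 2), (0, 0), (0, 0), (2, 1), (2, 2), (1, 4), (0, 0), (0, 0), (0, 0),
  (0, 0), (1, 1), (2, 2), (1, 0), (1, 4), (0, 0), (0, 0), (0, 0), (1, 2), (1, 0), (2, 2), (1, 2), (1, 0), (0, 0),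
  (2, 1), (2, 2), (2, 2), (1, 0), (1, 0), (2, 2), (2, 0), (2, 4), (1, 0), (2, 0), (2, 2), (2, 0), (1, 0), (2, 5),
  (0, 0), (0, 0), (0, 0), (1, 0), (2, 1), (0, 0), (1, 3), (0, 0), (2, 2), (0, 0), (1, 1), (2, 1), (1, 3), (0, 0),
  (0, 0), (2, 2), (0, 0), (2, 1), (2, 3), (0, 0), (2, 0), (1, 4), (2, 0), (2, 0), (2, 3), (0, 0), (1, 0), (0, 0),
  (2, 2), (2, 2), (2, 0), (0, 0), (1, 1), (2, 6), (0, 0), (0, 0), (0, 0), (1, 0), (2, 1), (1, 2), (0, 0), (1, 1),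
  (2, 1), (2, 0), (2, 3), (0, 0), (1, 0), (2, 2), (0, 0), (1, 4), (0, 0), (0, 0), (2, 0), (1, 2), (0, 0), (2, 2),
  (1, 2), (0, 0), (0, 0), (1, 2), (2, 1), (2, 3), (0, 0), (0, 0), (0, 0), (1, 2), (1, 2), (0, 0), (1, 1), (2, 2),
  (0, 0), (1, 1), (0, 0), (2, 2), (0, 0), (1, 1), (1, 5), (0, 0), (0, 0), (0, 0), (2, 0), (1, 2), (2, 0), (2, 2),
  (2, 0), (2, 3), (0, 0), (2, 1), (0, 0), (1, 4), (0, 0), (0, 0), (2, 0), (1, 2), (2, 0), (2, 2), (1, 2), (1, 0),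
  (0, 0), (2, 2), (2, 2), (0, 0), (1, 1), (2, 3), (0, 0), (0, 0), (0, 0), (2, 2), (2, 2), (1, 0), (2, 1), (2, 4),
  (0, 0), (0, 0), (0, 0), (1, 0), (2, 2), (0, 0), (1, 1), (1, 3), (0, 0), (1, 1), (1, 0), (1, 4), (0, 0), (0, 0),
  (1, 1), (0, 0), (2, 2), (1, 2), (1, 0), (1, 0), (2, 2), (1, 0), (1, 8), (0, 0), (0, 0), (0, 0), (0, 0), (1, 0),
  (0, 0), (1, 0), (2, 1), (1, 2), (2, 2), (0, 0), (2, 0), (1, 2), (2, 0), (1, 4), (0, 0), (0, 0), (1, 1), (2, 2),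
  (0, 0), (1, 1), (2, 3), (1, 0), (0, 0), (1, 1), (2, 2), (0, 0), (2, 1), (0, 0), (1, 5), (0, 0), (0, 0), (0, 0),
  (1, 0), (1, 3), (0, 0), (1, 0), (2, 2), (1, 0), (2, 3), (1, 0), (2, 1), (1, 3), (0, 0), (0, 0), (2, 0), (1, 3),
  (0, 0), (0, 0), (2, 3), (0, 0), (1, 1), (2, 3), (0, 0), (1, 0), (1, 0), (2, 1), (2, 2), (1, 2), (0, 0), (2, 1),
  (2, 0), (2, 3), (0, 0), (1, 1), (1, 0), (2, 1), (2, 2), (1, 0), (2, 5), (0, 0), (0, 0), (0, 0), (0, 0), (1, 2),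
  (2, 1), (1, 2), (0, 0), (0, 0), (1, 1), (1, 2), (2, 1), (2, 2), (0, 0), (1, 0)]

def mcBlockTree_2 : List (ℕ × ℕ) := [
  (1, 2), (0, 0), (1, 4), (0, 0), (1, 0), (1, 2), (0, 0), (1, 1), (2, 2), (1, 4), (0, 0), (0, 0), (0, 0), (0, 0),
  (2, 1), (1, 0), (1, 3), (1, 2), (0, 0), (0, 0), (2, 1), (1, 2), (1, 0), (2, 0), (2, 2), (2, 2), (0, 0), (1, 0),
  (1, 2), (2, 0), (2, 2), (1, 0), (2, 4), (1, 0), (2, 1), (2, 0), (1, 0), (1, 5), (0, 0), (1, 0), (0, 0), (1, 1),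
  (2, 1), (2, 2), (0, 0), (0, 0), (2, 0), (2, 2), (1, 2), (0, 0), (2, 2), (1, 3), (0, 0), (1, 1), (2, 1), (0, 0),
  (0, 0), (1, 2), (2, 1), (0, 0), (2, 4), (0, 0), (0, 0), (2, 0), (1, 2), (1, 0), (2, 0), (1, 4), (0, 0), (1, 1),
  (0, 0), (1, 1), (2, 2), (2, 4), (0, 0), (0, 0), (0, 0), (0, 0), (2, 3), (2, 0), (1, 3), (0, 0), (0, 0), (1, 2),
  (0, 0), (2, 2), (1, 0), (0, 0), (2, 2), (1, 0), (2, 4), (0, 0), (0, 0), (1, 0), (2, 2), (1, 2), (0, 0), (1, 1),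
  (1, 0), (2, 3), (1, 0), (2, 5), (0, 0), (1, 0), (0, 0), (0, 0), (0, 0), (2, 1), (2, 2), (1, 0), (1, 3), (0, 0),
  (1, 1), (2, 1), (2, 2), (0, 0), (1, 1), (2, 1), (1, 0), (2, 1), (2, 4), (0, 0), (0, 0), (1, 1), (2, 1), (2, 0),
  (1, 3), (1, 0), (1, 0), (2, 1), (2, 2), (2, 2), (0, 0), (1, 4), (0, 0), (1, 0), (1, 0), (2, 1), (2, 2), (1, 2),
  (0, 0), (0, 0), (2, 1), (1, 2), (0, 0), (2, 2), (0, 0), (1, 1), (2, 3), (0, 0), (1, 0), (2, 2), (0, 0), (1, 1),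
  (2, 1), (2, 0), (2, 5), (0, 0), (0, 0), (2, 0), (1, 0), (2, 1), (1, 3), (1, 0), (0, 0), (2, 3), (0, 0), (1, 3),
  (0, 0), (1, 0), (2, 1), (1, 2), (0, 0), (2, 2), (2, 0), (2, 0), (1, 7), (0, 0), (0, 0), (0, 0), (0, 0), (1, 0),
  (2, 1), (1, 2), (2, 1), (0, 0), (1, 1), (1, 3), (0, 0), (2, 0), (1, 2), (2, 1), (0, 0), (0, 0), (1, 2), (2, 3),
  (0, 0), (0, 0), (1, 2), (2, 1), (0, 0), (1, 1), (2, 1), (2, 0), (1, 5), (0, 0), (0, 0), (1, 0), (1, 0), (2, 2),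
  (1, 2), (0, 0), (1, 1), (2, 2), (1, 2), (0, 0), (1, 1), (2, 0), (2, 2), (0, 0), (2, 0), (1, 2), (1, 0), (2, 0),
  (2, 3), (1, 0), (2, 4), (1, 0), (0, 0), (2, 0), (2, 2), (2, 0), (2, 5), (0, 0), (0, 0), (1, 0), (1, 2), (1, 0),
  (2, 1), (0, 0), (2, 3), (0, 0), (2, 0), (1, 4), (0, 0), (0, 0), (2, 1), (2, 2), (1, 0), (0, 0), (2, 4), (0, 0),
  (2, 0), (1, 0), (1, 3), (0, 0), (1, 1), (1, 5), (0, 0), (0, 0), (0, 0), (2, 0), (0, 0), (1, 3), (2, 0), (1, 3),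
  (0, 0), (1, 0), (0, 0), (2, 2), (0, 0), (2, 3), (1, 0), (2, 1), (0, 0), (2, 4), (1, 0), (0, 0), (1, 1), (2, 2),
  (0, 0), (1, 1), (0, 0), (2, 2), (0, 0), (2, 1), (1, 5), (0, 0), (1, 0), (0, 0), (1, 1), (2, 1), (2, 2), (1, 0),
  (2, 1), (1, 3), (0, 0), (0, 0), (1, 1), (2, 1), (1, 2), (2, 1), (1, 0), (2, 1), (2, 3), (0, 0), (0, 0), (1, 0),
  (2, 3), (1, 0), (0, 0), (2, 2), (1, 0), (2, 1), (2, 5), (0, 0), (0, 0), (2, 0), (1, 2), (2, 1), (1, 2), (2, 1),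
  (0, 0), (0, 0), (0, 0), (1, 2), (0, 0), (1, 3), (1, 0), (2, 2), (2, 0), (2, 5), (0, 0), (0, 0), (1, 0), (0, 0),
  (1, 1), (2, 1), (2, 2), (0, 0), (2, 1), (1, 3), (1, 0), (0, 0), (2, 3), (0, 0), (0, 0), (1, 2), (0, 0), (2, 1),
  (2, 2), (0, 0), (2, 1), (1, 4), (0, 0), (0, 0), (2, 1), (1, 2), (0, 0), (0, 0), (2, 0), (1, 2), (2, 2), (1, 0),
  (2, 1), (2, 3), (1, 0), (1, 0), (2, 2), (0, 0), (2, 1), (0, 0), (2, 5), (0, 0), (0, 0), (0, 0), (1, 1), (1, 0),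
  (1, 3), (1, 0), (1, 0), (1, 4), (0, 0), (1, 1), (0, 0), (2, 2), (0, 0), (1, 1), (2, 3), (0, 0), (0, 0), (1, 1),
  (2, 1), (1, 0), (2, 3), (2, 5), (0, 0), (0, 0), (0, 0), (2, 0), (0, 0), (2, 1), (0, 0), (1, 4), (1, 0), (1, 0),
  (1, 0), (2, 3), (0, 0), (0, 0), (1, 2), (2, 3), (0, 0), (0, 0), (1, 0), (1, 2), (1, 0), (2, 2), (1, 0), (1, 3),
  (2, 1), (1, 3), (1, 0), (0, 0), (1, 0), (2, 1), (1, 2), (0, 0), (2, 1), (2, 0), (2, 4), (0, 0), (2, 0), (1, 2),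
  (2, 0), (2, 0), (2, 3), (0, 0), (1, 0), (1, 2), (0, 0), (2, 5), (0, 0), (0, 0), (0, 0), (2, 0), (1, 2), (1, 2),
  (0, 0), (1, 1), (2, 1), (2, 2), (1, 2), (0, 0), (0, 0), (1, 1), (1, 0), (1, 3), (0, 0), (1, 1), (2, 1), (2, 2),
  (0, 0), (1, 0), (2, 4), (1, 0), (0, 0), (1, 5), (0, 0), (2, 0), (0, 0), (1, 0), (1, 2), (0, 0), (2, 0), (2, 2),
  (2, 2), (0, 0), (2, 1), (1, 4), (0, 0), (1, 0), (0, 0), (1, 1), (2, 1), (0, 0), (2, 3), (1, 0), (2, 1), (1, 0),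
  (1, 4), (0, 0), (0, 0), (2, 1), (1, 2), (0, 0), (2, 2), (0, 0), (2, 1), (2, 3)]

def mcBlockTree_3 : List (ℕ × ℕ) := [
  (0, 0), (1, 0), (0, 0), (1, 3), (0, 0), (2, 1), (2, 4), (1, 0), (0, 0), (1, 1), (2, 2), (0, 0), (0, 0), (1, 0),
  (1, 2), (2, 2), (1, 0), (2, 5), (0, 0), (0, 0), (1, 0), (2, 0), (2, 2), (1, 2), (0, 0), (1, 0), (2, 1), (1, 2),
  (0, 0), (2, 1), (2, 2), (1, 0), (2, 3), (0, 0), (0, 0), (2, 1), (1, 2), (2, 0), (2, 2), (1, 0), (2, 1), (1, 4),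
  (1, 0), (0, 0), (2, 0), (1, 2), (2, 2), (1, 0), (0, 0), (2, 2), (0, 0), (1, 1), (2, 1), (2, 4), (0, 0), (0, 0),
  (1, 0), (2, 0), (2, 2), (1, 2), (0, 0), (2, 1), (2, 2), (0, 0), (0, 0), (1, 2), (1, 3), (2, 1), (0, 0), (2, 0),
  (2, 0), (2, 3), (0, 0), (1, 0), (2, 2), (1, 0), (2, 8), (0, 0), (0, 0), (0, 0), (1, 0), (1, 0), (2, 1), (2, 2),
  (0, 0), (1, 1), (0, 0), (2, 0), (1, 5), (0, 0), (0, 0), (1, 1), (0, 0), (2, 1), (2, 0), (2, 3), (1, 2), (0, 0),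
  (1, 1), (2, 1), (2, 0), (2, 4), (0, 0), (1, 0), (2, 1), (2, 0), (1, 3), (2, 1), (0, 0), (0, 0), (1, 0), (1, 2),
  (2, 1), (1, 2), (0, 0), (2, 1), (2, 2), (1, 0), (0, 0), (2, 2), (1, 5), (0, 0), (1, 0), (0, 0), (1, 1), (0, 0),
  (1, 1), (2, 0), (2, 3), (0, 0), (0, 0), (2, 2), (2, 3), (0, 0), (0, 0), (2, 1), (1, 2), (1, 3), (0, 0), (0, 0),
  (0, 0), (1, 1), (0, 0), (2, 3), (1, 2), (1, 0), (2, 3), (0, 0), (0, 0), (1, 0), (2, 1), (1, 2), (2, 1), (0, 0),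
  (1, 1), (1, 3), (0, 0), (0, 0), (2, 1), (1, 2), (1, 0), (2, 3), (0, 0), (0, 0), (1, 2), (0, 0), (2, 2), (2, 4),
  (0, 0), (0, 0), (0, 0), (1, 0), (1, 3), (1, 0), (0, 0), (1, 0), (1, 2), (2, 1), (2, 3), (0, 0), (1, 1), (2, 1),
  (0, 0), (1, 1), (1, 0), (2, 2), (1, 4), (0, 0), (0, 0), (2, 0), (2, 2), (0, 0), (2, 0), (1, 4), (0, 0), (2, 0),
  (2, 0), (1, 3), (2, 1), (0, 0), (2, 3), (1, 0), (0, 0), (1, 1), (2, 2), (2, 3), (0, 0), (2, 0), (1, 2), (0, 0),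
  (0, 0), (1, 1), (1, 2), (0, 0), (2, 2), (1, 0), (2, 1), (1, 6), (0, 0), (0, 0), (0, 0), (2, 0), (0, 0), (1, 3),
  (1, 0), (0, 0), (1, 1), (2, 1), (2, 2), (2, 2), (0, 0), (1, 1), (1, 3), (1, 0), (0, 0), (1, 1), (2, 0), (2, 2),
  (0, 0), (2, 3), (1, 0), (0, 0), (2, 2), (0, 0), (1, 1), (2, 1), (2, 4), (0, 0), (0, 0), (0, 0), (1, 0), (1, 2),
  (1, 0), (2, 2), (1, 3), (0, 0), (2, 0), (1, 2), (1, 0), (0, 0), (2, 3), (0, 0), (2, 0), (1, 2), (1, 0), (2, 4),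
  (0, 0), (0, 0), (2, 1), (0, 0), (1, 3), (2, 0), (2, 2), (1, 4), (0, 0), (0, 0), (0, 0), (1, 1), (2, 1), (1, 0),
  (0, 0), (1, 4), (1, 0), (0, 0), (1, 4), (0, 0), (1, 0), (1, 0), (2, 2), (0, 0), (2, 1), (1, 3), (0, 0), (0, 0),
  (1, 1), (2, 3), (0, 0), (2, 0), (1, 2), (1, 0), (2, 2), (2, 0), (2, 4), (0, 0), (0, 0), (2, 0), (1, 2), (0, 0),
  (1, 1), (2, 1), (2, 0), (2, 3), (1, 0), (1, 3), (1, 0), (2, 2), (1, 0), (0, 0), (2, 2), (1, 0), (2, 0), (2, 6),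
  (0, 0), (0, 0), (0, 0), (1, 0), (1, 2), (1, 0), (2, 2), (1, 0), (1, 3), (0, 0), (0, 0), (1, 1), (1, 2), (1, 0),
  (2, 2), (2, 0), (2, 3), (0, 0), (0, 0), (1, 1), (2, 1), (1, 2), (2, 0), (1, 4), (0, 0), (0, 0), (2, 0), (2, 2),
  (1, 0), (1, 3), (0, 0), (1, 0), (1, 2), (2, 1), (2, 0), (2, 3), (0, 0), (0, 0), (1, 2), (1, 0), (2, 1), (2, 2),
  (1, 0), (2, 4), (0, 0), (0, 0), (1, 0), (2, 1), (1, 2), (0, 0), (1, 1), (1, 0), (2, 2), (1, 3), (0, 0), (1, 0),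
  (1, 2), (2, 1), (2, 2), (0, 0), (0, 0), (1, 2), (0, 0), (2, 6), (0, 0), (0, 0), (2, 0), (2, 0), (0, 0), (1, 0),
  (1, 5), (0, 0), (0, 0), (2, 1), (2, 0), (1, 3), (0, 0), (2, 0), (1, 2), (2, 1), (2, 2), (0, 0), (0, 0), (2, 1),
  (2, 2), (0, 0), (2, 4), (0, 0), (1, 0), (1, 0), (2, 1), (2, 2), (2, 0), (1, 3), (0, 0), (0, 0), (1, 0), (1, 2),
  (2, 1), (2, 2), (1, 0), (2, 3), (2, 0), (1, 4), (0, 0), (1, 0), (0, 0), (0, 0), (1, 2), (1, 0), (2, 2), (2, 2),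
  (1, 0), (0, 0), (1, 0), (2, 2), (1, 0), (2, 3), (1, 0), (2, 1), (1, 4), (0, 0), (0, 0), (0, 0), (1, 1), (1, 3),
  (0, 0), (1, 1), (1, 0), (0, 0), (2, 2), (2, 2), (1, 0), (2, 3), (0, 0), (0, 0), (1, 1), (1, 2), (1, 0), (2, 1),
  (2, 2), (2, 3), (0, 0), (1, 0), (0, 0), (2, 1), (0, 0), (1, 4), (0, 0), (0, 0), (0, 0), (2, 2), (1, 2), (2, 0),
  (2, 2), (2, 0), (2, 3), (1, 0), (1, 0), (2, 1), (1, 0), (2, 3), (2, 4), (0, 0), (0, 0), (2, 0), (2, 0), (2, 3),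
  (0, 0), (1, 0), (1, 2), (0, 0), (1, 1), (2, 1), (2, 2), (0, 0), (2, 1), (1, 4)]

def mcBlockTree_4 : List (ℕ × ℕ) := [
  (0, 0), (2, 0), (0, 0), (2, 1), (1, 3), (1, 0), (0, 0), (2, 3), (0, 0), (1, 1), (0, 0), (1, 1), (1, 0), (2, 3),
  (1, 0), (2, 1), (2, 4), (0, 0), (2, 0), (2, 0), (1, 3), (0, 0), (2, 1), (1, 0)]

/-- A spanning tree. -/
def mcBlockTree : List (ℕ × ℕ) := mcBlockTree_0 ++ mcBlockTree_1 ++ mcBlockTree_2 ++ mcBlockTree_3 ++ mcBlockTree_4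

def hsSub0Start : ℕ := 11327362640523491119500759067924480260695966

def hsSub0Tree_0 : List (ℕ × ℕ) := [
  (0, 0), (0, 0), (0, 0), (0, 0), (1, 0), (2, 1), (1, 2), (0, 0), (0, 0), (1, 1), (2, 1), (2, 3), (0, 0), (1, 0),
  (1, 2), (2, 1), (0, 0), (1, 4), (0, 0), (0, 0), (0, 0), (1, 0), (2, 1), (1, 2), (1, 2), (0, 0), (0, 0), (1, 2),
  (2, 0), (2, 2), (1, 3), (1, 0), (1, 0), (2, 2), (2, 0), (2, 3), (0, 0), (1, 0), (2, 1), (2, 4), (1, 0), (0, 0),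
  (2, 0), (1, 2), (0, 0), (1, 1), (2, 1), (2, 2), (0, 0), (2, 3), (0, 0), (0, 0), (1, 1), (2, 1), (1, 2), (1, 4),
  (0, 0), (0, 0), (0, 0), (0, 0), (2, 1), (1, 2), (2, 1), (2, 0), (1, 3), (0, 0), (0, 0), (1, 1), (2, 1), (2, 2),
  (0, 0), (1, 1), (2, 0), (2, 2), (2, 3), (0, 0), (2, 0), (1, 2), (1, 3), (0, 0), (0, 0), (1, 0), (1, 2), (2, 1),
  (1, 0), (1, 3), (1, 0), (1, 0), (2, 2), (2, 2), (0, 0), (2, 0), (1, 2), (2, 0), (2, 4), (0, 0), (0, 0), (1, 1),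
  (2, 1), (1, 2), (0, 0), (1, 0), (2, 1), (2, 2), (1, 0), (1, 0), (2, 4), (0, 0), (0, 0), (2, 1), (1, 2), (0, 0),
  (1, 0), (2, 3), (0, 0), (0, 0), (2, 6), (0, 0), (1, 0), (0, 0), (2, 0), (1, 2), (1, 0), (1, 0), (2, 2), (2, 3),
  (1, 0), (2, 1), (0, 0), (1, 1), (2, 1), (1, 0), (1, 5), (0, 0), (0, 0), (1, 0), (2, 1), (1, 3), (0, 0), (1, 1),
  (2, 2), (0, 0), (0, 0), (1, 2), (1, 0), (2, 2), (1, 0), (1, 0), (2, 2), (2, 4), (0, 0), (0, 0), (1, 1), (0, 0),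
  (1, 1), (2, 2), (1, 2), (0, 0), (1, 0), (1, 2), (2, 1), (2, 0), (2, 3), (0, 0), (0, 0), (1, 1), (1, 2), (0, 0),
  (2, 2), (0, 0), (1, 6), (0, 0), (0, 0), (0, 0), (0, 0), (2, 0), (2, 2), (0, 0), (2, 1), (1, 0), (1, 4), (0, 0),
  (1, 1), (2, 2), (1, 0), (2, 0), (1, 4), (0, 0), (0, 0), (2, 0), (2, 2), (2, 0), (1, 3), (2, 0), (2, 2), (1, 0),
  (2, 3), (0, 0), (0, 0), (0, 0), (2, 1), (2, 0), (1, 4), (0, 0), (1, 0), (2, 2), (0, 0), (2, 3), (0, 0), (2, 1),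
  (1, 4), (0, 0), (1, 0), (0, 0), (1, 1), (1, 0), (2, 2), (2, 2), (1, 0), (1, 3), (0, 0), (0, 0), (0, 0), (1, 2),
  (1, 2), (2, 0), (2, 2), (0, 0), (0, 0), (2, 2), (0, 0), (2, 4), (1, 0), (1, 0), (0, 0), (2, 2), (2, 0), (2, 3),
  (1, 0), (0, 0), (2, 2), (2, 4), (0, 0), (0, 0), (0, 0), (1, 2), (0, 0), (1, 1), (0, 0), (2, 3), (0, 0), (1, 0),
  (1, 2), (0, 0), (2, 2), (2, 3), (0, 0), (0, 0), (2, 1), (0, 0), (1, 3), (1, 0), (2, 1), (1, 0), (2, 1), (2, 6),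
  (0, 0), (0, 0), (0, 0), (0, 0), (1, 1), (2, 1), (0, 0), (1, 3), (0, 0), (1, 1), (1, 0), (2, 2), (1, 3), (0, 0),
  (1, 0), (0, 0), (1, 3), (0, 0), (1, 1), (2, 1), (2, 2), (1, 0), (1, 0), (2, 2), (2, 3), (1, 0), (0, 0), (2, 1),
  (0, 0), (2, 1), (2, 3), (0, 0), (1, 0), (1, 2), (2, 1), (1, 4), (0, 0), (0, 0), (2, 0), (1, 2), (1, 0), (2, 1),
  (1, 3), (0, 0), (0, 0), (2, 0), (1, 2), (0, 0), (2, 2), (2, 2), (0, 0), (2, 3), (0, 0), (0, 0), (2, 1), (1, 2),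
  (1, 0), (2, 2), (1, 0), (2, 0), (2, 2), (2, 4), (0, 0), (0, 0), (2, 0), (1, 2), (1, 0), (2, 1), (2, 2), (1, 0),
  (1, 0), (1, 4), (0, 0), (0, 0), (2, 2), (2, 0), (2, 3), (0, 0), (0, 0), (1, 1), (1, 0), (2, 2), (1, 2), (0, 0),
  (2, 1)]

/-- A spanning tree. -/
def hsSub0Tree : List (ℕ × ℕ) := hsSub0Tree_0

def hsSub1Start : ℕ := 9955344137098267234825879689577135463335968

def hsSub1Tree_0 : List (ℕ × ℕ) := [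
  (1, 0), (0, 0), (0, 0), (0, 0), (0, 0), (2, 0), (0, 0), (1, 1), (1, 0), (2, 1), (2, 2), (0, 0), (2, 1), (2, 0),
  (1, 5), (0, 0), (1, 0), (2, 0), (2, 0), (1, 4), (2, 0), (1, 0), (2, 3), (1, 0), (0, 0), (2, 2), (0, 0), (2, 4),
  (0, 0), (1, 0), (0, 0), (2, 2), (0, 0), (1, 3), (0, 0), (0, 0), (1, 1), (2, 1), (1, 2), (2, 0), (2, 2), (1, 0),
  (2, 3), (0, 0), (1, 1), (2, 1), (2, 4), (0, 0), (0, 0), (0, 0), (1, 0), (2, 1), (1, 3), (0, 0), (1, 1), (2, 0),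
  (2, 2), (1, 0), (2, 3), (0, 0), (0, 0), (1, 1), (1, 4), (0, 0), (0, 0), (2, 0), (1, 3), (1, 0), (1, 0), (2, 1),
  (2, 2), (2, 2), (2, 0), (0, 0), (2, 4), (0, 0), (1, 0), (1, 0), (1, 3), (0, 0), (2, 0), (2, 2), (2, 2), (0, 0),
  (1, 1), (1, 0), (2, 2), (1, 5), (0, 0), (1, 0), (2, 0), (0, 0), (1, 1), (2, 3), (1, 0), (0, 0), (1, 1), (2, 0),
  (2, 2), (1, 0), (2, 3), (0, 0), (1, 1), (2, 1), (0, 0), (1, 1), (1, 5), (2, 0), (0, 0), (0, 0), (1, 1), (1, 0),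
  (2, 3), (0, 0), (0, 0), (1, 1), (1, 0), (1, 3), (1, 0), (2, 1), (2, 2), (1, 0), (2, 5), (0, 0), (0, 0), (0, 0),
  (1, 1), (1, 0), (2, 3), (2, 0), (2, 0), (2, 0), (1, 5), (0, 0), (1, 0), (1, 2), (0, 0), (1, 0), (2, 1), (1, 2),
  (2, 0), (2, 2), (2, 2), (1, 0), (2, 1), (2, 0), (2, 4), (0, 0), (0, 0), (1, 1), (2, 0), (1, 3), (0, 0), (1, 1),
  (0, 0), (2, 1), (2, 2), (2, 0), (2, 3), (0, 0), (1, 0), (1, 2), (0, 0), (1, 1), (2, 2), (2, 0), (2, 6), (0, 0),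
  (0, 0), (1, 0), (0, 0), (0, 0), (2, 2), (1, 0), (2, 3), (2, 0), (1, 3), (0, 0), (0, 0), (0, 0), (2, 1), (2, 3),
  (2, 2), (1, 0), (2, 1), (0, 0), (2, 0), (1, 2), (1, 4), (0, 0), (0, 0), (0, 0), (1, 1), (2, 1), (1, 2), (0, 0),
  (1, 0), (2, 3), (0, 0), (1, 1), (2, 1), (2, 0), (1, 4), (0, 0), (0, 0), (1, 0), (2, 1), (1, 2), (1, 2), (0, 0),
  (1, 1), (0, 0), (2, 2), (0, 0), (1, 1), (2, 4), (0, 0), (1, 0), (1, 2), (1, 0), (1, 0), (2, 2), (2, 2), (0, 0),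
  (0, 0), (2, 1), (2, 5), (0, 0), (0, 0), (1, 0), (2, 1), (2, 0), (1, 3), (1, 0), (2, 1), (2, 2), (2, 0), (2, 0),
  (1, 4), (0, 0), (0, 0), (2, 0), (1, 2), (0, 0), (1, 1), (2, 2), (2, 2), (2, 2), (0, 0), (0, 0), (1, 0), (1, 3),
  (2, 0), (2, 2), (1, 0), (2, 1), (2, 0), (1, 7), (0, 0), (2, 0), (0, 0), (0, 0), (0, 0), (2, 0), (1, 2), (2, 1),
  (0, 0), (2, 1), (1, 3), (0, 0), (2, 1), (2, 2), (0, 0), (0, 0), (2, 1), (1, 2), (0, 0), (0, 0), (2, 2), (2, 2),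
  (1, 0), (2, 1), (1, 4), (0, 0), (0, 0), (1, 1), (2, 1), (1, 0), (2, 1), (2, 3), (0, 0), (0, 0), (1, 2), (2, 3),
  (0, 0), (0, 0), (2, 0), (2, 2), (1, 2), (0, 0), (2, 0), (2, 2), (2, 2), (0, 0), (1, 1), (2, 1), (2, 0), (1, 6),
  (0, 0), (0, 0), (2, 0), (1, 2), (2, 0), (0, 0), (1, 1), (2, 1), (1, 0), (1, 5), (0, 0), (2, 0), (0, 0), (1, 1),
  (2, 3), (0, 0), (0, 0), (1, 1), (1, 2), (1, 0), (1, 0), (2, 2), (1, 0), (2, 3), (0, 0), (1, 1), (1, 0), (2, 1),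
  (2, 2), (1, 0), (2, 5), (0, 0), (0, 0), (0, 0), (1, 1), (1, 2), (0, 0), (1, 3), (0, 0), (0, 0), (0, 0), (1, 3),
  (0, 0), (2, 2), (1, 0), (2, 3), (0, 0), (0, 0), (1, 1), (0, 0), (2, 2), (1, 2), (0, 0), (1, 0), (1, 2), (2, 2),
  (0, 0), (1, 1), (2, 1), (2, 0), (2, 6), (0, 0), (0, 0), (0, 0), (0, 0), (2, 0), (1, 3), (1, 0), (2, 1), (1, 0),
  (2, 1), (2, 3), (0, 0), (2, 1), (1, 3), (0, 0), (1, 1), (0, 0), (0, 0), (1, 2), (1, 0), (2, 2), (0, 0), (1, 1),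
  (2, 3), (1, 0), (2, 1), (2, 3), (0, 0), (0, 0), (1, 1), (1, 2), (0, 0), (1, 0), (2, 1), (1, 2), (2, 1), (0, 0),
  (2, 3), (1, 0), (2, 1), (2, 0), (1, 5), (0, 0), (0, 0), (0, 0), (2, 1), (2, 0), (1, 3), (0, 0), (1, 1), (0, 0),
  (1, 1), (0, 0), (2, 3), (2, 2), (0, 0), (1, 3), (1, 0), (1, 0), (2, 1), (2, 3), (0, 0), (0, 0), (0, 0), (1, 2),
  (1, 0), (1, 3), (2, 0), (2, 0), (2, 3), (0, 0), (1, 0), (2, 2), (0, 0), (2, 5), (0, 0), (0, 0), (2, 0), (1, 0),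
  (1, 3), (0, 0), (1, 1), (2, 2), (1, 0), (2, 0), (1, 4), (0, 0), (0, 0), (0, 0), (1, 2), (1, 2), (2, 0), (2, 2),
  (0, 0), (0, 0), (2, 2), (0, 0), (1, 1), (2, 4), (1, 0), (0, 0), (2, 6), (0, 0), (0, 0), (0, 0), (0, 0), (2, 0),
  (2, 2), (0, 0), (1, 1), (1, 4), (0, 0), (0, 0), (0, 0), (2, 1), (2, 2), (0, 0), (1, 3), (0, 0), (0, 0), (2, 0),
  (1, 3), (0, 0), (2, 1), (0, 0), (2, 3), (1, 0), (0, 0), (2, 4), (1, 0), (0, 0)]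

def hsSub1Tree_1 : List (ℕ × ℕ) := [
  (2, 2), (0, 0), (2, 0), (1, 2), (1, 0), (2, 2), (1, 0), (2, 1), (2, 5), (0, 0), (0, 0), (1, 0), (0, 0), (1, 3),
  (0, 0), (1, 1), (2, 0), (2, 2), (2, 2), (0, 0), (2, 1), (1, 3), (0, 0), (1, 0), (0, 0), (2, 2), (2, 2), (1, 0),
  (1, 0), (2, 2), (2, 3), (0, 0), (2, 0), (1, 2), (0, 0), (2, 1), (2, 2), (2, 0), (0, 0), (1, 6), (0, 0), (1, 0),
  (0, 0), (2, 0), (0, 0), (1, 3), (0, 0), (2, 3), (0, 0), (0, 0), (2, 1), (1, 2), (0, 0), (1, 0), (2, 1), (1, 5),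
  (0, 0), (0, 0), (0, 0), (2, 0), (2, 2), (1, 3), (0, 0), (0, 0), (1, 1), (2, 1), (1, 2), (0, 0), (1, 1), (2, 1),
  (2, 2), (0, 0), (2, 1), (0, 0), (2, 4), (0, 0), (2, 0), (2, 2), (2, 3), (0, 0), (0, 0), (1, 1), (0, 0), (1, 0),
  (1, 2), (2, 1), (1, 0), (2, 3), (1, 0), (1, 3), (0, 0), (1, 0), (2, 1), (0, 0), (1, 3), (1, 0), (2, 3), (1, 0),
  (1, 0), (2, 2), (1, 0), (2, 0), (2, 6), (0, 0), (0, 0), (0, 0), (0, 0), (1, 0), (2, 1), (1, 2), (1, 0), (1, 3),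
  (0, 0), (1, 1), (2, 1), (1, 3), (0, 0), (1, 0), (1, 0), (2, 2), (1, 2), (0, 0), (2, 2), (0, 0), (2, 3), (1, 0),
  (2, 1), (2, 0), (0, 0), (1, 5), (0, 0), (1, 0), (0, 0), (0, 0), (1, 2), (0, 0), (2, 1), (2, 3), (1, 0), (0, 0),
  (1, 4), (0, 0), (0, 0), (2, 1), (2, 0), (1, 3), (0, 0), (1, 1), (1, 0), (2, 1), (2, 2), (2, 2), (1, 0), (2, 3),
  (0, 0), (1, 0), (2, 4), (0, 0), (0, 0), (0, 0), (0, 0), (2, 2), (1, 2), (0, 0), (0, 0), (1, 2), (1, 3), (0, 0),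
  (1, 0), (0, 0), (1, 3), (0, 0), (1, 1), (2, 1), (2, 2), (0, 0), (1, 0), (2, 4), (0, 0), (1, 0), (2, 1), (1, 0),
  (1, 3), (1, 0), (2, 7), (0, 0), (0, 0), (0, 0), (0, 0), (1, 0), (2, 1), (1, 2), (1, 0), (0, 0), (2, 0), (1, 2),
  (2, 1), (2, 2), (2, 0), (2, 3), (1, 0), (2, 1), (1, 0), (2, 0), (2, 2), (0, 0), (1, 1), (1, 5), (0, 0), (0, 0),
  (0, 0), (2, 1), (1, 2), (2, 1), (0, 0), (1, 0), (1, 2), (1, 3), (0, 0), (1, 0), (1, 0), (2, 2), (0, 0), (2, 4),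
  (0, 0), (0, 0), (2, 1), (2, 2), (0, 0), (1, 1), (0, 0), (1, 1), (2, 5), (0, 0), (0, 0), (0, 0), (2, 1), (1, 0),
  (1, 3), (0, 0), (1, 1), (2, 1), (2, 2), (2, 0), (1, 3), (0, 0), (1, 0), (0, 0), (2, 2), (2, 0), (1, 3), (2, 0),
  (2, 2), (0, 0), (1, 1), (2, 3), (0, 0), (2, 0), (1, 2), (1, 0), (2, 5), (0, 0), (0, 0), (0, 0), (0, 0), (1, 1),
  (2, 2), (1, 0), (1, 3), (0, 0), (0, 0), (1, 1), (2, 3), (0, 0), (1, 0), (0, 0), (2, 2), (1, 2), (0, 0), (2, 2),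
  (0, 0), (2, 0), (1, 5), (0, 0), (0, 0), (0, 0), (1, 1), (2, 1), (1, 2), (2, 1), (1, 2), (0, 0), (0, 0), (1, 1),
  (2, 1), (2, 0), (1, 3), (1, 0), (2, 1), (2, 3), (0, 0), (1, 1), (1, 0), (2, 4), (0, 0), (0, 0), (0, 0), (1, 2),
  (0, 0), (2, 1), (2, 0), (2, 3), (1, 2), (0, 0), (1, 0), (2, 0), (2, 2), (1, 2), (0, 0), (2, 1), (0, 0), (2, 3),
  (2, 2), (0, 0), (1, 1), (0, 0), (1, 0), (2, 3), (1, 5), (0, 0), (0, 0), (0, 0), (0, 0), (1, 0), (0, 0), (2, 2),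
  (1, 2), (2, 0), (2, 2), (1, 2), (0, 0), (1, 0), (1, 2), (0, 0), (2, 2), (2, 2), (0, 0), (1, 1), (1, 0), (2, 1),
  (2, 2), (1, 0), (1, 4), (0, 0), (0, 0), (0, 0), (1, 2), (0, 0), (1, 1), (2, 2), (1, 2), (0, 0), (0, 0), (2, 1),
  (2, 2), (2, 2), (0, 0), (1, 1), (0, 0), (2, 0), (2, 2), (2, 2), (2, 3), (0, 0), (0, 0), (1, 0), (1, 2), (0, 0),
  (2, 1), (2, 3), (0, 0), (2, 0), (2, 2), (0, 0), (1, 1), (2, 1), (1, 5), (0, 0), (0, 0), (1, 0), (2, 1), (1, 2),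
  (0, 0), (2, 0), (1, 2), (1, 0), (1, 0), (2, 3), (1, 0), (2, 3), (2, 0), (0, 0), (0, 0), (2, 2), (1, 4), (0, 0),
  (0, 0), (1, 0), (2, 0), (1, 3), (2, 0), (2, 2), (1, 0), (1, 3), (0, 0), (1, 0), (1, 2), (2, 0), (2, 2), (0, 0),
  (2, 1), (2, 3), (2, 0), (2, 3), (0, 0), (1, 0), (2, 1), (2, 4), (0, 0), (0, 0), (0, 0), (1, 2), (0, 0), (0, 0),
  (1, 2), (0, 0), (2, 0), (1, 2), (2, 2), (1, 3), (0, 0), (1, 0), (0, 0), (2, 0), (2, 3), (1, 0), (2, 3), (1, 0),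
  (0, 0), (2, 0), (2, 3), (1, 0), (2, 4), (0, 0), (0, 0), (2, 1), (0, 0), (1, 1), (2, 1), (1, 3), (0, 0), (1, 0),
  (1, 0), (2, 2), (1, 2), (1, 0), (2, 1), (2, 3), (2, 0), (1, 0), (2, 6), (0, 0), (0, 0), (0, 0), (0, 0), (1, 0),
  (2, 1), (1, 2), (2, 0), (2, 2), (1, 0), (1, 3), (0, 0), (0, 0), (1, 1), (2, 1), (2, 3), (1, 0), (2, 1), (0, 0),
  (0, 0), (1, 2), (2, 1), (1, 4), (0, 0), (0, 0), (2, 1), (0, 0), (1, 1), (1, 3)]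

def hsSub1Tree_2 : List (ℕ × ℕ) := [
  (0, 0), (1, 1), (2, 1), (1, 0), (2, 3), (0, 0), (1, 1), (2, 1), (2, 0), (1, 0), (2, 5), (0, 0), (1, 0), (0, 0),
  (2, 2), (1, 2), (0, 0), (1, 0), (2, 1), (1, 2), (2, 1), (0, 0), (1, 1), (2, 1), (2, 3), (1, 0), (0, 0), (1, 1),
  (2, 2), (0, 0), (0, 0), (2, 6), (0, 0), (0, 0), (0, 0), (0, 0), (1, 1), (1, 2), (0, 0), (2, 2), (0, 0), (1, 3),
  (0, 0), (1, 0), (1, 2), (1, 0), (2, 1), (1, 0), (2, 3), (1, 0), (2, 3), (1, 0), (0, 0), (1, 0), (2, 3), (1, 0),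
  (2, 1), (1, 4), (0, 0), (1, 0), (0, 0), (1, 1), (2, 1), (2, 2), (1, 2), (0, 0), (0, 0), (1, 2), (2, 1), (2, 2),
  (0, 0), (0, 0), (2, 1), (1, 2), (2, 0), (0, 0), (2, 3), (1, 0), (2, 4), (0, 0), (0, 0), (2, 0), (1, 2), (1, 0),
  (2, 2), (1, 0), (2, 1), (1, 3), (0, 0), (2, 1), (2, 0), (2, 3), (0, 0), (0, 0), (1, 1), (1, 2), (2, 1), (0, 0),
  (1, 1)]

/-- A spanning tree. -/
def hsSub1Tree : List (ℕ × ℕ) := hsSub1Tree_0 ++ hsSub1Tree_1 ++ hsSub1Tree_2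

def hsSub2Start : ℕ := 10630464353079550389824666973601868663089054

def hsSub2Tree_0 : List (ℕ × ℕ) := [
  (0, 0), (0, 0), (0, 0), (0, 0), (2, 0), (0, 0), (1, 0), (0, 0), (2, 2), (1, 0), (2, 1), (2, 0), (1, 4), (0, 0),
  (0, 0), (1, 1), (2, 0), (2, 2), (1, 0), (1, 3), (0, 0), (0, 0), (1, 2), (2, 2), (0, 0), (1, 0), (2, 1), (1, 2),
  (1, 0), (2, 1), (2, 2), (2, 3), (0, 0), (0, 0), (1, 1), (1, 2), (0, 0), (0, 0), (2, 1), (1, 2), (2, 1), (0, 0),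
  (2, 3), (0, 0), (2, 1), (1, 5), (0, 0), (0, 0), (0, 0), (0, 0), (2, 0), (2, 2), (1, 0), (1, 3), (0, 0), (1, 3),
  (0, 0), (0, 0), (0, 0), (2, 1), (2, 2), (1, 0), (0, 0), (2, 2), (1, 3), (0, 0), (1, 0), (1, 2), (0, 0), (2, 3),
  (0, 0), (1, 0), (2, 1), (1, 2), (2, 0), (2, 4), (0, 0), (0, 0), (1, 0), (2, 2), (1, 2), (2, 1), (0, 0), (2, 0),
  (1, 5), (0, 0), (0, 0), (0, 0), (0, 0), (1, 2), (2, 0), (1, 3), (0, 0), (2, 1), (2, 2), (2, 0), (1, 3), (0, 0),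
  (0, 0), (1, 1), (2, 1), (0, 0), (1, 3), (0, 0), (2, 0), (2, 2), (2, 3), (0, 0), (1, 0), (0, 0), (2, 2), (1, 0),
  (1, 3), (0, 0), (0, 0), (1, 2), (2, 1), (2, 4), (0, 0), (0, 0), (1, 0), (1, 2), (2, 0), (1, 3), (0, 0), (1, 1),
  (2, 0), (1, 0), (2, 3), (0, 0), (1, 0), (1, 2), (1, 0), (2, 0), (2, 5), (1, 0), (0, 0), (1, 1), (2, 1), (0, 0),
  (2, 3), (1, 0), (0, 0), (2, 6), (0, 0), (0, 0), (0, 0), (1, 1), (1, 0), (2, 1), (2, 2), (1, 0), (1, 3), (1, 0),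
  (0, 0), (2, 0), (1, 2), (2, 1), (1, 0), (2, 3), (2, 0), (1, 0), (1, 5), (0, 0), (0, 0), (0, 0), (1, 2), (0, 0),
  (1, 0), (1, 2), (2, 2), (0, 0), (1, 1), (2, 1), (1, 3), (0, 0), (0, 0), (2, 0), (1, 2), (0, 0), (1, 3), (2, 0),
  (2, 2), (2, 2), (0, 0), (0, 0), (2, 1), (1, 2), (2, 0), (2, 0), (2, 3), (0, 0), (0, 0), (2, 0), (1, 2), (2, 1),
  (1, 2), (2, 0), (2, 2), (0, 0), (1, 1), (2, 5), (0, 0), (1, 0), (1, 0), (1, 0), (2, 3), (1, 0), (2, 0), (1, 4),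
  (0, 0), (1, 0), (2, 1), (1, 0), (1, 3), (0, 0), (1, 0), (2, 2), (2, 2), (0, 0), (1, 0), (2, 4), (0, 0), (0, 0),
  (1, 1), (1, 2), (0, 0), (1, 0), (1, 2), (2, 1), (1, 0), (2, 3), (0, 0), (0, 0), (2, 1), (1, 7), (0, 0), (0, 0),
  (0, 0), (0, 0), (1, 0), (2, 0), (2, 2), (2, 0), (1, 3), (0, 0), (1, 1), (2, 1), (2, 2), (0, 0), (1, 1), (2, 1),
  (1, 3), (0, 0), (2, 0), (2, 0), (2, 4), (0, 0), (2, 0), (1, 2), (1, 3), (1, 0), (1, 0), (2, 1), (0, 0), (0, 0),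
  (1, 2), (0, 0), (1, 1), (2, 2), (2, 3), (0, 0), (0, 0), (2, 1), (1, 2), (2, 0), (1, 0), (2, 3), (0, 0), (2, 0),
  (1, 2), (2, 4), (0, 0), (1, 0), (0, 0), (2, 1), (1, 3), (0, 0), (1, 0), (2, 1), (1, 2), (2, 2), (0, 0), (1, 0),
  (2, 0), (2, 2), (2, 2), (0, 0), (1, 5), (0, 0), (1, 0), (0, 0), (1, 0), (2, 1), (2, 0), (1, 3), (0, 0), (2, 1),
  (1, 0), (2, 1), (2, 3), (1, 0), (0, 0), (2, 2), (0, 0), (2, 4), (0, 0), (1, 0), (1, 2), (0, 0), (1, 0), (1, 2),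
  (0, 0), (2, 3), (0, 0), (2, 0), (1, 2), (1, 0), (1, 5), (0, 0), (0, 0), (1, 0), (2, 1), (1, 2), (1, 0), (0, 0),
  (2, 3), (0, 0), (1, 1), (1, 0), (2, 1), (1, 4), (1, 0), (2, 0), (2, 2), (1, 0), (0, 0), (2, 2), (2, 0), (2, 4),
  (0, 0), (0, 0), (1, 1), (2, 1), (1, 2), (2, 0), (2, 2), (0, 0), (2, 0), (2, 5), (0, 0), (0, 0), (2, 4), (0, 0),
  (0, 0), (0, 0), (2, 0), (1, 2), (1, 0), (2, 2), (0, 0), (2, 0), (1, 4), (0, 0), (0, 0), (1, 1), (1, 0), (1, 3),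
  (1, 0), (2, 1), (2, 2), (1, 0), (2, 0), (2, 4), (0, 0), (0, 0), (1, 1), (1, 2), (2, 0), (2, 2), (1, 0), (2, 0),
  (1, 5), (0, 0), (0, 0), (1, 0), (0, 0), (2, 2), (1, 2), (0, 0), (1, 0), (2, 1), (1, 2), (2, 2), (0, 0), (2, 1),
  (2, 0), (1, 4), (0, 0), (1, 0), (1, 0), (2, 3), (0, 0), (0, 0), (1, 1), (1, 2), (2, 1), (2, 3), (0, 0), (1, 0),
  (2, 1), (1, 2), (0, 0), (1, 1), (2, 2), (0, 0), (0, 0), (1, 1), (2, 0), (2, 6), (0, 0), (0, 0), (1, 0), (1, 2),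
  (0, 0), (0, 0), (1, 2), (0, 0), (2, 2), (2, 0), (2, 3), (1, 0), (1, 3), (0, 0), (0, 0), (1, 1), (2, 1), (2, 0),
  (1, 3), (0, 0), (2, 1), (1, 0), (2, 3), (0, 0), (2, 0), (1, 2), (2, 1), (2, 3), (1, 0), (0, 0), (0, 0), (1, 2),
  (2, 0), (2, 2), (0, 0), (2, 3), (0, 0), (2, 6), (0, 0), (0, 0), (0, 0), (0, 0), (2, 0), (0, 0), (1, 3), (1, 0),
  (1, 0), (2, 3), (0, 0), (1, 1), (1, 3), (0, 0), (0, 0), (0, 0), (2, 2), (2, 2), (0, 0), (1, 0), (1, 2), (2, 0),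
  (2, 4), (0, 0), (1, 0), (1, 0), (2, 2), (2, 2), (1, 0), (1, 4), (0, 0), (0, 0)]

def hsSub2Tree_1 : List (ℕ × ℕ) := [
  (0, 0), (0, 0), (2, 1), (1, 2), (2, 1), (0, 0), (1, 3), (1, 0), (2, 0), (2, 2), (2, 2), (2, 0), (1, 3), (0, 0),
  (0, 0), (2, 0), (1, 3), (0, 0), (1, 1), (0, 0), (1, 1), (2, 3), (2, 2), (0, 0), (0, 0), (1, 2), (0, 0), (1, 0),
  (2, 5), (0, 0), (0, 0), (0, 0), (2, 1), (2, 3), (0, 0), (1, 1), (2, 1), (0, 0), (1, 1), (0, 0), (1, 1), (1, 6),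
  (0, 0), (0, 0), (1, 0), (0, 0), (2, 2), (0, 0), (1, 0), (1, 2), (1, 3), (1, 0), (1, 0), (2, 1), (2, 3), (0, 0),
  (0, 0), (1, 1), (0, 0), (1, 1), (2, 2), (0, 0), (1, 3), (2, 0), (2, 0), (1, 5), (0, 0), (0, 0), (0, 0), (1, 2),
  (2, 0), (0, 0), (2, 3), (0, 0), (1, 3), (1, 0), (0, 0), (1, 1), (2, 1), (2, 2), (0, 0), (2, 3), (0, 0), (1, 0),
  (2, 0), (1, 3), (0, 0), (1, 0), (1, 2), (1, 0), (2, 2), (2, 2), (2, 0), (1, 0), (2, 5), (0, 0), (0, 0), (0, 0),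
  (1, 1), (2, 1), (1, 0), (1, 3), (0, 0), (1, 1), (1, 0), (2, 3), (1, 2), (0, 0), (0, 0), (1, 1), (0, 0), (2, 2),
  (0, 0), (1, 3), (0, 0), (1, 0), (1, 2), (2, 1), (0, 0), (1, 1), (2, 3), (0, 0), (0, 0), (1, 2), (2, 1), (1, 0),
  (2, 1), (2, 4), (0, 0), (1, 0), (1, 2), (2, 1), (2, 4), (0, 0), (0, 0), (0, 0), (1, 0), (1, 2), (1, 2), (0, 0),
  (0, 0), (2, 1), (2, 2), (1, 0), (1, 0), (2, 2), (2, 0), (2, 4), (1, 0), (0, 0), (0, 0), (1, 2), (2, 2), (0, 0),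
  (2, 1), (1, 0), (1, 5), (0, 0), (2, 0), (0, 0), (2, 1), (1, 0), (2, 4), (0, 0), (1, 1), (0, 0), (2, 2), (0, 0),
  (1, 1), (0, 0), (2, 5), (0, 0), (0, 0), (0, 0), (1, 0), (2, 2), (1, 0), (1, 3), (2, 0), (2, 2), (1, 0), (2, 1),
  (1, 3), (0, 0), (0, 0), (0, 0), (1, 2), (0, 0), (2, 2), (1, 2), (2, 1), (0, 0), (1, 0), (1, 2), (1, 0), (2, 1),
  (2, 2), (1, 0), (2, 4), (0, 0), (0, 0), (1, 1), (2, 1), (1, 0), (2, 3), (2, 0), (1, 7), (0, 0), (0, 0), (0, 0),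
  (1, 0), (1, 0), (1, 0), (2, 1), (2, 0), (2, 4), (0, 0), (0, 0), (1, 2), (0, 0), (0, 0), (2, 3), (1, 0), (2, 1),
  (0, 0), (1, 5), (0, 0), (0, 0), (0, 0), (1, 1), (1, 3), (0, 0), (2, 0), (2, 2), (0, 0), (1, 1), (2, 3), (0, 0),
  (0, 0), (0, 0), (2, 2), (0, 0), (2, 5), (0, 0), (1, 0), (0, 0), (2, 2), (1, 2), (1, 0), (0, 0), (2, 2), (0, 0),
  (1, 1), (2, 1), (2, 3), (1, 0), (0, 0), (2, 1), (2, 2), (0, 0), (1, 0), (1, 2), (1, 0), (2, 1), (2, 2), (0, 0),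
  (1, 1), (1, 6), (0, 0), (0, 0), (0, 0), (1, 1), (0, 0), (1, 3), (1, 0), (0, 0), (1, 1), (2, 0), (2, 3), (0, 0),
  (2, 1), (2, 3), (0, 0), (0, 0), (1, 0), (1, 2), (0, 0), (2, 2), (2, 2), (0, 0), (1, 1), (2, 1), (1, 4), (0, 0),
  (0, 0), (0, 0), (2, 1), (2, 0), (1, 3), (2, 0), (1, 3), (0, 0), (1, 0), (2, 0), (1, 3), (0, 0), (2, 1), (2, 2),
  (0, 0), (1, 1), (1, 0), (2, 2), (2, 3), (0, 0), (1, 1), (0, 0), (1, 0), (1, 2), (2, 1), (2, 2), (2, 0), (0, 0),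
  (2, 1), (2, 5), (0, 0), (0, 0), (1, 0), (2, 1), (1, 2), (1, 0), (2, 2), (1, 0), (2, 0), (1, 4), (0, 0), (0, 0),
  (1, 1), (2, 3), (0, 0), (0, 0), (0, 0), (1, 2), (1, 0), (1, 3), (0, 0), (2, 1), (2, 2), (0, 0), (1, 0), (1, 2),
  (2, 5), (0, 0), (1, 0), (0, 0), (1, 0), (2, 1), (1, 0), (1, 3), (1, 0), (0, 0), (2, 2), (2, 2), (0, 0), (2, 3),
  (0, 0), (2, 1), (1, 0), (2, 1), (1, 0), (2, 1), (1, 5), (0, 0), (0, 0), (1, 0), (1, 2), (0, 0), (1, 3), (0, 0),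
  (0, 0), (1, 0), (1, 0), (2, 3), (2, 0), (1, 3), (0, 0), (1, 1), (2, 1), (2, 0), (2, 4), (0, 0), (0, 0), (1, 0),
  (1, 2), (2, 1), (0, 0), (1, 3), (0, 0), (1, 1), (2, 2), (2, 3), (0, 0), (0, 0), (2, 0), (1, 2), (0, 0), (1, 1),
  (2, 2), (1, 0), (0, 0), (1, 4), (0, 0), (1, 1), (0, 0), (2, 1), (2, 3), (1, 0), (0, 0), (2, 2), (0, 0), (0, 0),
  (2, 2), (1, 0), (1, 7), (0, 0), (0, 0), (0, 0), (0, 0), (2, 0), (1, 2), (1, 0), (1, 0), (2, 2), (2, 0), (2, 3),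
  (0, 0), (1, 3), (0, 0), (0, 0), (1, 0), (1, 2), (2, 0), (1, 3), (0, 0), (0, 0), (2, 1), (1, 2), (2, 1), (2, 0),
  (2, 3), (2, 0), (0, 0), (2, 4), (0, 0), (0, 0), (1, 1), (1, 0), (1, 3), (0, 0), (2, 1), (2, 2), (0, 0), (1, 0),
  (1, 2), (1, 4), (1, 0), (2, 0), (1, 0), (2, 1), (2, 3), (0, 0), (1, 0), (0, 0), (2, 2), (1, 2), (2, 0), (1, 0),
  (2, 1), (2, 3), (0, 0), (2, 0), (1, 2), (2, 4), (1, 0), (0, 0), (2, 0), (1, 2), (0, 0), (1, 0), (1, 2), (0, 0),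
  (2, 1), (2, 2), (2, 2), (0, 0), (2, 1), (2, 3), (1, 0), (0, 0), (2, 2), (0, 0)]

def hsSub2Tree_2 : List (ℕ × ℕ) := [
  (1, 1), (2, 1), (1, 5), (0, 0), (0, 0), (0, 0), (0, 0), (1, 1), (2, 2), (1, 0), (1, 0), (2, 4), (0, 0), (1, 0),
  (2, 0), (1, 3), (1, 0), (2, 2), (1, 3), (0, 0), (0, 0), (0, 0), (1, 1), (2, 1), (2, 0), (2, 3), (1, 2), (0, 0),
  (0, 0), (2, 2), (0, 0), (2, 3), (0, 0), (1, 0), (2, 1), (0, 0), (2, 1), (1, 3), (1, 0), (1, 0), (2, 3), (2, 0),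
  (1, 0), (2, 1), (2, 5), (1, 0), (0, 0), (2, 0), (1, 2), (2, 0), (2, 3), (0, 0), (0, 0), (0, 0), (2, 2), (1, 2),
  (0, 0), (0, 0), (2, 2), (2, 2), (0, 0), (0, 0), (1, 2), (2, 5), (0, 0), (0, 0), (1, 0), (2, 0), (2, 2), (0, 0),
  (2, 3), (0, 0), (0, 0), (1, 1), (2, 1), (1, 2), (1, 0), (2, 1), (2, 2), (2, 0), (1, 0), (2, 1), (1, 5), (0, 0),
  (0, 0), (0, 0), (1, 0), (2, 3), (1, 0), (2, 0), (2, 2), (1, 3), (0, 0), (0, 0), (1, 1), (2, 1), (0, 0), (2, 4),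
  (0, 0), (0, 0), (2, 1), (1, 0), (1, 3), (0, 0), (1, 1), (2, 2), (1, 0), (2, 0), (2, 2), (2, 4), (0, 0), (0, 0),
  (2, 0), (1, 2), (0, 0), (2, 2), (0, 0), (2, 3), (1, 0), (1, 0), (2, 1), (2, 0), (2, 3), (0, 0), (1, 1), (2, 1),
  (2, 6), (0, 0), (0, 0), (0, 0), (0, 0), (2, 0), (1, 2), (0, 0), (1, 1), (2, 2), (0, 0), (1, 1), (1, 3), (0, 0),
  (1, 1), (0, 0), (2, 2), (2, 2), (0, 0), (1, 0), (1, 2), (2, 0), (0, 0), (2, 3), (0, 0), (0, 0), (2, 2), (2, 0),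
  (1, 5), (0, 0), (0, 0), (1, 0), (2, 0), (2, 4), (0, 0), (1, 1), (0, 0), (2, 4), (0, 0), (0, 0), (2, 0), (2, 2),
  (1, 2), (0, 0), (2, 0), (1, 2), (0, 0), (0, 0), (2, 2), (0, 0), (2, 3), (1, 0), (2, 3), (0, 0), (1, 0), (1, 0),
  (2, 2), (0, 0), (2, 3), (1, 0), (1, 0), (2, 2), (1, 5), (0, 0), (0, 0), (0, 0), (1, 0), (2, 1), (2, 0), (2, 3),
  (0, 0), (1, 1), (1, 3), (2, 0), (0, 0), (1, 1), (2, 3), (0, 0), (0, 0), (0, 0), (1, 3), (0, 0), (1, 0), (1, 2),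
  (2, 1), (2, 2), (1, 0), (2, 1), (0, 0), (2, 1), (2, 0), (1, 6), (0, 0), (0, 0), (1, 0), (1, 2), (1, 0), (2, 1),
  (2, 2), (1, 0), (2, 1), (1, 3), (0, 0), (0, 0), (2, 2), (1, 0), (0, 0), (2, 2), (0, 0), (2, 4), (0, 0), (0, 0),
  (1, 1), (1, 2), (1, 0), (2, 2), (0, 0), (1, 0), (1, 2), (0, 0), (2, 5), (0, 0), (2, 0), (1, 2), (0, 0), (1, 0),
  (2, 0), (2, 3), (1, 0), (1, 0), (2, 2), (0, 0), (2, 1), (2, 4), (0, 0), (1, 0), (2, 1), (1, 0), (1, 0), (2, 2),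
  (2, 6), (0, 0), (0, 0), (1, 0), (2, 1), (1, 0), (2, 1), (1, 3), (0, 0), (0, 0), (1, 0), (2, 2), (1, 2), (1, 0),
  (2, 1), (2, 2), (0, 0), (1, 1), (2, 1), (2, 3), (0, 0), (0, 0), (1, 1), (2, 1), (1, 2), (2, 1), (0, 0), (1, 4),
  (1, 0), (0, 0), (0, 0), (1, 1), (2, 1), (2, 2), (2, 0), (2, 3), (0, 0), (1, 0), (2, 1), (1, 2), (2, 1), (2, 0),
  (2, 4), (0, 0), (0, 0), (0, 0), (1, 0), (2, 2), (1, 0), (1, 3), (0, 0), (2, 0), (1, 4), (0, 0), (2, 0), (1, 2),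
  (0, 0), (1, 1), (2, 2), (0, 0), (2, 3), (0, 0), (0, 0), (1, 2), (0, 0), (2, 0), (1, 2), (2, 1), (2, 0), (2, 3),
  (0, 0), (1, 1), (2, 1), (2, 7), (0, 0), (0, 0), (0, 0), (0, 0), (1, 0), (1, 0), (2, 1), (2, 2), (2, 0), (1, 0),
  (1, 4), (0, 0), (0, 0), (1, 2), (2, 0), (1, 0), (2, 3), (1, 0), (0, 0), (2, 4), (0, 0), (0, 0), (0, 0), (1, 2),
  (2, 1), (1, 2), (0, 0), (2, 0), (2, 3), (0, 0), (1, 0), (1, 2), (2, 1), (2, 4), (0, 0), (0, 0), (2, 0), (2, 2),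
  (2, 0), (1, 3), (0, 0), (0, 0), (2, 1), (1, 2), (0, 0), (1, 1), (2, 1), (2, 2), (1, 0), (2, 3), (1, 0), (0, 0),
  (2, 2), (2, 0), (1, 5), (0, 0), (0, 0), (0, 0), (0, 0), (2, 0), (1, 3), (1, 0), (2, 1), (1, 0), (2, 3), (1, 0),
  (2, 1), (1, 3), (0, 0), (1, 0), (2, 1), (1, 2), (0, 0), (1, 1), (0, 0), (2, 2), (2, 0), (2, 3), (1, 0), (2, 1),
  (2, 3), (0, 0), (1, 1), (0, 0), (2, 2), (1, 0), (2, 1), (1, 4), (0, 0), (0, 0), (0, 0), (2, 1), (1, 2), (2, 0),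
  (1, 3), (1, 0), (1, 0), (0, 0), (2, 3), (1, 0), (2, 1), (1, 0), (2, 4), (0, 0), (0, 0), (1, 1), (1, 2), (1, 0),
  (2, 2), (0, 0), (2, 1), (2, 4), (0, 0), (0, 0), (2, 0), (1, 2), (0, 0), (2, 2), (0, 0), (1, 3), (1, 0), (2, 0),
  (2, 2), (2, 2), (0, 0), (0, 0), (2, 0), (2, 2), (2, 0), (2, 3), (2, 4), (0, 0), (0, 0), (1, 0), (2, 1), (1, 0),
  (2, 0), (2, 2), (1, 3), (0, 0), (0, 0), (1, 1), (0, 0), (1, 3), (2, 0), (1, 0), (2, 3), (0, 0), (2, 1), (2, 3),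
  (1, 0), (0, 0), (1, 0), (1, 2), (2, 1), (1, 4), (0, 0), (0, 0), (2, 0), (1, 2)]

def hsSub2Tree_3 : List (ℕ × ℕ) := [
  (0, 0), (1, 3), (0, 0), (2, 0), (0, 0), (1, 3), (1, 0), (2, 2), (2, 0), (2, 3), (1, 0), (2, 1), (0, 0), (0, 0),
  (2, 2), (2, 4), (1, 0), (0, 0), (1, 0), (1, 0), (1, 3), (0, 0), (1, 1), (2, 1), (0, 0), (2, 1), (2, 3), (0, 0),
  (2, 3), (1, 0), (1, 0), (2, 0), (2, 3), (1, 0), (2, 1), (1, 6), (0, 0), (0, 0), (0, 0), (0, 0), (2, 0), (1, 2),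
  (0, 0), (1, 1), (1, 0), (2, 2), (2, 2), (1, 0), (2, 0), (1, 4), (1, 0), (2, 0), (2, 2), (1, 0), (2, 3), (0, 0),
  (0, 0), (1, 1), (1, 2), (0, 0), (1, 1), (2, 2), (0, 0), (1, 4), (0, 0), (0, 0), (1, 1), (1, 0), (2, 2), (2, 0),
  (1, 3), (0, 0), (0, 0), (2, 2), (2, 0), (2, 3), (0, 0), (1, 0), (2, 1), (2, 2), (0, 0), (1, 1), (2, 1), (2, 0),
  (2, 5), (1, 0), (0, 0), (0, 0), (2, 1), (1, 2), (0, 0), (2, 2), (0, 0), (0, 0), (1, 6), (0, 0), (0, 0), (1, 0),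
  (2, 0), (2, 2), (1, 0), (2, 1), (1, 3), (0, 0), (0, 0), (0, 0), (1, 1), (2, 2), (1, 2), (0, 0), (1, 1), (1, 4),
  (1, 0), (1, 0), (2, 1), (0, 0), (1, 1), (2, 1), (2, 3), (0, 0), (2, 0), (1, 0), (2, 1), (1, 3), (0, 0), (2, 1),
  (2, 2), (0, 0), (2, 0), (1, 2), (0, 0), (2, 5), (0, 0), (0, 0), (1, 1), (1, 2), (0, 0), (2, 0), (1, 0), (2, 1),
  (1, 3), (0, 0), (1, 1), (2, 1), (2, 3), (0, 0), (1, 0), (1, 2), (1, 0), (0, 0), (2, 3), (0, 0), (2, 1), (2, 0),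
  (2, 6), (0, 0), (0, 0), (1, 0), (0, 0), (2, 2), (2, 2), (0, 0), (0, 0), (1, 2), (1, 0), (2, 2), (0, 0), (2, 1),
  (0, 0), (1, 5), (0, 0), (2, 0), (2, 0), (0, 0), (1, 4), (0, 0), (2, 0), (1, 2), (0, 0), (2, 3), (0, 0), (2, 1),
  (0, 0), (2, 1), (2, 4), (0, 0), (1, 0), (2, 1), (0, 0), (2, 1), (1, 3), (0, 0), (1, 0), (2, 1), (2, 3), (0, 0),
  (1, 0), (0, 0), (2, 7), (0, 0), (0, 0), (0, 0), (0, 0), (1, 1), (0, 0), (2, 1), (0, 0), (2, 3), (0, 0), (1, 1),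
  (1, 0), (2, 2), (1, 3), (0, 0), (0, 0), (1, 0), (2, 2), (1, 2), (1, 0), (2, 1), (2, 0), (2, 3), (2, 0), (1, 0),
  (2, 4), (1, 0), (0, 0), (1, 1), (2, 2), (0, 0), (1, 4), (0, 0), (0, 0), (1, 1), (0, 0), (2, 2), (0, 0), (2, 0),
  (1, 2), (2, 3), (1, 0), (0, 0), (2, 2), (1, 0), (2, 1), (2, 0), (2, 5), (0, 0), (0, 0), (1, 0), (1, 2), (0, 0),
  (1, 1), (2, 2), (0, 0), (2, 1), (0, 0), (1, 4), (0, 0), (1, 0), (1, 2), (0, 0), (0, 0), (2, 2), (2, 3), (0, 0),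
  (0, 0), (1, 1), (2, 0), (1, 3), (1, 0), (1, 0), (1, 6), (0, 0), (0, 0), (0, 0), (2, 0), (1, 2), (0, 0), (2, 1),
  (2, 2), (1, 0), (1, 3), (0, 0), (1, 0), (1, 0), (2, 3), (0, 0), (2, 1), (2, 3), (0, 0), (2, 0), (1, 4), (0, 0),
  (1, 0), (1, 0), (2, 2), (1, 0), (1, 3), (0, 0), (0, 0), (2, 1), (1, 2), (0, 0), (2, 2), (0, 0), (1, 1), (2, 0),
  (2, 4), (1, 0), (1, 0), (2, 1), (0, 0), (2, 5), (0, 0), (0, 0), (1, 1), (0, 0), (1, 0), (1, 2), (2, 1), (2, 2),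
  (2, 0), (1, 3), (1, 0), (0, 0), (2, 1), (2, 2), (0, 0), (2, 1), (2, 3), (0, 0), (0, 0), (2, 5), (0, 0), (0, 0),
  (0, 0), (0, 0), (1, 1), (1, 2), (0, 0), (1, 1), (0, 0), (1, 4), (0, 0), (1, 1), (1, 0), (2, 1), (2, 2), (1, 0),
  (2, 3), (1, 0), (2, 1), (0, 0), (1, 0), (1, 5), (0, 0), (0, 0), (1, 0), (1, 2), (1, 0), (2, 2), (1, 2), (0, 0),
  (1, 1), (0, 0), (2, 2), (2, 0), (0, 0), (2, 1), (2, 4), (0, 0), (2, 0), (1, 2), (1, 0), (2, 4), (0, 0), (0, 0),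
  (0, 0), (1, 1), (1, 0), (2, 2), (1, 2), (2, 0), (2, 2), (0, 0), (1, 1), (2, 1), (0, 0), (1, 4), (0, 0), (1, 0),
  (2, 3), (1, 0), (0, 0), (2, 0), (1, 2), (2, 2), (1, 0), (2, 1), (1, 8), (0, 0), (0, 0), (0, 0), (0, 0), (1, 0),
  (0, 0), (2, 1), (1, 0), (2, 1), (1, 4), (0, 0), (1, 0), (0, 0), (2, 1), (1, 0), (2, 3), (0, 0), (0, 0), (1, 2),
  (1, 3), (2, 0), (1, 0), (0, 0), (2, 2), (2, 0), (2, 4), (0, 0), (1, 0), (2, 2), (0, 0), (2, 4), (0, 0), (0, 0),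
  (0, 0), (0, 0), (2, 2), (1, 2), (2, 1), (1, 0), (1, 3), (0, 0), (2, 0), (1, 0), (1, 3), (0, 0), (2, 3), (1, 0),
  (0, 0), (2, 1), (1, 0), (2, 3), (1, 4), (0, 0), (0, 0), (0, 0), (0, 0), (1, 1), (2, 1), (2, 2), (2, 0), (1, 3),
  (0, 0), (1, 0), (2, 1), (1, 4), (0, 0), (0, 0), (1, 0), (1, 2), (0, 0), (2, 1), (2, 0), (2, 3), (1, 0), (1, 3),
  (1, 0), (2, 0), (2, 2), (2, 0), (0, 0), (2, 4), (0, 0), (1, 0), (0, 0), (2, 3), (0, 0), (2, 0), (2, 5), (0, 0),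
  (0, 0), (0, 0), (1, 1), (1, 2), (0, 0), (1, 1), (0, 0), (2, 1), (2, 3), (1, 2)]

def hsSub2Tree_4 : List (ℕ × ℕ) := [
  (0, 0), (0, 0), (1, 1), (2, 2), (0, 0), (2, 3), (0, 0), (1, 0), (2, 1), (1, 2), (0, 0), (1, 0), (2, 2), (2, 2),
  (0, 0), (1, 1), (2, 5), (0, 0), (0, 0), (0, 0), (1, 1), (0, 0), (2, 2), (2, 0), (1, 3), (0, 0), (1, 1), (1, 0),
  (2, 1), (2, 3), (0, 0), (1, 0), (2, 1), (0, 0), (1, 3), (1, 3), (0, 0), (1, 0), (0, 0), (1, 1), (2, 2), (1, 0),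
  (1, 3), (0, 0), (1, 0), (1, 2), (0, 0), (1, 1), (2, 2), (2, 2), (0, 0), (0, 0), (2, 1), (1, 2), (2, 1), (0, 0),
  (1, 1), (0, 0), (2, 5), (1, 0), (0, 0), (1, 0), (1, 6), (0, 0), (0, 0), (0, 0), (1, 0), (1, 0), (0, 0), (2, 2),
  (2, 2), (0, 0), (1, 3), (2, 1), (1, 0), (0, 0), (2, 1), (2, 2), (0, 0), (1, 4), (0, 0), (1, 1), (0, 0), (1, 0),
  (0, 0), (2, 2), (2, 2), (0, 0), (2, 0), (2, 4), (1, 0), (1, 0), (2, 4), (0, 0), (1, 0), (1, 0), (2, 1), (1, 3),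
  (1, 0), (0, 0), (1, 1), (2, 3), (2, 0), (1, 0), (1, 5), (0, 0), (0, 0), (1, 0), (2, 1), (0, 0), (2, 1), (2, 0),
  (1, 4), (0, 0), (0, 0), (2, 2), (1, 0), (2, 1), (1, 4), (0, 0), (1, 0), (0, 0), (2, 1), (2, 2), (0, 0), (1, 1),
  (1, 3), (0, 0), (1, 0), (1, 2), (2, 1), (1, 0), (0, 0), (2, 2), (2, 3), (0, 0), (2, 0), (1, 2), (0, 0), (0, 0),
  (2, 1), (2, 2), (2, 4), (1, 0), (0, 0), (1, 1), (2, 0), (2, 2), (0, 0), (0, 0), (1, 2), (2, 3), (1, 0), (2, 0),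
  (2, 0), (2, 3), (1, 0), (1, 0), (2, 6), (0, 0), (1, 0), (1, 0), (2, 1), (2, 0), (1, 4), (0, 0), (0, 0), (0, 0),
  (1, 1), (2, 1), (1, 2), (1, 0), (2, 2), (0, 0), (1, 1), (0, 0), (2, 2), (1, 3), (0, 0), (0, 0), (2, 1), (0, 0),
  (2, 3), (0, 0), (2, 1), (2, 3), (1, 0), (2, 0), (2, 2), (0, 0), (2, 1), (2, 4), (0, 0), (0, 0), (0, 0), (2, 1),
  (2, 2), (1, 2), (0, 0), (1, 1), (0, 0), (0, 0), (2, 2), (2, 2), (2, 0), (2, 3), (0, 0), (0, 0), (1, 1), (2, 1),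
  (1, 2), (2, 1), (1, 0), (2, 6), (0, 0), (0, 0), (0, 0), (2, 0), (2, 0), (0, 0), (2, 4), (0, 0), (2, 0), (1, 2),
  (1, 0), (2, 2), (0, 0), (2, 1), (1, 4), (0, 0), (0, 0), (0, 0), (1, 2), (2, 0), (1, 3), (2, 0), (0, 0), (1, 1),
  (2, 1), (2, 3), (1, 0), (1, 0), (2, 2), (1, 0), (2, 4), (0, 0), (0, 0), (1, 0), (1, 2), (2, 1), (1, 0), (0, 0),
  (2, 4), (0, 0), (0, 0), (2, 1), (1, 2), (1, 0), (2, 1), (2, 2), (0, 0), (1, 0), (1, 6), (0, 0), (0, 0), (0, 0),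
  (0, 0), (1, 1), (2, 2), (1, 0), (2, 1), (1, 3), (1, 0), (0, 0), (2, 0), (2, 3), (1, 0), (2, 1), (2, 3), (0, 0),
  (1, 1), (2, 0), (2, 2), (0, 0), (2, 1), (0, 0), (1, 5), (0, 0), (0, 0), (2, 0), (1, 0), (2, 3), (1, 0), (2, 1),
  (2, 3), (0, 0), (1, 0), (1, 2), (0, 0), (1, 1), (2, 4), (2, 0), (0, 0), (0, 0), (0, 0), (1, 2), (1, 2), (2, 0),
  (2, 2), (1, 0), (2, 5), (0, 0), (0, 0), (0, 0), (0, 0), (1, 2), (0, 0), (2, 2), (0, 0), (1, 3), (1, 0), (2, 0),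
  (2, 3), (0, 0), (0, 0), (1, 1), (2, 1), (1, 2), (1, 3), (0, 0), (1, 0), (2, 1), (0, 0), (0, 0), (2, 2), (2, 0),
  (1, 4), (0, 0), (0, 0), (2, 1), (1, 2), (1, 0), (2, 0), (2, 3), (2, 2), (1, 0), (1, 0), (2, 1), (2, 2), (2, 0),
  (2, 4), (0, 0), (1, 0), (1, 2), (0, 0), (1, 1), (1, 0), (2, 3), (0, 0), (1, 0), (2, 1), (1, 7), (0, 0), (0, 0),
  (0, 0), (0, 0), (1, 1), (1, 0), (2, 1), (2, 2), (0, 0), (2, 0), (1, 0), (1, 3), (1, 0), (2, 2), (2, 0), (1, 0),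
  (1, 5), (0, 0), (0, 0), (2, 1), (0, 0), (1, 1), (1, 3), (0, 0), (1, 0), (1, 2), (2, 0), (2, 3), (0, 0), (0, 0),
  (2, 1), (1, 2), (0, 0), (1, 1), (2, 2), (1, 0), (0, 0), (2, 5), (1, 0), (0, 0), (1, 1), (2, 0), (2, 2), (0, 0),
  (2, 3), (0, 0), (0, 0), (2, 1), (1, 2), (1, 0), (2, 2), (0, 0), (1, 0), (1, 2), (1, 5), (0, 0), (0, 0), (1, 0),
  (1, 2), (0, 0), (2, 0), (2, 2), (0, 0), (1, 1), (2, 3), (0, 0), (0, 0), (2, 1), (1, 2), (0, 0), (1, 1), (2, 2),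
  (2, 0), (1, 4), (0, 0), (0, 0), (1, 0), (1, 2), (2, 1), (0, 0), (1, 1), (0, 0), (2, 1), (2, 5), (0, 0), (0, 0),
  (1, 0), (2, 1), (1, 2), (1, 0), (2, 1), (2, 2), (2, 0), (1, 3), (0, 0), (1, 0), (1, 2), (0, 0), (2, 1), (2, 3),
  (1, 0), (0, 0), (2, 5), (0, 0), (1, 0), (0, 0), (0, 0), (1, 2), (2, 1), (0, 0), (2, 3), (0, 0), (0, 0), (2, 1),
  (1, 2), (1, 0), (2, 1), (2, 0), (1, 5), (0, 0), (0, 0), (2, 1), (1, 2), (0, 0), (2, 0), (1, 2), (1, 0), (2, 3),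
  (0, 0), (2, 0), (1, 2), (2, 1), (2, 3), (0, 0), (0, 0), (2, 0), (2, 2), (0, 0)]

def hsSub2Tree_5 : List (ℕ × ℕ) := [
  (2, 1), (1, 3), (0, 0), (0, 0), (2, 1), (1, 2), (0, 0), (2, 1), (2, 2), (0, 0), (2, 3), (1, 0), (2, 0), (2, 2),
  (0, 0), (1, 6), (0, 0), (0, 0), (0, 0), (0, 0), (2, 1), (1, 2), (0, 0), (1, 1), (1, 0), (2, 1), (0, 0), (2, 3),
  (0, 0), (2, 3), (1, 0), (2, 1), (1, 3), (0, 0), (0, 0), (1, 1), (0, 0), (2, 2), (2, 0), (2, 3), (0, 0), (1, 1),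
  (2, 3), (0, 0), (0, 0), (2, 0), (1, 0), (1, 3), (0, 0), (0, 0), (2, 3), (0, 0), (2, 1), (1, 3), (0, 0), (1, 0),
  (1, 2), (1, 0), (2, 3), (2, 0), (1, 4), (0, 0), (0, 0), (0, 0), (0, 0), (2, 1), (1, 2), (0, 0), (1, 1), (2, 2),
  (2, 2), (0, 0), (2, 0), (0, 0), (1, 3), (1, 0), (2, 2), (0, 0), (1, 4), (0, 0), (0, 0), (0, 0), (1, 2), (2, 0),
  (2, 2), (0, 0), (1, 3), (2, 0), (2, 2), (0, 0), (0, 0), (2, 1), (2, 2), (0, 0), (2, 0), (2, 5), (0, 0), (0, 0),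
  (2, 0), (2, 2), (2, 0), (1, 3), (0, 0), (2, 0), (1, 2), (1, 0), (1, 0), (2, 2), (2, 3), (0, 0), (2, 0), (2, 2),
  (2, 4), (0, 0), (0, 0), (2, 0), (1, 2), (0, 0), (2, 1), (1, 0), (2, 3), (0, 0), (0, 0), (1, 1), (1, 2), (0, 0),
  (2, 1), (2, 2), (1, 3), (0, 0), (0, 0), (0, 0), (1, 1), (2, 3), (1, 0), (1, 0), (2, 4), (0, 0), (1, 0), (0, 0),
  (2, 1), (2, 2), (0, 0), (1, 1), (2, 1), (1, 3), (1, 0), (2, 0), (2, 2), (2, 2), (0, 0), (1, 1), (1, 0), (2, 2),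
  (2, 0), (2, 6), (0, 0), (0, 0), (1, 0), (0, 0), (0, 0), (1, 1), (1, 2), (1, 0), (2, 2), (2, 2), (1, 0), (0, 0),
  (1, 1), (2, 2), (1, 0), (2, 1), (0, 0), (1, 5), (0, 0), (0, 0), (1, 1), (2, 1), (1, 0), (1, 3), (1, 0), (2, 0),
  (2, 2), (1, 0), (0, 0), (2, 4), (1, 0), (2, 1), (2, 3), (0, 0), (2, 0), (1, 2), (0, 0), (0, 0), (1, 1), (0, 0),
  (2, 3), (0, 0), (1, 1), (2, 3), (0, 0), (0, 0), (1, 1), (1, 2), (1, 0), (2, 2), (0, 0), (1, 1), (2, 1), (1, 5),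
  (0, 0), (0, 0), (0, 0), (2, 0), (1, 2), (0, 0), (1, 1), (1, 3), (0, 0), (1, 0), (2, 1), (1, 2), (1, 0), (1, 0),
  (2, 4), (2, 0), (2, 0), (1, 4), (0, 0), (1, 0), (2, 2), (0, 0), (1, 0), (1, 2), (2, 0), (1, 0), (2, 5), (0, 0),
  (0, 0), (2, 1), (0, 0), (1, 1), (1, 3), (2, 1), (0, 0), (0, 0), (1, 0), (1, 3), (0, 0), (2, 1), (2, 2), (0, 0),
  (1, 1), (2, 5), (0, 0), (0, 0), (0, 0), (0, 0), (1, 1), (1, 0), (2, 1), (2, 2), (0, 0), (2, 3), (0, 0), (1, 3),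
  (0, 0), (1, 0), (2, 0), (1, 3), (2, 1), (1, 0), (2, 3), (1, 0), (0, 0), (1, 0), (1, 5), (0, 0), (0, 0), (0, 0),
  (1, 1), (1, 2), (2, 1), (0, 0), (1, 3), (2, 1), (0, 0), (1, 0), (1, 0), (1, 3), (2, 1), (2, 3), (0, 0), (0, 0),
  (0, 0), (1, 1), (2, 1), (2, 2), (2, 2), (1, 0), (1, 0), (2, 7), (0, 0), (0, 0), (1, 0), (0, 0), (0, 0), (1, 0),
  (1, 2), (1, 0), (1, 3), (0, 0), (1, 0), (1, 2), (0, 0), (2, 4), (0, 0), (0, 0), (0, 0), (1, 1), (2, 1), (1, 2),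
  (2, 0), (2, 2), (1, 0), (1, 3), (0, 0), (1, 0), (2, 2), (0, 0), (1, 1), (1, 0), (2, 4), (1, 0), (2, 1), (1, 0),
  (1, 5), (0, 0), (0, 0), (1, 0), (2, 0), (2, 2), (1, 2), (0, 0), (1, 1), (0, 0), (2, 1), (2, 3), (0, 0), (0, 0),
  (1, 2), (2, 1), (1, 0), (2, 1), (1, 4), (0, 0), (0, 0), (0, 0), (1, 2), (2, 1), (1, 0), (1, 3), (0, 0), (0, 0),
  (1, 1), (2, 0), (2, 2), (1, 2), (0, 0), (2, 2), (2, 2), (0, 0), (1, 1), (2, 1), (2, 0), (2, 4), (0, 0), (1, 0),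
  (1, 0), (2, 1), (2, 2), (1, 2), (0, 0), (0, 0), (1, 0), (1, 3), (2, 2), (1, 0), (2, 1), (2, 0), (2, 5), (0, 0),
  (0, 0), (0, 0), (2, 2), (0, 0), (1, 0), (2, 2), (0, 0), (1, 1), (2, 1), (1, 4), (0, 0), (1, 0), (2, 1), (0, 0),
  (1, 1), (1, 3), (0, 0), (1, 0), (1, 2), (2, 2), (0, 0), (1, 0), (2, 1), (2, 0), (1, 3), (1, 0), (2, 1), (1, 0),
  (2, 3), (2, 3), (0, 0), (0, 0), (1, 1), (1, 0), (2, 1), (2, 2), (0, 0), (1, 3), (0, 0), (1, 0), (1, 2), (0, 0),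
  (0, 0), (2, 2), (1, 6), (0, 0), (0, 0), (0, 0), (1, 0), (2, 0), (0, 0), (1, 4), (0, 0), (0, 0), (2, 1), (1, 2),
  (0, 0), (2, 1), (2, 3), (0, 0), (1, 0), (2, 0), (1, 3), (1, 0), (0, 0), (2, 3), (0, 0), (1, 1), (2, 1), (1, 4),
  (0, 0), (0, 0), (2, 1), (1, 2), (0, 0), (0, 0), (1, 1), (1, 2), (0, 0), (2, 2), (2, 2), (0, 0), (2, 1), (1, 0),
  (2, 1), (0, 0), (2, 5), (0, 0), (0, 0), (1, 1), (1, 0), (2, 2), (0, 0), (0, 0), (1, 4), (0, 0), (1, 0), (1, 2),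
  (1, 0), (2, 1), (2, 3), (0, 0), (0, 0), (1, 0), (2, 2), (2, 2), (0, 0), (1, 1)]

def hsSub2Tree_6 : List (ℕ × ℕ) := [
  (2, 1), (1, 5), (0, 0), (1, 0), (0, 0), (0, 0), (2, 1), (1, 2), (2, 1), (2, 2), (1, 0), (0, 0), (1, 1), (2, 2),
  (1, 0), (1, 4), (0, 0), (0, 0), (2, 0), (1, 2), (2, 0), (2, 3), (0, 0), (1, 1), (0, 0), (1, 1), (2, 2), (2, 3),
  (0, 0), (0, 0), (2, 4), (0, 0), (1, 0), (0, 0), (1, 1), (2, 1), (1, 0), (2, 3), (0, 0), (0, 0), (2, 1), (1, 4),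
  (0, 0), (0, 0), (0, 0), (2, 1), (1, 2), (0, 0), (2, 2), (1, 2), (0, 0), (2, 0), (2, 2), (1, 0), (2, 3), (0, 0),
  (2, 1), (1, 0), (2, 4), (0, 0), (0, 0), (0, 0), (2, 2), (1, 2), (0, 0), (1, 0), (1, 0), (2, 3), (1, 0), (2, 1),
  (2, 3), (1, 0), (2, 0), (1, 0), (2, 3), (0, 0), (2, 6), (0, 0), (0, 0), (0, 0), (1, 0), (2, 1), (2, 0), (2, 3),
  (1, 0), (2, 1), (1, 3), (0, 0), (0, 0), (0, 0), (2, 1), (1, 3), (0, 0), (2, 0), (1, 2), (0, 0), (2, 2), (2, 2),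
  (0, 0), (1, 0), (1, 2), (2, 1), (0, 0), (2, 4), (0, 0), (0, 0), (2, 1), (1, 0), (1, 3), (0, 0), (0, 0), (1, 1),
  (0, 0), (2, 3), (2, 0), (2, 3), (0, 0), (0, 0), (1, 0), (1, 6), (0, 0), (1, 0), (0, 0), (2, 0), (1, 2), (0, 0),
  (1, 0), (2, 4), (0, 0), (0, 0), (2, 1), (1, 2), (2, 1), (1, 3), (0, 0), (1, 0), (0, 0), (2, 0), (2, 3), (1, 2),
  (2, 0), (1, 0), (2, 3), (0, 0), (1, 0), (2, 1), (2, 2), (2, 3), (0, 0), (0, 0), (1, 1), (2, 0), (1, 3), (2, 1),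
  (1, 0), (0, 0), (2, 2), (2, 4), (0, 0), (0, 0), (0, 0), (1, 0), (2, 1), (1, 2), (0, 0), (1, 3), (0, 0), (1, 1),
  (1, 0), (2, 2), (2, 0), (2, 3), (0, 0), (0, 0), (1, 1), (1, 2), (2, 1), (2, 0), (1, 4), (0, 0), (0, 0), (2, 1),
  (0, 0), (1, 1), (1, 3), (0, 0), (2, 1), (0, 0), (2, 3), (0, 0), (2, 3), (0, 0), (0, 0), (1, 2), (0, 0), (1, 1),
  (0, 0), (1, 1), (2, 2), (1, 0), (2, 1), (2, 3), (0, 0), (2, 0), (1, 2), (2, 0), (2, 2), (0, 0), (2, 8), (0, 0),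
  (0, 0), (0, 0), (0, 0), (1, 0), (0, 0), (2, 1), (2, 2), (0, 0), (0, 0), (2, 1), (1, 4), (0, 0), (1, 0), (1, 0),
  (2, 1), (2, 2), (2, 3), (0, 0), (0, 0), (0, 0), (1, 2), (2, 0), (2, 2), (1, 2), (0, 0), (1, 1), (2, 2), (0, 0),
  (0, 0), (1, 1), (2, 1), (1, 2), (1, 4), (0, 0), (0, 0), (1, 1), (1, 0), (2, 1), (2, 2), (0, 0), (1, 1), (1, 0),
  (2, 2), (1, 0), (2, 1), (1, 4), (0, 0), (0, 0), (2, 1), (0, 0), (2, 3), (0, 0), (1, 1), (0, 0), (2, 1), (2, 4),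
  (0, 0), (0, 0), (0, 0), (1, 1), (2, 2), (1, 0), (2, 3), (2, 0), (1, 0), (2, 5), (0, 0), (0, 0), (0, 0), (1, 0),
  (2, 1), (1, 2), (2, 1), (1, 2), (0, 0), (2, 1), (2, 0), (2, 3), (0, 0), (2, 0), (2, 2), (0, 0), (1, 4), (0, 0),
  (0, 0), (1, 0), (2, 1), (1, 2), (0, 0), (1, 1), (2, 2), (2, 0), (1, 3), (2, 0), (1, 0), (2, 1), (2, 3), (0, 0),
  (1, 1), (2, 1), (2, 3), (0, 0), (0, 0), (1, 1), (0, 0), (1, 3), (0, 0), (2, 0), (1, 2), (0, 0), (1, 1), (2, 2),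
  (2, 0), (2, 3), (2, 0), (2, 0), (1, 6), (0, 0), (0, 0), (0, 0), (1, 0), (2, 1), (0, 0), (1, 1), (1, 3), (0, 0),
  (1, 1), (0, 0), (2, 4), (0, 0), (1, 0), (2, 2), (0, 0), (2, 1), (2, 0), (1, 5), (0, 0), (0, 0), (0, 0), (1, 1),
  (2, 0), (2, 2), (1, 2), (2, 0), (1, 0), (2, 3), (0, 0), (1, 1), (0, 0), (2, 1), (2, 2), (1, 0), (1, 4), (0, 0),
  (0, 0), (0, 0), (2, 1), (1, 2), (1, 0), (2, 2), (1, 0), (2, 0), (1, 4), (0, 0), (2, 1), (1, 0), (2, 3), (0, 0),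
  (2, 1), (0, 0), (1, 1), (2, 4), (0, 0), (0, 0), (2, 0), (2, 2), (0, 0), (1, 3), (0, 0), (0, 0), (2, 0), (1, 2),
  (1, 2), (1, 0), (2, 3), (0, 0), (0, 0), (1, 2), (0, 0), (1, 1), (2, 5), (0, 0), (0, 0), (0, 0), (2, 1), (1, 2),
  (1, 0), (1, 0), (2, 3), (0, 0), (1, 0), (1, 2), (1, 3), (0, 0), (0, 0), (1, 1), (2, 1), (1, 0), (2, 1), (1, 3),
  (1, 0), (1, 0), (2, 3), (0, 0), (1, 1), (1, 0), (2, 2), (1, 0), (2, 4), (0, 0), (0, 0), (1, 0), (2, 1), (1, 2),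
  (1, 0), (2, 2), (0, 0), (2, 1), (1, 3), (0, 0), (2, 2), (0, 0), (1, 1), (0, 0), (2, 2), (2, 5), (0, 0), (0, 0),
  (0, 0), (0, 0), (1, 1), (1, 2), (2, 1), (0, 0), (1, 1), (1, 0), (2, 2), (1, 3), (0, 0), (0, 0), (1, 0), (2, 1),
  (1, 3), (1, 0), (2, 1), (0, 0), (2, 3), (0, 0), (2, 1), (2, 0), (2, 4), (0, 0), (1, 0), (0, 0), (2, 2), (2, 0),
  (1, 3), (1, 3), (0, 0), (0, 0), (0, 0), (2, 0), (1, 2), (2, 1), (2, 0), (1, 3), (0, 0), (1, 0), (1, 2), (1, 0),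
  (2, 3), (2, 0), (0, 0), (1, 1), (1, 4), (0, 0), (0, 0), (1, 0), (2, 2), (1, 0)]

def hsSub2Tree_7 : List (ℕ × ℕ) := [
  (1, 3), (0, 0), (2, 0), (2, 3), (1, 0), (1, 0), (2, 2), (2, 0), (2, 4), (0, 0), (1, 1), (2, 1), (0, 0), (2, 1),
  (0, 0), (2, 5), (0, 0), (0, 0), (0, 0), (0, 0), (2, 1), (1, 2), (1, 0), (1, 3), (0, 0), (0, 0), (2, 1), (1, 2),
  (2, 1), (2, 2), (0, 0), (1, 1), (2, 0), (2, 2), (0, 0), (1, 4), (0, 0), (0, 0), (2, 1), (1, 0), (1, 3), (0, 0),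
  (0, 0), (1, 1), (2, 2), (2, 2), (0, 0), (0, 0), (1, 1), (1, 2), (2, 1), (2, 3), (0, 0), (0, 0), (2, 0), (1, 2),
  (2, 2), (0, 0), (1, 0), (1, 2), (0, 0), (1, 1), (1, 7), (0, 0), (0, 0), (0, 0), (0, 0), (2, 0), (2, 0), (1, 3),
  (0, 0), (1, 1), (2, 1), (2, 2), (1, 0), (2, 0), (2, 2), (1, 0), (2, 4), (1, 0), (1, 0), (2, 1), (2, 2), (0, 0),
  (0, 0), (2, 2), (0, 0), (2, 1), (1, 5), (0, 0), (0, 0), (0, 0), (0, 0), (1, 2), (0, 0), (1, 3), (1, 0), (2, 0),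
  (2, 2), (2, 2), (0, 0), (1, 3), (0, 0), (0, 0), (0, 0), (1, 1), (1, 2), (0, 0), (2, 2), (0, 0), (1, 1), (1, 3),
  (1, 0), (1, 0), (2, 2), (1, 0), (2, 3), (2, 0), (0, 0), (2, 4), (0, 0), (0, 0), (0, 0), (1, 2), (1, 2), (2, 0),
  (2, 2), (0, 0), (1, 0), (1, 2), (2, 1), (0, 0), (2, 5), (0, 0), (0, 0), (0, 0), (2, 1), (0, 0), (1, 3), (2, 1),
  (0, 0), (2, 1), (2, 0), (1, 4), (0, 0), (1, 0), (2, 2), (0, 0), (2, 0), (1, 2), (2, 1), (1, 0), (1, 6), (0, 0),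
  (0, 0), (0, 0), (2, 0), (1, 2), (0, 0), (0, 0), (1, 2), (2, 1), (2, 2), (0, 0), (2, 1), (1, 3), (1, 0), (0, 0),
  (1, 1), (1, 0), (1, 0), (2, 3), (2, 2), (0, 0), (1, 1), (2, 1), (2, 3), (0, 0), (1, 1), (0, 0), (2, 0), (2, 3),
  (2, 0), (1, 4), (0, 0), (2, 0), (1, 2), (0, 0), (1, 0), (2, 1), (1, 2), (2, 1), (0, 0), (2, 0), (2, 4), (1, 0),
  (1, 0), (2, 2), (0, 0), (1, 0), (2, 1), (1, 2), (1, 0), (2, 2), (2, 4), (0, 0), (0, 0), (1, 0), (1, 0), (1, 3),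
  (1, 0), (2, 2), (0, 0), (2, 3), (1, 0), (1, 0), (2, 1), (0, 0), (1, 1), (2, 3), (1, 0), (2, 5), (0, 0), (0, 0),
  (2, 0), (0, 0), (0, 0), (1, 2), (2, 1), (0, 0), (1, 4), (0, 0), (0, 0), (2, 0), (2, 2), (2, 0), (2, 3), (1, 0),
  (2, 0), (2, 2), (2, 3), (0, 0), (0, 0), (1, 2), (1, 0), (2, 1), (1, 0), (1, 5), (0, 0), (0, 0), (1, 0), (2, 1),
  (1, 2), (2, 0), (2, 2), (0, 0), (1, 1), (0, 0), (1, 1), (2, 1), (1, 4), (0, 0), (2, 1), (1, 0), (1, 0), (2, 2),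
  (2, 3), (0, 0), (1, 0), (1, 0), (2, 2), (2, 0), (1, 3), (0, 0), (2, 2), (1, 0), (0, 0), (2, 2), (1, 0), (2, 1),
  (2, 5), (0, 0), (0, 0), (1, 0), (1, 2), (0, 0), (2, 2), (1, 0), (1, 0), (2, 2), (1, 3), (0, 0), (0, 0), (2, 0),
  (1, 2), (0, 0), (2, 2), (1, 0), (1, 3), (0, 0), (2, 1), (2, 3), (0, 0), (1, 0), (2, 1), (0, 0), (2, 1), (1, 3),
  (0, 0), (2, 0), (2, 7), (0, 0), (0, 0), (0, 0), (1, 0), (0, 0), (1, 1), (2, 1), (1, 0), (2, 3), (2, 0), (0, 0),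
  (1, 4), (0, 0), (0, 0), (1, 1), (0, 0), (1, 3), (0, 0), (2, 0), (1, 2), (2, 0), (2, 3), (0, 0), (2, 3), (0, 0),
  (0, 0), (1, 1), (2, 1), (1, 2), (0, 0), (1, 1), (2, 2), (0, 0), (1, 0), (1, 2), (2, 0), (2, 2), (1, 4), (0, 0),
  (0, 0), (0, 0), (1, 0), (2, 2), (0, 0), (2, 1), (1, 3), (0, 0), (1, 0), (1, 2), (2, 1), (0, 0), (2, 3), (0, 0),
  (1, 1), (2, 1), (2, 0), (1, 4), (0, 0), (2, 0), (2, 2), (1, 0), (0, 0), (2, 4), (0, 0), (0, 0), (1, 0), (1, 2),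
  (0, 0), (1, 1), (1, 3), (0, 0), (1, 1), (1, 0), (2, 3), (1, 0), (0, 0), (2, 1), (2, 2), (2, 4), (0, 0), (0, 0),
  (0, 0), (2, 1), (1, 2), (2, 1), (0, 0), (2, 1), (1, 3), (1, 0), (0, 0), (1, 0), (1, 2), (0, 0), (2, 2), (2, 0),
  (2, 3), (0, 0), (2, 0), (1, 2), (2, 1), (0, 0), (2, 1), (2, 4), (1, 0), (0, 0), (1, 1), (2, 1), (2, 2), (0, 0),
  (0, 0), (1, 2), (2, 0), (2, 2), (1, 5), (0, 0), (0, 0), (0, 0), (0, 0), (1, 1), (1, 0), (2, 2), (1, 0), (1, 3),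
  (0, 0), (1, 0), (1, 2), (2, 0), (2, 3), (1, 0), (2, 1), (1, 0), (1, 4), (0, 0), (2, 0), (2, 3), (0, 0), (0, 0),
  (2, 0), (1, 2), (0, 0), (2, 1), (2, 2), (0, 0), (2, 3), (0, 0), (2, 0), (1, 2), (0, 0), (0, 0), (2, 3), (1, 4),
  (0, 0), (0, 0), (0, 0), (1, 1), (2, 1), (1, 0), (2, 1), (1, 3), (1, 0), (1, 0), (2, 2), (0, 0), (1, 1), (2, 3),
  (0, 0), (2, 1), (1, 0), (1, 4), (0, 0), (0, 0), (1, 1), (2, 1), (1, 0), (2, 3), (1, 0), (0, 0), (2, 1), (2, 2),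
  (2, 3), (0, 0), (0, 0), (1, 1), (1, 2), (0, 0), (0, 0), (2, 1), (1, 2), (2, 1)]

def hsSub2Tree_8 : List (ℕ × ℕ) := [
  (1, 0), (2, 3), (1, 0), (2, 4), (0, 0), (0, 0), (1, 0), (1, 2), (0, 0), (1, 0), (1, 2), (2, 1), (1, 0), (2, 3),
  (1, 2), (0, 0), (1, 0), (2, 1), (1, 0), (1, 3), (0, 0), (1, 1), (2, 1), (0, 0), (2, 3), (0, 0), (1, 0), (2, 2),
  (2, 0), (2, 4), (0, 0), (0, 0), (2, 1), (1, 2), (0, 0), (1, 1), (0, 0), (1, 1), (2, 1), (2, 2), (1, 0), (2, 3),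
  (0, 0), (1, 0), (2, 1), (1, 2), (2, 5), (0, 0), (0, 0), (0, 0), (1, 1), (2, 0), (2, 2), (0, 0), (1, 0), (2, 2),
  (1, 3), (0, 0), (0, 0), (1, 1), (1, 0), (2, 2), (1, 2), (0, 0), (1, 1), (2, 2), (1, 0), (2, 0), (2, 2), (2, 3),
  (0, 0), (1, 0), (2, 1), (2, 0), (1, 3), (1, 0), (2, 2), (0, 0), (1, 0), (2, 1), (1, 2), (1, 0), (2, 1), (2, 2),
  (1, 0), (1, 5), (0, 0), (0, 0), (1, 1), (1, 0), (2, 2), (1, 0), (2, 1), (1, 3), (1, 0), (0, 0), (2, 1), (0, 0),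
  (2, 3), (0, 0), (2, 3), (0, 0), (1, 0), (2, 1), (0, 0), (1, 3), (2, 0), (0, 0), (2, 3), (1, 0), (2, 4), (0, 0),
  (0, 0), (0, 0), (1, 0), (1, 2), (0, 0), (1, 3), (1, 0), (2, 2), (0, 0), (1, 1), (2, 1), (0, 0)]

/-- A spanning tree. -/
def hsSub2Tree : List (ℕ × ℕ) := hsSub2Tree_0 ++ hsSub2Tree_1 ++ hsSub2Tree_2 ++ hsSub2Tree_3 ++ hsSub2Tree_4 ++ hsSub2Tree_5 ++ hsSub2Tree_6 ++ hsSub2Tree_7 ++ hsSub2Tree_8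

def hsSub3Start : ℕ := 10630464353718448729534146935048487961225120

def hsSub3Tree_0 : List (ℕ × ℕ) := [
  (0, 0), (0, 0), (0, 0), (0, 0), (1, 0), (0, 0), (0, 0), (1, 1), (0, 0), (0, 0), (1, 1), (1, 2), (2, 2), (0, 0),
  (1, 3), (0, 0), (0, 0), (2, 0), (1, 2), (1, 0), (2, 1), (2, 2), (1, 0), (2, 0), (1, 4), (0, 0), (0, 0), (1, 1),
  (2, 1), (1, 2), (1, 0), (2, 3), (0, 0), (1, 0), (2, 2), (0, 0), (2, 4), (1, 0), (2, 0), (2, 2), (0, 0), (0, 0),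
  (1, 1), (1, 2), (1, 0), (2, 2), (0, 0), (1, 1), (2, 1), (1, 0), (2, 6), (0, 0), (1, 0), (1, 0), (0, 0), (1, 1),
  (2, 3), (0, 0), (0, 0), (2, 1), (2, 0), (1, 3), (1, 0), (1, 4), (0, 0), (0, 0), (1, 1), (1, 0), (1, 3), (2, 0),
  (1, 0), (2, 0), (2, 4), (0, 0), (1, 0), (1, 2), (1, 0), (2, 2), (2, 3), (1, 0), (1, 0), (2, 0), (1, 0), (2, 3),
  (1, 0), (2, 3), (0, 0), (1, 1), (0, 0), (1, 0), (2, 3), (1, 5), (0, 0), (0, 0), (1, 0), (1, 0), (2, 0), (2, 2),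
  (2, 2), (2, 0), (1, 0), (1, 4), (0, 0), (0, 0), (0, 0), (1, 1), (2, 1), (2, 2), (1, 0), (1, 3), (1, 0), (2, 0),
  (2, 2), (1, 0), (2, 3), (0, 0), (2, 3), (0, 0), (0, 0), (1, 0), (2, 1), (2, 2), (0, 0), (1, 3), (1, 0), (2, 1),
  (0, 0), (2, 3), (0, 0), (1, 1), (0, 0), (2, 1), (2, 2), (1, 4), (0, 0), (0, 0), (0, 0), (0, 0), (1, 2), (1, 0),
  (2, 2), (1, 0), (1, 3), (1, 0), (1, 0), (2, 2), (0, 0), (1, 4), (0, 0), (0, 0), (2, 0), (1, 2), (1, 0), (2, 1),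
  (2, 2), (0, 0), (1, 0), (2, 2), (1, 3), (0, 0), (1, 0), (1, 2), (0, 0), (2, 3), (0, 0), (0, 0), (1, 2), (0, 0),
  (1, 1), (2, 4), (0, 0), (0, 0), (1, 0), (1, 2), (1, 0), (2, 2), (1, 0), (1, 3), (0, 0), (2, 1), (2, 2), (0, 0),
  (1, 0), (2, 5), (0, 0), (0, 0), (0, 0), (1, 1), (1, 2), (0, 0), (0, 0), (1, 1), (2, 1), (2, 0), (1, 3), (1, 0),
  (2, 0), (2, 3), (1, 0), (2, 3), (0, 0), (2, 1), (1, 3), (0, 0), (0, 0), (1, 0), (0, 0), (2, 2), (2, 2), (1, 2),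
  (0, 0), (1, 0), (1, 2), (2, 3), (0, 0), (0, 0), (2, 1), (2, 0), (1, 3), (0, 0), (1, 0), (2, 6), (0, 0), (0, 0),
  (1, 0), (0, 0), (2, 0), (1, 2), (1, 0), (2, 1), (2, 2), (1, 0), (2, 3), (1, 0), (2, 1), (1, 3), (1, 0), (1, 0),
  (2, 1), (0, 0), (2, 3), (0, 0), (1, 0), (1, 2), (2, 1), (2, 0), (2, 4), (0, 0), (0, 0), (0, 0), (1, 2), (1, 2),
  (0, 0), (1, 1), (2, 1), (0, 0), (2, 3), (2, 0), (0, 0), (1, 5), (0, 0), (0, 0), (0, 0), (0, 0), (2, 1), (1, 2),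
  (2, 1), (1, 0), (1, 3), (0, 0), (1, 1), (0, 0), (2, 2), (2, 2), (1, 0), (0, 0), (2, 2), (0, 0), (1, 4), (0, 0),
  (0, 0), (1, 0), (1, 2), (1, 0), (1, 3), (0, 0), (1, 0), (2, 1), (1, 2), (1, 0), (2, 1), (2, 2), (2, 3), (0, 0),
  (0, 0), (0, 0), (2, 0), (1, 3), (0, 0), (1, 3), (0, 0), (1, 0), (2, 1), (2, 3), (0, 0), (0, 0), (1, 1), (2, 5),
  (0, 0), (0, 0), (0, 0), (0, 0), (2, 1), (1, 2), (1, 0), (2, 2), (2, 0), (2, 0), (2, 4), (0, 0), (0, 0), (0, 0),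
  (1, 2), (2, 2), (0, 0), (1, 4), (0, 0), (0, 0), (2, 0), (2, 2), (2, 0), (1, 3), (0, 0), (1, 0), (2, 2), (2, 0),
  (2, 3), (1, 0), (0, 0), (1, 1), (2, 4), (0, 0), (1, 1), (0, 0), (2, 0), (1, 2), (2, 1), (2, 2), (1, 0), (1, 6),
  (0, 0), (0, 0), (0, 0), (0, 0), (2, 0), (0, 0), (1, 3), (1, 0), (2, 0), (2, 2), (0, 0), (1, 1), (2, 3), (0, 0),
  (2, 1), (1, 0), (2, 1), (1, 4), (0, 0), (1, 0), (2, 1), (0, 0), (1, 3), (0, 0), (0, 0), (2, 0), (2, 2), (1, 2),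
  (1, 0), (2, 1), (2, 3), (2, 2), (0, 0), (0, 0), (0, 0), (1, 1), (1, 2), (0, 0), (2, 1), (1, 3), (0, 0), (1, 1),
  (2, 1), (2, 2), (0, 0), (0, 0), (2, 1), (1, 2), (0, 0), (2, 2), (1, 4), (0, 0), (0, 0), (0, 0), (2, 0), (2, 2),
  (1, 2), (1, 0), (1, 0), (2, 3), (0, 0), (0, 0), (1, 2), (1, 0), (2, 1), (2, 2), (0, 0), (1, 4), (0, 0), (0, 0),
  (2, 0), (1, 2), (2, 1), (1, 2), (0, 0), (0, 0), (1, 1), (1, 2), (1, 0), (2, 0), (2, 2), (2, 2), (0, 0), (2, 3),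
  (1, 0), (2, 1), (1, 0), (2, 4), (0, 0), (1, 0), (0, 0), (2, 2), (2, 0), (1, 3), (2, 0), (0, 0), (2, 3), (2, 0),
  (0, 0), (1, 1), (2, 1), (1, 0), (2, 6), (0, 0), (1, 0), (1, 0), (2, 2), (0, 0), (2, 0), (1, 2), (2, 1), (1, 0),
  (1, 4), (0, 0), (0, 0), (1, 1), (2, 1), (1, 2), (2, 1), (0, 0), (0, 0), (1, 0), (2, 2), (0, 0), (2, 3), (2, 0),
  (2, 4), (0, 0), (0, 0), (0, 0), (2, 1), (1, 2), (2, 0), (2, 2), (1, 2), (0, 0), (2, 0), (1, 2), (2, 1), (2, 2),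
  (0, 0), (1, 0), (1, 0), (1, 3), (0, 0), (1, 1), (2, 2), (0, 0), (1, 1), (1, 0)]

def hsSub3Tree_1 : List (ℕ × ℕ) := [
  (2, 2), (1, 6), (0, 0), (0, 0), (0, 0), (0, 0), (1, 1), (0, 0), (2, 2), (1, 0), (2, 1), (1, 3), (2, 0), (0, 0),
  (2, 1), (1, 4), (0, 0), (2, 0), (0, 0), (1, 3), (1, 0), (0, 0), (2, 2), (1, 0), (2, 3), (0, 0), (2, 0), (1, 2),
  (1, 0), (2, 4), (0, 0), (0, 0), (1, 0), (1, 2), (2, 1), (2, 0), (1, 3), (0, 0), (0, 0), (2, 1), (2, 2), (0, 0),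
  (2, 1), (2, 3), (0, 0), (2, 1), (1, 4), (0, 0), (0, 0), (0, 0), (0, 0), (2, 1), (1, 2), (0, 0), (2, 2), (1, 0),
  (2, 1), (1, 3), (0, 0), (2, 0), (2, 3), (0, 0), (0, 0), (1, 2), (0, 0), (1, 1), (2, 2), (2, 0), (1, 4), (0, 0),
  (1, 1), (1, 0), (2, 0), (2, 2), (2, 0), (2, 3), (0, 0), (2, 0), (1, 2), (0, 0), (2, 2), (1, 0), (2, 4), (0, 0),
  (1, 0), (2, 0), (2, 2), (2, 0), (1, 3), (1, 0), (0, 0), (1, 1), (1, 0), (2, 4), (1, 0), (1, 0), (2, 5), (0, 0),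
  (0, 0), (0, 0), (2, 0), (1, 2), (1, 3), (0, 0), (1, 0), (0, 0), (2, 2), (0, 0), (1, 1), (0, 0), (1, 4), (0, 0),
  (1, 1), (0, 0), (1, 1), (2, 1), (2, 3), (0, 0), (0, 0), (1, 2), (2, 1), (1, 0), (2, 4), (0, 0), (0, 0), (1, 0),
  (2, 1), (1, 2), (1, 2), (0, 0), (1, 1), (0, 0), (1, 1), (1, 0), (2, 2), (2, 2), (2, 2), (1, 0), (2, 1), (2, 5),
  (0, 0), (0, 0), (0, 0), (1, 0), (0, 0), (2, 2), (2, 2), (1, 0), (0, 0), (2, 1), (2, 2), (2, 0), (1, 4), (0, 0),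
  (0, 0), (2, 0), (1, 3), (0, 0), (1, 0), (1, 2), (2, 0), (2, 4), (1, 0), (1, 0), (2, 1), (2, 2), (0, 0), (2, 0),
  (1, 2), (1, 0), (2, 2), (1, 4), (0, 0), (0, 0), (0, 0), (1, 0), (2, 0), (1, 3), (1, 0), (2, 1), (2, 2), (2, 0),
  (1, 3), (0, 0), (0, 0), (2, 1), (1, 2), (2, 0), (2, 3), (0, 0), (1, 0), (2, 2), (1, 3), (0, 0), (1, 0), (0, 0),
  (1, 1), (2, 2), (1, 2), (0, 0), (2, 1), (0, 0), (2, 3), (0, 0), (2, 1), (1, 0), (2, 4), (1, 0), (2, 0), (0, 0),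
  (2, 1), (2, 3), (0, 0), (1, 1), (2, 0), (0, 0), (2, 3), (1, 0), (2, 1), (2, 5), (0, 0), (0, 0), (0, 0), (0, 0),
  (2, 1), (1, 2), (2, 0), (2, 2), (1, 2), (0, 0), (1, 0), (0, 0), (2, 2), (1, 2), (2, 2), (0, 0), (1, 0), (1, 2),
  (0, 0), (2, 2), (1, 3), (0, 0), (0, 0), (1, 1), (2, 0), (1, 3), (0, 0), (2, 1), (0, 0), (2, 3), (2, 2), (0, 0),
  (0, 0), (1, 0), (1, 2), (0, 0), (2, 1), (2, 3), (0, 0), (1, 1), (2, 1), (0, 0), (2, 7), (0, 0), (0, 0), (0, 0),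
  (1, 0), (1, 0), (1, 0), (2, 3), (0, 0), (0, 0), (1, 1), (1, 2), (1, 3), (0, 0), (0, 0), (1, 1), (2, 1), (0, 0),
  (0, 0), (1, 2), (1, 3), (2, 1), (0, 0), (2, 3), (0, 0), (2, 0), (2, 0), (1, 3), (0, 0), (2, 0), (1, 2), (0, 0),
  (2, 3), (0, 0), (0, 0), (1, 2), (0, 0), (2, 2), (1, 0), (2, 1), (1, 5), (0, 0), (0, 0), (0, 0), (1, 0), (1, 2),
  (0, 0), (2, 1), (2, 2), (1, 0), (2, 3), (0, 0), (1, 1), (2, 1), (1, 3), (1, 0), (0, 0), (2, 0), (1, 2), (0, 0),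
  (1, 1), (2, 2), (2, 0), (2, 3), (0, 0), (0, 0), (1, 2), (2, 0), (2, 4), (0, 0), (0, 0), (0, 0), (1, 2), (2, 1),
  (0, 0), (2, 1), (1, 3), (0, 0), (2, 0), (2, 2), (2, 4), (0, 0), (0, 0), (0, 0), (1, 1), (0, 0), (2, 3), (2, 0),
  (0, 0), (1, 4), (0, 0), (0, 0), (1, 2), (0, 0), (1, 1), (2, 1), (2, 2), (0, 0), (0, 0), (2, 2), (1, 0), (2, 4),
  (0, 0), (0, 0), (1, 0), (2, 2), (0, 0), (1, 1), (1, 3), (0, 0), (2, 0), (2, 2), (1, 0), (2, 3), (0, 0), (2, 1),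
  (1, 5), (0, 0), (0, 0), (0, 0), (0, 0), (1, 0), (2, 1), (1, 2), (2, 1), (2, 0), (1, 3), (0, 0), (2, 0), (2, 2),
  (2, 0), (2, 3), (1, 2), (0, 0), (0, 0), (1, 2), (0, 0), (1, 0), (2, 2), (0, 0), (1, 1), (2, 1), (2, 0), (2, 4),
  (2, 2), (0, 0), (1, 0), (2, 1), (1, 2), (0, 0), (2, 0), (1, 2), (0, 0), (2, 3), (0, 0), (0, 0), (2, 2), (2, 0),
  (1, 5), (0, 0), (0, 0), (0, 0), (1, 0), (1, 2), (1, 0), (2, 2), (1, 2), (1, 0), (0, 0), (2, 2), (2, 0), (2, 0),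
  (2, 4), (1, 0), (1, 0), (2, 2), (0, 0), (1, 1), (1, 4), (0, 0), (0, 0), (1, 1), (2, 1), (0, 0), (2, 3), (0, 0),
  (0, 0), (1, 1), (1, 2), (0, 0), (2, 4), (2, 0), (1, 0), (2, 5), (0, 0), (1, 0), (0, 0), (2, 2), (1, 0), (0, 0),
  (1, 1), (0, 0), (2, 2), (2, 0), (2, 3), (0, 0), (2, 1), (1, 4), (0, 0), (1, 0), (1, 0), (0, 0), (1, 1), (2, 3),
  (0, 0), (2, 0), (1, 2), (1, 3), (0, 0), (0, 0), (1, 0), (1, 2), (0, 0), (1, 1), (2, 2), (0, 0), (1, 3), (0, 0),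
  (1, 1), (2, 1), (1, 0), (2, 3), (2, 0), (0, 0), (2, 4), (0, 0), (0, 0), (1, 2)]

def hsSub3Tree_2 : List (ℕ × ℕ) := [
  (0, 0), (2, 0), (2, 2), (2, 0), (2, 5), (0, 0), (0, 0), (0, 0), (1, 2), (1, 0), (2, 0), (2, 2), (2, 2), (0, 0),
  (1, 1), (2, 0), (1, 4), (1, 0), (0, 0), (2, 0), (2, 0), (1, 3), (0, 0), (1, 1), (2, 3), (0, 0), (2, 0), (2, 2),
  (1, 0), (2, 4), (1, 0), (0, 0), (2, 1), (2, 2), (2, 0), (1, 7), (0, 0), (0, 0), (0, 0), (0, 0), (1, 0), (0, 0),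
  (1, 1), (0, 0), (1, 1), (2, 2), (0, 0), (1, 1), (2, 0), (2, 4), (0, 0), (1, 0), (1, 2), (0, 0), (2, 1), (1, 4),
  (0, 0), (1, 0), (2, 1), (1, 2), (1, 0), (2, 2), (1, 0), (0, 0), (2, 2), (0, 0), (1, 1), (2, 4), (0, 0), (0, 0),
  (2, 2), (1, 0), (1, 4), (0, 0), (0, 0), (0, 0), (2, 1), (1, 2), (1, 0), (2, 2), (0, 0), (0, 0), (2, 1), (1, 2),
  (2, 1), (1, 3), (0, 0), (0, 0), (1, 1), (2, 0), (2, 2), (1, 0), (2, 3), (0, 0), (0, 0), (1, 1), (1, 2), (2, 0),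
  (2, 2), (2, 3), (0, 0), (0, 0), (1, 1), (0, 0), (1, 1), (2, 2), (2, 4), (0, 0), (2, 0), (1, 0), (1, 3), (0, 0),
  (0, 0), (1, 0), (2, 1), (2, 2), (0, 0), (2, 1), (2, 4), (0, 0), (1, 0), (1, 0), (2, 2), (1, 2), (0, 0), (1, 1),
  (1, 0), (2, 1), (2, 2), (1, 0), (2, 3), (0, 0), (1, 1), (1, 5), (0, 0), (0, 0), (0, 0), (0, 0), (1, 1), (1, 0),
  (2, 2), (1, 2), (0, 0), (1, 0), (1, 2), (0, 0), (2, 2), (2, 0), (2, 3), (1, 0), (2, 1), (0, 0), (2, 1), (1, 4),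
  (1, 0), (0, 0), (0, 0), (1, 1), (1, 2), (2, 0), (2, 3), (1, 0), (0, 0), (2, 1), (2, 2), (1, 0), (2, 4), (0, 0),
  (0, 0), (1, 1), (2, 0), (2, 2), (0, 0), (1, 1), (1, 0), (2, 2), (2, 0), (1, 4), (0, 0), (1, 1), (2, 1), (2, 2),
  (2, 0), (1, 4), (0, 0), (0, 0), (1, 0), (1, 0), (2, 2), (1, 2), (0, 0), (1, 0), (2, 2), (0, 0), (1, 1), (2, 3),
  (1, 2), (0, 0), (0, 0), (0, 0), (2, 1), (1, 2), (2, 0), (2, 2), (1, 2), (2, 1), (1, 0), (2, 3), (0, 0), (0, 0),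
  (1, 1), (0, 0), (2, 1), (2, 2), (0, 0), (1, 3), (2, 0), (1, 0), (2, 5), (0, 0), (0, 0), (0, 0), (0, 0), (2, 1),
  (1, 2), (2, 1), (1, 0), (1, 3), (1, 0), (1, 0), (2, 1), (2, 2), (0, 0), (2, 3), (1, 2), (0, 0), (1, 1), (0, 0),
  (0, 0), (1, 2), (2, 1), (0, 0), (2, 1), (2, 3), (1, 0), (2, 1), (2, 0), (2, 4), (0, 0), (1, 0), (0, 0), (1, 1),
  (2, 2), (2, 2), (0, 0), (2, 1), (1, 6), (0, 0), (0, 0), (0, 0), (0, 0), (1, 1), (1, 0), (2, 1), (2, 2), (0, 0),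
  (1, 0), (2, 1), (1, 4), (0, 0), (0, 0), (0, 0), (2, 1), (2, 2), (1, 0), (1, 3), (0, 0), (1, 1), (1, 0), (2, 1),
  (2, 2), (1, 0), (2, 1), (2, 3), (0, 0), (1, 1), (2, 1), (0, 0), (2, 4), (0, 0), (0, 0), (1, 0), (1, 2), (0, 0),
  (2, 3), (0, 0), (1, 0), (2, 1), (1, 2), (1, 0), (1, 5), (0, 0), (1, 0), (0, 0), (0, 0), (1, 2), (2, 1), (1, 3),
  (0, 0), (1, 0), (0, 0), (2, 0), (2, 3), (1, 2), (0, 0), (1, 0), (1, 2), (0, 0), (2, 2), (1, 0), (2, 0), (2, 5),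
  (1, 0), (0, 0), (2, 1), (2, 0), (2, 3), (0, 0), (0, 0), (2, 2), (1, 0), (2, 1), (2, 5), (0, 0), (0, 0), (2, 1),
  (1, 0), (1, 0), (1, 4), (0, 0), (0, 0), (1, 0), (2, 2), (2, 2), (1, 0), (2, 1), (2, 0), (2, 4), (0, 0), (0, 0),
  (2, 0), (1, 2), (2, 0), (1, 3), (1, 0), (0, 0), (2, 1), (2, 2), (2, 2), (1, 0), (1, 0), (2, 1), (2, 2), (1, 0),
  (1, 6), (0, 0), (0, 0), (1, 0), (0, 0), (0, 0), (1, 1), (2, 2), (1, 0), (2, 1), (2, 3), (0, 0), (0, 0), (0, 0),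
  (1, 3), (0, 0), (2, 1), (1, 4), (0, 0), (0, 0), (1, 0), (1, 2), (1, 2), (0, 0), (1, 1), (2, 1), (0, 0), (2, 3),
  (1, 0), (2, 1), (2, 0), (2, 4), (0, 0), (0, 0), (2, 0), (1, 2), (1, 0), (2, 1), (2, 2), (2, 2), (0, 0), (0, 0),
  (1, 2), (1, 0), (2, 1), (2, 2), (2, 0), (1, 5), (0, 0), (1, 0), (0, 0), (1, 0), (1, 2), (0, 0), (1, 1), (2, 1),
  (2, 3), (2, 0), (2, 0), (2, 4), (0, 0), (0, 0), (1, 2), (1, 0), (2, 1), (2, 2), (0, 0), (0, 0), (2, 1), (1, 2),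
  (0, 0), (1, 1), (2, 2), (1, 0), (2, 1), (2, 0), (2, 6), (0, 0), (0, 0), (0, 0), (2, 0), (1, 2), (1, 0), (2, 2),
  (2, 0), (1, 3), (1, 0), (2, 1), (1, 0), (2, 3), (0, 0), (1, 1), (1, 3), (0, 0), (1, 0), (2, 1), (0, 0), (1, 3),
  (0, 0), (1, 1), (1, 0), (2, 1), (2, 2), (2, 2), (1, 0), (2, 3), (0, 0), (0, 0), (1, 0), (1, 2), (2, 2), (0, 0),
  (1, 0), (1, 2), (2, 0), (2, 6), (0, 0), (0, 0), (0, 0), (0, 0), (1, 0), (1, 2), (1, 0), (1, 3), (0, 0), (1, 0),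
  (1, 2), (2, 1), (2, 3), (0, 0), (0, 0), (1, 1), (1, 0), (1, 3), (0, 0), (1, 1)]

def hsSub3Tree_3 : List (ℕ × ℕ) := [
  (2, 0), (2, 3), (0, 0), (1, 0), (2, 2), (1, 4), (0, 0), (0, 0), (0, 0), (1, 1), (1, 2), (0, 0), (1, 0), (1, 2),
  (1, 0), (2, 1), (2, 3), (0, 0), (2, 0), (1, 2), (1, 0), (2, 2), (0, 0), (0, 0), (2, 2), (1, 4), (0, 0), (1, 0),
  (2, 0), (2, 2), (0, 0), (1, 3), (0, 0), (1, 1), (0, 0), (2, 2), (2, 2), (0, 0), (0, 0), (2, 4), (0, 0), (0, 0),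
  (1, 0), (2, 1), (1, 2), (2, 0), (2, 2), (2, 0), (1, 3), (1, 0), (2, 0), (2, 2), (2, 4), (0, 0), (0, 0), (0, 0),
  (0, 0), (1, 2), (0, 0), (1, 1), (1, 3), (1, 0), (0, 0), (2, 3), (1, 0), (0, 0), (1, 1), (0, 0), (2, 3), (0, 0),
  (2, 4), (1, 0), (2, 0), (2, 2), (0, 0), (0, 0), (1, 2), (0, 0), (2, 7), (0, 0), (0, 0), (0, 0), (0, 0), (1, 0),
  (1, 2), (0, 0), (1, 1), (1, 0), (2, 3), (0, 0), (1, 0), (2, 1), (1, 4), (1, 0), (2, 1), (1, 3), (0, 0), (0, 0),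
  (0, 0), (1, 1), (2, 2), (1, 2), (0, 0), (0, 0), (0, 0), (2, 1), (1, 2), (0, 0), (2, 2), (0, 0), (1, 3), (0, 0),
  (1, 0), (2, 1), (1, 2), (2, 1), (2, 2), (0, 0), (1, 1), (2, 0), (2, 4), (0, 0), (0, 0), (0, 0), (1, 2), (1, 0),
  (1, 3), (2, 0), (1, 0), (1, 0), (2, 4), (0, 0), (1, 1), (0, 0), (2, 5), (0, 0), (0, 0), (0, 0), (2, 1), (1, 2),
  (0, 0), (2, 0), (2, 2), (0, 0), (2, 3), (0, 0), (1, 0), (2, 1), (1, 2), (1, 3), (0, 0), (0, 0), (2, 0), (1, 2),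
  (2, 0), (2, 2), (2, 0), (1, 3), (0, 0), (0, 0), (1, 2), (2, 2), (1, 0), (2, 3), (0, 0), (1, 1), (0, 0), (1, 0),
  (2, 1), (1, 2), (2, 1), (2, 0), (2, 3), (1, 0), (2, 1), (0, 0), (1, 6), (0, 0), (1, 0), (0, 0), (2, 0), (1, 2),
  (2, 0), (2, 2), (0, 0), (1, 0), (2, 2), (2, 3), (0, 0), (1, 0), (2, 1), (2, 0), (1, 3), (0, 0), (1, 1), (1, 0),
  (2, 2), (1, 4), (0, 0), (0, 0), (0, 0), (2, 1), (1, 2), (1, 0), (1, 0), (1, 4), (1, 0), (0, 0), (2, 1), (2, 3),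
  (1, 0), (0, 0), (1, 0), (2, 1), (1, 2), (2, 1), (0, 0), (2, 1), (2, 5), (0, 0), (0, 0), (1, 0), (2, 1), (0, 0),
  (1, 3), (0, 0), (1, 0), (2, 3), (0, 0), (1, 0), (1, 2), (0, 0), (1, 4), (0, 0), (1, 0), (2, 1), (1, 2), (0, 0),
  (1, 1), (2, 1), (2, 2), (0, 0), (2, 0), (2, 4), (0, 0), (0, 0), (1, 1), (1, 2), (2, 1), (1, 0), (2, 1), (0, 0),
  (2, 1), (2, 6), (0, 0), (0, 0), (0, 0), (0, 0), (2, 1), (1, 2), (0, 0), (1, 0), (2, 1), (1, 2), (2, 2), (0, 0),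
  (2, 0), (1, 4), (0, 0), (1, 0), (0, 0), (1, 3), (0, 0), (0, 0), (2, 1), (1, 2), (0, 0), (2, 3), (1, 0), (2, 0),
  (2, 4), (0, 0), (0, 0), (1, 1), (2, 0), (2, 2), (2, 0), (1, 3), (2, 0), (2, 2), (0, 0), (1, 1), (2, 0), (2, 2),
  (1, 4), (0, 0), (0, 0), (0, 0), (1, 1), (1, 2), (1, 0), (1, 0), (2, 3), (1, 0), (0, 0), (1, 4), (0, 0), (2, 0),
  (2, 2), (0, 0), (2, 3), (0, 0), (0, 0), (2, 1), (2, 2), (1, 0), (2, 1), (2, 4), (0, 0), (0, 0), (1, 0), (0, 0),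
  (2, 2), (1, 2), (2, 1), (0, 0), (1, 3), (0, 0), (1, 0), (1, 0), (2, 2), (2, 0), (1, 3), (1, 0), (2, 1), (2, 3),
  (2, 0), (0, 0), (2, 1), (2, 7), (0, 0), (0, 0), (0, 0), (0, 0), (1, 0), (1, 0), (2, 1), (2, 2), (0, 0), (1, 0),
  (1, 2), (2, 1), (1, 3), (1, 0), (1, 0), (2, 1), (0, 0), (1, 1), (2, 4), (0, 0), (0, 0), (0, 0), (2, 3), (1, 3),
  (0, 0), (0, 0), (1, 0), (0, 0), (2, 2), (0, 0), (2, 3), (2, 0), (1, 3), (0, 0), (0, 0), (1, 1), (2, 1), (1, 0),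
  (2, 1), (1, 3), (0, 0), (1, 1), (2, 3), (0, 0), (1, 0), (1, 2), (0, 0), (0, 0), (1, 0), (1, 3), (2, 2), (0, 0),
  (0, 0), (1, 2), (0, 0), (2, 5), (0, 0), (0, 0), (0, 0), (1, 2), (0, 0), (2, 0), (1, 2), (2, 1), (1, 0), (2, 3),
  (1, 0), (2, 0), (2, 2), (1, 3), (0, 0), (0, 0), (1, 1), (0, 0), (2, 2), (1, 2), (2, 1), (1, 0), (2, 0), (2, 4),
  (0, 0), (2, 0), (2, 2), (0, 0), (1, 1), (2, 1), (1, 0), (1, 6), (0, 0), (0, 0), (0, 0), (0, 0), (1, 1), (2, 0),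
  (2, 2), (2, 0), (2, 3), (0, 0), (2, 1), (0, 0), (2, 1), (1, 4), (1, 0), (0, 0), (1, 1), (2, 1), (1, 0), (2, 3),
  (0, 0), (1, 1), (1, 0), (2, 2), (2, 3), (0, 0), (0, 0), (1, 1), (1, 0), (2, 2), (2, 2), (1, 0), (0, 0), (1, 5),
  (0, 0), (0, 0), (0, 0), (1, 0), (1, 2), (2, 1), (1, 0), (1, 3), (0, 0), (1, 0), (2, 2), (2, 2), (0, 0), (1, 1),
  (2, 1), (1, 3), (1, 0), (1, 0), (2, 1), (0, 0), (2, 3), (0, 0), (1, 0), (1, 2), (2, 1), (2, 3), (0, 0), (0, 0),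
  (2, 0), (1, 2), (0, 0), (1, 3), (0, 0), (0, 0), (1, 1), (2, 1), (1, 2), (1, 0)]

def hsSub3Tree_4 : List (ℕ × ℕ) := [
  (2, 1), (2, 3), (0, 0), (1, 1), (1, 0), (2, 1), (2, 2), (2, 4), (0, 0), (1, 0), (0, 0), (2, 1), (2, 2), (0, 0),
  (2, 0), (2, 2), (1, 0), (1, 4), (0, 0), (0, 0), (2, 0), (1, 2), (2, 1), (1, 2), (0, 0), (1, 1), (2, 1), (2, 2),
  (0, 0), (0, 0), (1, 2), (2, 1), (2, 3), (1, 0), (0, 0), (2, 0), (1, 2), (0, 0), (2, 1), (2, 2), (2, 5), (0, 0),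
  (0, 0), (0, 0), (1, 0), (2, 1), (0, 0), (1, 3), (1, 0), (0, 0), (2, 0), (1, 2), (1, 4), (0, 0), (2, 0), (1, 0),
  (2, 3), (0, 0), (0, 0), (1, 1), (2, 4), (1, 0), (0, 0), (1, 1), (1, 0), (2, 1), (2, 2), (1, 0), (1, 5), (0, 0),
  (1, 0), (0, 0), (0, 0), (2, 1), (1, 2), (2, 2), (0, 0), (1, 1), (2, 3), (0, 0), (2, 0), (1, 2), (0, 0), (2, 0),
  (2, 3), (0, 0), (0, 0), (1, 2), (2, 0), (2, 2), (1, 0), (2, 1), (2, 0), (2, 6), (0, 0), (0, 0), (1, 0), (1, 2),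
  (0, 0), (1, 1), (2, 1), (1, 0), (2, 3), (0, 0), (2, 0), (2, 2), (2, 0), (1, 4), (0, 0), (0, 0), (1, 1), (2, 0),
  (1, 3), (0, 0), (2, 1), (2, 3), (0, 0), (0, 0), (0, 0), (1, 3), (0, 0), (1, 0), (2, 3), (0, 0), (2, 0), (1, 7),
  (0, 0), (0, 0), (0, 0), (0, 0), (2, 0), (2, 2), (1, 0), (0, 0), (1, 4), (1, 0), (0, 0), (1, 1), (2, 2), (0, 0),
  (2, 3), (0, 0), (0, 0), (2, 1), (0, 0), (2, 3), (0, 0), (0, 0), (1, 1), (1, 2), (1, 4), (0, 0), (0, 0), (1, 0),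
  (2, 0), (2, 2), (1, 2), (1, 0), (2, 0), (2, 2), (1, 0), (2, 3), (0, 0), (1, 3), (0, 0), (0, 0), (1, 1), (1, 2),
  (0, 0), (1, 1), (1, 0), (2, 2), (2, 2), (0, 0), (2, 0), (2, 4), (2, 0), (2, 0), (2, 4), (0, 0), (0, 0), (1, 0),
  (2, 0), (1, 3), (2, 0), (1, 0), (2, 3), (1, 2), (0, 0), (0, 0), (2, 1), (1, 2), (1, 0), (2, 1), (0, 0), (2, 4),
  (2, 0), (0, 0), (1, 1), (2, 1), (1, 0), (1, 6), (0, 0), (0, 0), (0, 0), (2, 0), (2, 2), (1, 0), (1, 3), (1, 0),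
  (1, 0), (2, 1), (1, 0), (2, 3), (0, 0), (2, 3), (0, 0), (2, 0), (1, 2), (0, 0), (1, 1), (2, 1), (1, 4), (0, 0),
  (0, 0), (0, 0), (0, 0), (1, 2), (2, 1), (1, 2), (2, 0), (0, 0), (2, 3), (1, 0), (0, 0), (1, 1), (1, 4), (0, 0),
  (1, 0), (1, 0), (2, 1), (2, 2), (2, 0), (2, 4), (0, 0), (0, 0), (1, 1), (2, 1), (1, 2), (0, 0), (1, 1), (2, 1),
  (2, 2), (0, 0), (1, 0), (1, 2), (1, 0), (2, 2), (0, 0), (2, 5), (0, 0), (0, 0), (0, 0), (1, 1), (2, 1), (1, 2),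
  (0, 0), (0, 0), (2, 2), (2, 2), (1, 0), (1, 0), (2, 2), (1, 3), (0, 0), (1, 0), (2, 1), (1, 2), (2, 0), (0, 0),
  (1, 1), (2, 3), (1, 0), (2, 3), (0, 0), (0, 0), (1, 1), (0, 0), (2, 1), (2, 2), (1, 2), (1, 0), (2, 0), (2, 2),
  (1, 0), (2, 3), (0, 0), (2, 0), (2, 2), (2, 5), (0, 0), (0, 0), (0, 0), (0, 0), (2, 1), (0, 0), (2, 3), (1, 0),
  (0, 0), (1, 1), (1, 4), (0, 0), (0, 0), (2, 0), (1, 2), (2, 1), (1, 2), (0, 0), (1, 1), (2, 1), (2, 2), (0, 0),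
  (1, 1), (2, 3), (0, 0), (1, 0), (2, 1), (0, 0), (1, 3), (0, 0), (1, 1), (2, 2), (0, 0), (0, 0), (1, 5), (0, 0),
  (0, 0), (2, 0), (0, 0), (1, 3), (0, 0), (0, 0), (1, 2), (2, 0), (2, 3), (1, 0), (2, 1), (1, 3), (0, 0), (0, 0),
  (1, 1), (2, 2), (1, 0), (2, 1), (2, 3), (0, 0), (0, 0), (1, 2), (1, 0), (2, 1), (2, 2), (2, 0), (2, 4), (0, 0),
  (0, 0), (0, 0), (2, 1), (1, 2), (1, 0), (2, 1), (1, 3), (0, 0), (1, 0), (2, 1), (2, 0), (1, 3), (1, 0), (2, 2),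
  (0, 0), (1, 1), (2, 1), (2, 3), (0, 0), (0, 0), (1, 2), (0, 0), (2, 0), (2, 2), (2, 2), (0, 0), (2, 1), (1, 8),
  (0, 0), (0, 0), (0, 0), (0, 0), (1, 0), (0, 0), (2, 0), (1, 2), (1, 0), (1, 0), (2, 1), (2, 3), (0, 0), (1, 1),
  (2, 0), (2, 2), (0, 0), (1, 1), (2, 1), (2, 4), (0, 0), (0, 0), (1, 1), (1, 2), (0, 0), (1, 0), (2, 2), (2, 2),
  (0, 0), (2, 1), (1, 4), (0, 0), (0, 0), (0, 0), (1, 1), (2, 1), (1, 2), (0, 0), (1, 0), (1, 2), (0, 0), (2, 3),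
  (2, 0), (2, 3), (0, 0), (1, 0), (2, 1), (2, 2), (1, 0), (2, 1), (2, 0), (2, 5), (0, 0), (0, 0), (2, 0), (1, 0),
  (2, 3), (0, 0), (2, 1), (0, 0), (1, 1), (1, 4), (0, 0), (2, 0), (0, 0), (1, 1), (1, 3), (1, 0), (2, 2), (1, 0),
  (2, 1), (2, 3), (0, 0), (0, 0), (2, 1), (1, 2), (1, 0), (0, 0), (2, 2), (2, 0), (2, 3), (0, 0), (2, 1), (2, 0),
  (1, 6), (0, 0), (0, 0), (0, 0), (1, 0), (1, 2), (2, 0), (2, 2), (0, 0), (2, 0), (1, 2), (2, 1), (2, 3), (0, 0),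
  (0, 0), (0, 0), (2, 1), (1, 2), (2, 1), (0, 0), (1, 3), (2, 1), (0, 0), (1, 1)]

def hsSub3Tree_5 : List (ℕ × ℕ) := [
  (2, 1), (1, 4), (0, 0), (0, 0), (1, 0), (1, 2), (0, 0), (0, 0), (2, 3), (2, 0), (1, 3), (0, 0), (0, 0), (2, 1),
  (0, 0), (1, 3), (1, 0), (1, 0), (2, 2), (2, 2), (0, 0), (1, 1), (0, 0), (2, 2), (2, 3), (0, 0), (0, 0), (1, 0),
  (1, 3), (1, 0), (2, 1), (2, 2), (0, 0), (0, 0), (1, 2), (2, 4), (0, 0), (0, 0), (0, 0), (1, 0), (2, 1), (1, 2),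
  (2, 0), (2, 3), (0, 0), (2, 0), (2, 2), (1, 3), (0, 0), (2, 0), (1, 2), (0, 0), (1, 0), (1, 2), (1, 0), (2, 2),
  (2, 2), (0, 0), (0, 0), (2, 2), (2, 3), (1, 0), (1, 0), (2, 1), (1, 0), (2, 1), (2, 3), (0, 0), (1, 1), (2, 0),
  (2, 6), (0, 0), (0, 0), (1, 0), (0, 0), (0, 0), (1, 1), (2, 1), (2, 0), (1, 3), (0, 0), (1, 4), (2, 0), (0, 0),
  (2, 3), (0, 0), (0, 0), (2, 0), (1, 2), (2, 0), (1, 3), (0, 0), (0, 0), (1, 1), (2, 3), (0, 0), (2, 1), (0, 0),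
  (1, 5), (1, 0), (1, 0), (0, 0), (2, 0), (1, 2), (2, 0), (2, 3), (0, 0), (1, 0), (1, 2), (1, 0), (2, 2), (0, 0),
  (2, 4), (0, 0), (0, 0), (1, 1), (1, 0), (1, 3), (0, 0), (2, 1), (0, 0), (2, 5), (0, 0), (0, 0), (1, 1), (0, 0),
  (1, 1), (2, 2), (0, 0), (1, 1), (2, 0), (1, 4), (0, 0), (1, 1), (0, 0), (1, 0), (2, 4), (0, 0), (0, 0), (2, 0),
  (1, 7), (0, 0), (0, 0), (1, 0), (0, 0), (0, 0), (1, 0), (2, 2), (1, 2), (0, 0), (2, 2), (0, 0), (1, 0), (1, 2),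
  (2, 3), (0, 0), (1, 1), (0, 0), (1, 1), (1, 4), (0, 0), (0, 0), (0, 0), (2, 0), (1, 2), (0, 0), (2, 1), (2, 2),
  (1, 3), (0, 0), (2, 0), (1, 2), (0, 0), (1, 1), (2, 2), (0, 0), (1, 0), (2, 4), (1, 0), (0, 0), (0, 0), (1, 2),
  (2, 1), (2, 2), (0, 0), (2, 0), (2, 5), (0, 0), (0, 0), (1, 0), (1, 2), (2, 1), (2, 0), (1, 3), (0, 0), (0, 0),
  (1, 1), (2, 1), (1, 2), (0, 0), (2, 0), (2, 3), (2, 0), (2, 0), (2, 4), (0, 0), (0, 0), (1, 1), (1, 0), (1, 3),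
  (0, 0), (1, 0), (2, 2), (1, 0), (2, 3), (1, 4), (0, 0), (0, 0), (0, 0), (1, 0), (2, 1), (1, 0), (2, 1), (2, 3),
  (0, 0), (0, 0), (1, 4), (0, 0), (2, 2), (0, 0), (2, 0), (2, 0), (1, 3), (0, 0), (2, 0), (2, 3), (0, 0), (1, 1),
  (1, 0), (2, 2), (1, 4), (0, 0), (0, 0), (0, 0), (1, 2), (2, 1), (0, 0), (1, 1), (1, 0), (2, 2), (1, 3), (0, 0),
  (1, 1), (0, 0), (2, 1), (0, 0), (2, 3), (0, 0), (2, 1), (2, 4), (0, 0), (0, 0), (1, 0), (1, 2), (0, 0), (2, 0),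
  (1, 2), (1, 3), (0, 0), (1, 0), (2, 1), (1, 2), (2, 0), (0, 0), (2, 3), (1, 0), (0, 0), (2, 2), (2, 0), (2, 6),
  (0, 0), (0, 0), (0, 0), (1, 0), (2, 0), (2, 2), (1, 2), (0, 0), (1, 1), (0, 0), (2, 1), (2, 2), (0, 0), (2, 1),
  (1, 4), (0, 0), (1, 0), (0, 0), (2, 2), (2, 0), (1, 3), (0, 0), (1, 1), (0, 0), (2, 2), (2, 0), (2, 3), (0, 0),
  (2, 1), (2, 3), (0, 0), (1, 0), (2, 1), (1, 2), (0, 0), (2, 0), (2, 2), (0, 0), (2, 3), (1, 0), (2, 1), (0, 0),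
  (1, 5), (0, 0), (0, 0), (0, 0), (2, 1), (1, 2), (0, 0), (0, 0), (2, 2), (1, 0), (0, 0), (2, 4), (1, 2), (0, 0),
  (0, 0), (0, 0), (1, 3), (2, 0), (2, 0), (2, 3), (0, 0), (1, 1), (1, 0), (2, 2), (0, 0), (2, 4), (0, 0), (0, 0),
  (2, 1), (1, 0), (1, 3), (0, 0), (2, 0), (1, 2), (2, 2), (1, 0), (1, 0), (2, 5), (0, 0), (0, 0), (2, 0), (1, 2),
  (2, 0), (1, 3), (0, 0), (1, 0), (2, 0), (2, 2), (1, 2), (1, 0), (0, 0), (2, 2), (2, 2), (0, 0), (1, 1), (2, 3),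
  (1, 0), (0, 0), (2, 2), (0, 0), (1, 1), (2, 1), (2, 0), (2, 7), (0, 0), (0, 0), (0, 0), (0, 0), (2, 0), (1, 2),
  (0, 0), (1, 1), (2, 0), (2, 2), (1, 3), (1, 0), (1, 0), (2, 1), (2, 2), (1, 0), (2, 1), (2, 3), (0, 0), (0, 0),
  (2, 0), (1, 2), (1, 2), (1, 0), (2, 2), (0, 0), (2, 1), (1, 4), (0, 0), (0, 0), (0, 0), (0, 0), (2, 1), (1, 3),
  (0, 0), (1, 1), (0, 0), (2, 2), (0, 0), (2, 3), (1, 0), (2, 1), (2, 0), (1, 4), (2, 1), (0, 0), (0, 0), (1, 1),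
  (0, 0), (2, 2), (1, 2), (0, 0), (2, 0), (1, 2), (2, 2), (0, 0), (2, 0), (1, 2), (2, 1), (1, 0), (2, 5), (0, 0),
  (0, 0), (0, 0), (2, 1), (1, 0), (2, 1), (1, 3), (0, 0), (1, 1), (2, 0), (2, 2), (0, 0), (2, 3), (1, 2), (0, 0),
  (0, 0), (1, 1), (2, 1), (1, 0), (1, 3), (0, 0), (0, 0), (1, 2), (1, 0), (2, 3), (0, 0), (2, 0), (2, 4), (0, 0),
  (0, 0), (2, 0), (1, 2), (2, 1), (2, 2), (0, 0), (1, 1), (2, 0), (2, 2), (1, 0), (1, 6), (0, 0), (0, 0), (0, 0),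
  (0, 0), (2, 0), (2, 2), (1, 0), (2, 1), (1, 3), (1, 0), (2, 1), (2, 2), (1, 2)]

def hsSub3Tree_6 : List (ℕ × ℕ) := [
  (0, 0), (1, 1), (0, 0), (1, 1), (2, 2), (0, 0), (2, 1), (2, 3), (0, 0), (0, 0), (1, 1), (2, 1), (1, 0), (1, 3),
  (0, 0), (1, 0), (1, 2), (0, 0), (2, 3), (1, 0), (1, 4), (0, 0), (0, 0), (2, 0), (1, 2), (0, 0), (2, 1), (2, 0),
  (2, 3), (2, 0), (1, 3), (0, 0), (0, 0), (1, 1), (1, 0), (2, 2), (1, 2), (0, 0), (2, 3), (0, 0), (0, 0), (0, 0),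
  (1, 3), (2, 1), (0, 0), (2, 4), (1, 0), (1, 0), (0, 0), (2, 2), (0, 0), (2, 1), (2, 3), (0, 0), (0, 0), (2, 1),
  (2, 0), (1, 3), (0, 0), (1, 0), (1, 2), (2, 1), (1, 0), (2, 1), (2, 3), (1, 0), (2, 1), (2, 0), (2, 6), (0, 0),
  (0, 0), (1, 0), (2, 1), (2, 0), (0, 0), (1, 4), (0, 0), (2, 0), (1, 2), (1, 0), (2, 1), (0, 0), (2, 3), (0, 0),
  (2, 0), (1, 2), (2, 3), (0, 0), (1, 0), (2, 1), (1, 0), (1, 3), (1, 3), (1, 0), (0, 0), (1, 0), (2, 1), (1, 0),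
  (1, 3), (2, 0), (2, 0), (2, 3), (0, 0), (1, 1), (2, 1), (2, 3), (0, 0), (1, 1), (1, 0), (2, 1), (2, 2), (0, 0),
  (0, 0), (2, 1), (1, 2), (2, 4), (0, 0), (0, 0), (1, 1), (2, 0), (2, 2), (1, 2), (0, 0), (1, 0), (2, 1), (1, 0),
  (1, 3), (0, 0), (0, 0), (2, 3), (1, 0), (1, 0), (2, 4), (0, 0), (0, 0), (2, 1), (0, 0), (1, 3), (1, 0), (2, 1),
  (2, 2), (0, 0), (1, 1), (1, 0), (2, 2), (1, 7), (0, 0), (0, 0), (0, 0), (0, 0), (1, 0), (0, 0), (1, 1), (2, 0),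
  (2, 3), (0, 0), (2, 0), (2, 2), (2, 0), (1, 4), (0, 0), (2, 0), (1, 2), (0, 0), (1, 1), (2, 2), (0, 0), (2, 3),
  (1, 0), (1, 0), (0, 0), (2, 3), (1, 3), (0, 0), (0, 0), (0, 0), (1, 1), (2, 1), (2, 2), (0, 0), (0, 0), (2, 1),
  (2, 2), (1, 3), (0, 0), (0, 0), (1, 1), (2, 1), (1, 2), (1, 0), (2, 1), (2, 2), (2, 2), (1, 0), (0, 0), (2, 4),
  (2, 0), (0, 0), (1, 0), (2, 1), (1, 2), (1, 0), (2, 1), (2, 2), (1, 4), (0, 0), (0, 0), (0, 0), (1, 0), (2, 1),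
  (1, 2), (0, 0), (0, 0), (2, 3), (0, 0), (2, 0), (2, 4), (0, 0), (0, 0), (2, 0), (1, 2), (2, 1), (1, 2), (0, 0),
  (0, 0), (1, 1), (1, 2), (0, 0), (2, 2), (0, 0), (1, 1), (2, 3), (1, 0), (2, 1), (1, 4), (0, 0), (0, 0), (0, 0),
  (1, 0), (1, 3), (0, 0), (1, 1), (2, 1), (1, 3), (0, 0), (2, 0), (1, 2), (0, 0), (2, 0), (1, 2), (0, 0), (2, 3),
  (1, 0), (2, 1), (2, 3), (0, 0), (0, 0), (0, 0), (2, 2), (0, 0), (2, 5), (0, 0), (0, 0), (0, 0), (1, 1), (2, 1),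
  (1, 2), (2, 1), (0, 0), (1, 1), (1, 3), (0, 0), (0, 0), (1, 1), (0, 0), (1, 3), (0, 0), (0, 0), (2, 3), (0, 0),
  (2, 1), (2, 3), (0, 0), (0, 0), (1, 1), (2, 1), (1, 2), (2, 0), (0, 0), (2, 3), (0, 0), (1, 0), (1, 2), (2, 1),
  (2, 5), (0, 0), (1, 0), (1, 0), (2, 1), (0, 0), (1, 0), (2, 2), (1, 0), (2, 4), (1, 0), (0, 0), (1, 0), (1, 2),
  (2, 1), (0, 0), (2, 3), (1, 0), (1, 4), (0, 0), (0, 0), (1, 0), (2, 1), (1, 0), (1, 3), (1, 0), (1, 0), (2, 4),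
  (0, 0), (1, 0), (1, 0), (2, 2), (0, 0), (2, 5), (0, 0), (0, 0), (0, 0), (0, 0), (2, 1), (2, 3), (0, 0), (2, 1),
  (2, 3), (0, 0), (1, 1), (1, 0), (2, 0), (2, 3), (0, 0), (1, 1), (2, 0), (2, 2), (1, 6), (0, 0), (0, 0), (0, 0),
  (0, 0), (2, 0), (2, 2), (0, 0), (1, 1), (2, 1), (1, 3), (0, 0), (1, 0), (0, 0), (2, 1), (2, 3), (0, 0), (2, 3),
  (0, 0), (1, 0), (2, 1), (1, 2), (1, 3), (0, 0), (0, 0), (0, 0), (1, 1), (2, 1), (1, 2), (1, 0), (0, 0), (1, 1),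
  (2, 3), (0, 0), (2, 1), (1, 3), (0, 0), (1, 0), (2, 1), (1, 2), (1, 0), (0, 0), (2, 5), (0, 0), (0, 0), (0, 0),
  (1, 0), (1, 2), (2, 1), (1, 2), (1, 0), (2, 2), (0, 0), (0, 0), (1, 4), (1, 0), (0, 0), (2, 1), (2, 2), (1, 0),
  (1, 5), (0, 0), (1, 0), (0, 0), (0, 0), (2, 0), (1, 3), (0, 0), (1, 0), (2, 1), (1, 2), (1, 0), (2, 2), (1, 0),
  (2, 3), (2, 0), (2, 3), (0, 0), (2, 1), (0, 0), (1, 1), (0, 0), (1, 5), (0, 0), (0, 0), (1, 0), (1, 0), (2, 2),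
  (1, 2), (0, 0), (2, 1), (2, 2), (0, 0), (1, 3), (0, 0), (0, 0), (2, 1), (2, 2), (2, 0), (2, 3), (0, 0), (0, 0),
  (1, 1), (2, 1), (2, 2), (2, 0), (0, 0), (2, 1), (2, 5), (0, 0), (0, 0), (1, 0), (2, 0), (1, 3), (1, 2), (0, 0),
  (2, 0), (2, 2), (2, 0), (2, 3), (0, 0), (0, 0), (1, 2), (0, 0), (2, 2), (1, 0), (2, 5), (0, 0), (0, 0), (0, 0),
  (1, 0), (2, 1), (1, 2), (0, 0), (2, 1), (0, 0), (2, 3), (0, 0), (2, 1), (1, 3), (0, 0), (1, 1), (2, 1), (0, 0),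
  (2, 1), (2, 3), (0, 0), (0, 0), (0, 0), (2, 1), (1, 2), (0, 0), (2, 2), (1, 2)]

def hsSub3Tree_7 : List (ℕ × ℕ) := [
  (0, 0), (2, 2), (1, 3), (0, 0), (1, 0), (2, 1), (1, 0), (1, 3), (0, 0), (1, 1), (2, 1), (0, 0), (1, 1), (2, 3),
  (0, 0), (0, 0), (0, 0), (2, 2), (1, 2), (0, 0), (2, 2), (2, 0), (2, 4), (0, 0), (0, 0), (2, 0), (1, 2), (2, 1),
  (1, 0), (2, 0), (1, 4), (0, 0), (1, 0), (2, 2), (2, 0), (2, 3), (0, 0), (1, 0), (0, 0), (1, 3), (0, 0), (1, 0),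
  (1, 2), (2, 2), (1, 0), (2, 6), (0, 0), (0, 0), (0, 0), (0, 0), (1, 0), (1, 2), (0, 0), (2, 1), (2, 2), (2, 0),
  (2, 3), (0, 0), (0, 0), (1, 2), (1, 0), (1, 0), (2, 1), (2, 2), (2, 2), (2, 0), (1, 4), (1, 0), (0, 0), (0, 0),
  (1, 1), (2, 1), (1, 2), (0, 0), (2, 0), (1, 2), (2, 1), (2, 0), (2, 3), (0, 0), (1, 1), (0, 0), (2, 2), (2, 3),
  (0, 0), (0, 0), (1, 2), (1, 0), (2, 4), (1, 0), (0, 0), (0, 0), (1, 1), (2, 1), (1, 2), (0, 0), (2, 2), (2, 2),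
  (0, 0), (0, 0), (1, 1), (2, 1), (1, 0), (1, 3), (1, 0), (1, 5), (0, 0), (0, 0), (0, 0), (0, 0), (1, 2), (0, 0),
  (2, 2), (0, 0), (1, 0), (2, 1), (2, 2), (1, 3), (0, 0), (1, 1), (1, 0), (2, 1), (2, 0), (2, 3), (2, 0), (1, 4),
  (0, 0), (0, 0), (0, 0), (2, 1), (1, 2), (0, 0), (1, 1), (2, 2), (1, 2), (0, 0), (0, 0), (1, 0), (2, 2), (1, 2),
  (0, 0), (2, 0), (1, 2), (0, 0), (2, 2), (2, 3), (0, 0), (1, 0), (1, 2), (0, 0), (0, 0), (2, 3), (1, 0), (2, 1),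
  (0, 0), (2, 5), (0, 0), (0, 0), (0, 0), (2, 0), (1, 2), (2, 1), (2, 2), (1, 0), (2, 0), (2, 2), (1, 3), (0, 0),
  (0, 0), (0, 0), (1, 3), (0, 0), (1, 1), (2, 1), (2, 2), (2, 2), (0, 0), (0, 0), (2, 1), (1, 2), (1, 0), (2, 2),
  (2, 4), (0, 0), (0, 0), (0, 0), (0, 0), (2, 0), (1, 2), (1, 2), (2, 1), (0, 0), (2, 1), (1, 3), (0, 0), (0, 0),
  (1, 1), (2, 1), (2, 2), (2, 0), (0, 0), (1, 5), (0, 0), (1, 0), (1, 0), (1, 3), (0, 0), (0, 0), (1, 2), (2, 1),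
  (1, 0), (2, 3), (0, 0), (1, 0), (0, 0), (1, 3), (0, 0), (2, 2), (1, 0), (2, 4), (0, 0), (0, 0), (1, 1), (0, 0),
  (1, 1), (2, 1), (2, 0), (2, 3), (0, 0), (1, 1), (1, 0), (2, 2), (2, 3), (1, 0), (2, 0), (2, 2), (2, 6), (0, 0),
  (0, 0), (0, 0), (0, 0), (1, 0), (0, 0), (2, 0), (2, 3), (1, 0), (1, 3), (0, 0), (1, 1), (0, 0), (2, 1), (0, 0),
  (2, 4), (1, 0), (0, 0), (1, 1), (2, 0), (1, 5), (0, 0), (0, 0), (0, 0), (1, 1), (1, 0), (2, 3), (0, 0), (1, 0),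
  (1, 2), (2, 1), (1, 3), (0, 0), (0, 0), (2, 1), (1, 2), (0, 0), (2, 1), (2, 2), (0, 0), (2, 0), (2, 4), (2, 0),
  (1, 0), (2, 1), (2, 4), (0, 0), (0, 0), (0, 0), (1, 2), (0, 0), (2, 0), (1, 2), (1, 3), (0, 0), (1, 0), (0, 0),
  (2, 3), (0, 0), (2, 1), (2, 3), (0, 0), (1, 1), (0, 0), (1, 1), (2, 1), (2, 2), (2, 0), (1, 5), (0, 0), (0, 0),
  (0, 0), (2, 0), (1, 2), (0, 0), (2, 2), (2, 0), (1, 3), (0, 0), (0, 0), (1, 2), (0, 0), (1, 1), (2, 1), (2, 2),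
  (0, 0), (2, 1), (2, 3), (0, 0), (1, 0), (0, 0), (1, 3), (0, 0), (0, 0), (1, 2), (2, 0), (2, 2), (2, 2), (1, 3),
  (0, 0), (1, 0), (1, 0), (2, 2), (0, 0), (1, 1), (0, 0), (2, 2), (1, 3), (0, 0), (0, 0), (2, 1), (1, 2), (0, 0),
  (2, 2), (0, 0), (1, 0), (2, 4), (0, 0), (1, 0), (1, 0), (2, 2), (2, 4), (0, 0), (0, 0), (0, 0), (1, 1), (0, 0),
  (1, 3), (2, 1), (0, 0), (1, 1), (2, 1), (1, 3), (0, 0), (1, 1), (2, 4), (0, 0), (0, 0), (0, 0), (0, 0), (2, 1),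
  (1, 2), (2, 0), (0, 0), (2, 3), (0, 0), (0, 0), (1, 4), (0, 0), (0, 0), (2, 1), (1, 2), (0, 0), (1, 1), (2, 3),
  (1, 0), (0, 0), (2, 1), (1, 4), (0, 0), (0, 0), (0, 0), (2, 0), (1, 3), (0, 0), (2, 0), (1, 2), (2, 1), (2, 2),
  (2, 0), (1, 3), (1, 0), (0, 0), (1, 0), (1, 2), (2, 1), (2, 2), (1, 0), (2, 1), (2, 3), (0, 0), (1, 0), (1, 2),
  (0, 0), (2, 4), (1, 0), (0, 0), (0, 0), (1, 0), (2, 2), (1, 2), (0, 0), (1, 1), (2, 1), (1, 6), (0, 0), (0, 0),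
  (0, 0), (1, 0), (1, 2), (1, 0), (2, 0), (2, 2), (0, 0), (0, 0), (2, 4), (1, 0), (1, 0), (1, 0), (1, 5), (0, 0),
  (0, 0), (2, 0), (1, 0), (1, 3), (0, 0), (2, 2), (0, 0), (1, 1), (1, 3), (0, 0), (0, 0), (1, 1), (1, 2), (0, 0),
  (1, 1), (1, 0), (2, 1), (2, 3), (0, 0), (0, 0), (2, 4), (1, 0), (0, 0), (2, 4), (0, 0), (0, 0), (2, 0), (1, 2),
  (2, 0), (2, 2), (1, 0), (1, 3), (1, 0), (0, 0), (0, 0), (1, 2), (2, 3), (1, 0), (2, 0), (2, 0), (2, 3), (1, 0),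
  (1, 5), (0, 0), (0, 0), (1, 0), (0, 0), (1, 1), (1, 0), (2, 2), (1, 3), (0, 0)]

def hsSub3Tree_8 : List (ℕ × ℕ) := [
  (1, 0), (1, 2), (0, 0), (0, 0), (1, 5), (0, 0), (0, 0), (0, 0), (2, 4), (0, 0), (1, 0), (0, 0), (1, 3), (2, 0),
  (0, 0), (2, 0), (2, 2), (2, 3), (1, 0), (0, 0), (1, 1), (2, 1), (2, 0), (2, 3), (1, 0), (2, 1), (2, 0), (2, 6),
  (0, 0), (0, 0), (0, 0), (0, 0), (1, 0), (2, 3), (0, 0), (1, 1), (2, 1), (1, 3), (1, 0), (0, 0), (2, 1), (2, 2),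
  (1, 0), (2, 1), (2, 3), (0, 0), (0, 0), (1, 2), (2, 0), (2, 2), (1, 0), (2, 1), (1, 0), (1, 5), (0, 0), (0, 0),
  (0, 0), (1, 2), (2, 1), (0, 0), (1, 1), (0, 0), (2, 2), (1, 0), (1, 4), (1, 0), (1, 0), (1, 0), (2, 2), (2, 2),
  (2, 2), (0, 0), (2, 1), (2, 3), (0, 0), (0, 0), (0, 0), (1, 0), (2, 1), (1, 4), (0, 0), (0, 0), (1, 2), (1, 0),
  (2, 2), (2, 0), (0, 0), (2, 4), (0, 0), (0, 0), (2, 2), (0, 0), (2, 6), (0, 0), (0, 0), (0, 0), (0, 0), (1, 1),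
  (1, 0), (1, 0), (2, 3), (1, 0), (1, 3), (0, 0), (1, 0), (2, 1), (0, 0), (1, 3), (2, 1), (0, 0), (1, 1), (2, 1),
  (2, 3), (0, 0), (0, 0), (1, 1), (2, 1), (0, 0), (1, 3), (0, 0), (2, 1), (1, 4), (0, 0), (0, 0), (0, 0), (1, 2),
  (1, 0), (2, 1), (1, 0), (2, 3), (1, 2), (0, 0), (1, 0), (1, 2), (0, 0), (1, 1), (2, 2), (0, 0), (1, 1), (2, 1),
  (2, 3), (0, 0), (0, 0), (1, 1), (0, 0), (1, 3), (1, 0), (2, 2), (1, 0), (2, 4), (0, 0), (0, 0), (2, 0), (0, 0),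
  (1, 3), (0, 0), (0, 0), (1, 2), (1, 3), (0, 0), (1, 1), (1, 0), (2, 1), (2, 2), (0, 0), (1, 1), (1, 5), (0, 0),
  (0, 0), (0, 0), (1, 1), (0, 0), (2, 2), (1, 0), (1, 3), (0, 0), (1, 1), (0, 0), (2, 2), (1, 0), (2, 3), (0, 0),
  (1, 0), (2, 2), (1, 3), (0, 0), (0, 0), (1, 0), (1, 2), (2, 1), (1, 0), (1, 3), (1, 0), (1, 0), (2, 3), (1, 0),
  (1, 0), (2, 2), (2, 0), (2, 0), (2, 5), (0, 0), (0, 0), (2, 1), (1, 2), (0, 0), (1, 0), (1, 2), (2, 1), (1, 0),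
  (2, 3), (0, 0), (2, 1), (1, 0), (2, 1), (2, 5), (0, 0), (0, 0), (1, 0), (0, 0), (2, 2), (1, 0), (1, 3), (0, 0),
  (2, 0), (2, 2), (2, 0), (2, 3), (0, 0), (1, 0), (1, 4), (0, 0), (0, 0), (1, 0), (1, 2), (0, 0), (1, 1), (2, 2),
  (2, 0), (1, 3), (0, 0), (1, 0), (2, 1), (2, 3), (0, 0), (0, 0), (1, 2), (0, 0), (1, 1), (2, 4), (0, 0), (0, 0),
  (2, 0), (2, 2), (1, 2), (2, 0), (1, 0), (2, 1), (2, 3), (0, 0), (0, 0), (1, 1), (2, 0), (2, 3), (0, 0), (1, 1),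
  (2, 8), (0, 0), (0, 0), (0, 0), (0, 0), (1, 0), (0, 0), (1, 0), (2, 1), (1, 2), (2, 1), (2, 2), (1, 0), (2, 0),
  (1, 4), (0, 0), (0, 0), (0, 0), (1, 1), (1, 2), (2, 0), (2, 3), (0, 0), (0, 0), (1, 1), (1, 0), (1, 3), (2, 0),
  (2, 2), (2, 0), (2, 4), (0, 0), (0, 0), (2, 0), (1, 2), (2, 1), (0, 0), (1, 1), (2, 3), (0, 0), (0, 0), (1, 1),
  (2, 1), (1, 2), (1, 4), (0, 0), (0, 0), (0, 0), (0, 0), (1, 1), (2, 0), (2, 3), (0, 0), (0, 0), (1, 2), (2, 1),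
  (1, 3), (0, 0), (0, 0), (2, 0), (2, 2), (2, 2), (2, 2), (0, 0), (1, 0), (2, 1), (2, 2), (0, 0), (2, 1), (2, 0),
  (1, 5), (0, 0), (0, 0), (2, 0), (1, 2), (2, 0), (2, 2), (2, 0), (2, 3), (0, 0), (1, 0), (1, 0), (1, 3), (2, 3),
  (0, 0), (1, 0), (1, 0), (2, 2), (1, 0), (1, 3), (1, 0), (0, 0), (2, 1), (2, 2), (2, 2), (0, 0), (1, 0), (2, 1),
  (1, 2), (0, 0), (2, 0), (1, 2), (2, 5), (0, 0), (0, 0), (0, 0), (0, 0), (2, 0), (1, 2), (1, 2), (1, 0), (2, 1),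
  (2, 0), (2, 3), (1, 2), (0, 0), (0, 0), (1, 1), (2, 1), (2, 0), (1, 3), (0, 0), (2, 0), (1, 2), (0, 0), (2, 2),
  (2, 2), (2, 2), (1, 0), (2, 1), (1, 0), (1, 0), (2, 2), (1, 4), (0, 0), (2, 0), (2, 0), (1, 3), (1, 0), (1, 0),
  (2, 2), (1, 0), (2, 3), (0, 0), (0, 0), (1, 0), (2, 5), (0, 0), (0, 0), (0, 0), (1, 1), (1, 2), (0, 0), (1, 0),
  (2, 1), (1, 2), (2, 1), (2, 2), (1, 0), (1, 0), (1, 4), (2, 0), (1, 0), (2, 3), (0, 0), (1, 0), (1, 2), (0, 0),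
  (2, 2), (1, 0), (1, 0), (1, 7), (0, 0), (0, 0), (0, 0), (0, 0), (1, 1), (2, 1), (1, 0), (1, 3), (2, 0), (1, 0),
  (2, 1), (2, 3), (1, 0), (1, 0), (1, 4), (0, 0), (0, 0), (1, 2), (1, 0), (1, 0), (2, 3), (1, 0), (0, 0), (1, 1),
  (2, 4), (0, 0), (0, 0), (0, 0), (1, 2), (2, 1), (0, 0), (1, 1), (1, 3), (0, 0), (1, 1), (0, 0), (1, 1), (2, 1),
  (0, 0), (2, 3), (2, 0), (0, 0), (2, 4), (0, 0), (1, 0), (2, 1), (1, 2), (1, 0), (2, 2), (1, 0), (1, 5), (0, 0),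
  (1, 0), (1, 0), (2, 1), (2, 2), (2, 0), (0, 0), (1, 0), (2, 2), (1, 0), (1, 5)]

def hsSub3Tree_9 : List (ℕ × ℕ) := [
  (0, 0), (0, 0), (1, 0), (1, 3), (1, 0), (2, 1), (0, 0), (2, 1), (2, 3), (1, 0), (1, 0), (2, 1), (2, 2), (1, 0),
  (2, 5), (0, 0), (0, 0), (2, 0), (0, 0), (1, 1), (2, 1), (1, 3), (0, 0), (1, 1), (0, 0), (1, 0), (2, 2), (1, 0),
  (2, 3), (1, 0), (2, 1), (1, 4), (0, 0), (0, 0), (0, 0), (1, 1), (0, 0), (1, 3), (0, 0), (2, 1), (1, 0), (1, 4),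
  (0, 0), (0, 0), (2, 2), (2, 0), (2, 3), (0, 0), (0, 0), (2, 1), (2, 2), (2, 0), (2, 4), (0, 0), (0, 0), (0, 0),
  (0, 0), (1, 3), (0, 0), (2, 0), (1, 2), (2, 1), (2, 2), (1, 2), (0, 0), (0, 0), (2, 1), (2, 2), (1, 0), (2, 1),
  (2, 6), (0, 0), (0, 0), (0, 0), (0, 0), (1, 1), (0, 0), (1, 0), (1, 2), (2, 1), (2, 2), (2, 0), (1, 3), (0, 0),
  (1, 0), (1, 0), (1, 3), (2, 0), (2, 2), (0, 0), (1, 1), (2, 3), (0, 0), (1, 0), (0, 0), (2, 2), (1, 2), (0, 0),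
  (1, 1), (1, 0), (2, 2), (2, 2), (2, 0), (1, 4), (0, 0), (1, 0), (0, 0), (1, 3), (1, 0), (2, 0), (2, 3), (0, 0),
  (2, 0), (2, 2), (2, 3), (0, 0), (0, 0), (0, 0), (2, 1), (1, 0), (1, 3), (0, 0), (2, 1), (2, 2), (2, 0), (2, 3),
  (0, 0), (0, 0), (1, 1), (2, 2), (0, 0), (0, 0), (1, 2), (2, 1), (1, 5), (0, 0), (0, 0), (0, 0), (1, 0), (2, 1),
  (1, 0), (1, 3), (0, 0), (1, 3), (2, 0), (0, 0), (1, 0), (1, 2), (1, 0), (2, 1), (2, 2), (2, 3), (1, 0), (1, 3),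
  (0, 0), (1, 0), (1, 0), (2, 2), (0, 0), (2, 1), (1, 3), (0, 0), (1, 0), (2, 1), (1, 2), (0, 0), (1, 1), (2, 2),
  (0, 0), (1, 1), (2, 0), (2, 4), (0, 0), (1, 0), (2, 1), (2, 2), (0, 0), (2, 1), (2, 4), (0, 0), (1, 0), (2, 0),
  (2, 2), (0, 0), (2, 0), (2, 2), (1, 3), (0, 0), (0, 0), (2, 3), (0, 0), (1, 0), (0, 0), (2, 2), (2, 2), (1, 0),
  (2, 5), (0, 0), (0, 0), (2, 0), (0, 0), (2, 1), (1, 3), (0, 0), (1, 1), (1, 0), (2, 2), (0, 0), (1, 1), (1, 0),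
  (2, 4), (1, 0), (1, 0), (2, 1), (2, 2), (1, 0), (1, 4), (0, 0), (0, 0), (1, 1), (1, 0), (2, 2), (0, 0), (2, 0),
  (1, 4), (0, 0), (1, 1), (2, 1), (2, 0), (2, 3), (0, 0), (2, 0), (2, 2), (2, 3), (0, 0), (0, 0), (0, 0), (2, 0),
  (1, 3), (0, 0), (1, 1), (2, 1), (1, 0), (2, 3), (2, 0), (1, 3), (0, 0), (2, 0), (1, 2), (1, 0), (2, 1), (2, 3),
  (0, 0), (2, 1), (0, 0), (1, 7), (0, 0), (0, 0), (0, 0), (0, 0), (2, 1), (0, 0), (2, 0), (1, 2), (1, 0), (2, 1),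
  (2, 2), (1, 3), (0, 0), (0, 0), (0, 0), (1, 0), (1, 4), (2, 1), (1, 0), (0, 0), (2, 1), (0, 0), (2, 3), (0, 0),
  (2, 4), (0, 0), (0, 0), (1, 1), (0, 0), (1, 1), (1, 0), (2, 2), (2, 2), (0, 0), (1, 3), (2, 0), (2, 0), (2, 3),
  (0, 0), (1, 0), (2, 1), (1, 2), (1, 0), (0, 0), (1, 6), (0, 0), (0, 0), (1, 1), (0, 0), (1, 1), (2, 1), (2, 2),
  (0, 0), (1, 1), (1, 0), (2, 2), (1, 0), (2, 1), (2, 4), (0, 0), (0, 0), (0, 0), (2, 0), (1, 2), (1, 2), (0, 0),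
  (1, 1), (2, 2), (1, 2), (0, 0), (1, 0), (2, 1), (1, 2), (1, 0), (2, 2), (2, 2), (2, 0), (0, 0), (2, 1), (2, 5),
  (0, 0), (0, 0), (0, 0), (1, 0), (1, 2), (2, 1), (2, 0), (2, 0), (1, 4), (0, 0), (2, 0), (1, 2), (1, 0), (2, 3),
  (0, 0), (2, 0), (1, 2), (2, 1), (1, 0), (2, 1), (1, 4), (0, 0), (1, 0), (2, 1), (1, 2), (0, 0), (0, 0), (1, 2),
  (1, 0), (2, 2), (1, 0), (2, 1), (2, 3), (0, 0), (0, 0), (1, 1), (2, 1), (1, 2), (0, 0), (1, 0), (1, 2), (2, 4),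
  (0, 0), (1, 0), (2, 0), (2, 2), (2, 0), (1, 3), (0, 0), (1, 0), (1, 2), (1, 0), (2, 3), (1, 0), (2, 0), (2, 2),
  (0, 0), (0, 0), (1, 7), (0, 0), (0, 0), (0, 0), (0, 0), (1, 0), (1, 2), (1, 0), (2, 2), (0, 0), (1, 0), (2, 2),
  (1, 3), (1, 0), (2, 0), (0, 0), (2, 3), (1, 0), (2, 3), (1, 0), (0, 0), (2, 1), (2, 2), (0, 0), (1, 1), (1, 4),
  (0, 0), (1, 0), (2, 0), (2, 2), (1, 0), (2, 1), (1, 3), (0, 0), (1, 0), (2, 3), (1, 0), (0, 0), (1, 1), (2, 2),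
  (2, 3), (1, 0), (0, 0), (1, 0), (1, 2), (2, 1), (2, 2), (0, 0), (0, 0), (2, 0), (1, 2), (2, 1), (1, 5), (0, 0),
  (0, 0), (2, 0), (1, 2), (0, 0), (0, 0), (1, 1), (2, 2), (1, 0), (2, 3), (1, 0), (2, 0), (2, 2), (2, 0), (0, 0),
  (1, 1), (1, 5), (0, 0), (0, 0), (1, 0), (1, 3), (0, 0), (1, 0), (2, 2), (0, 0), (2, 3), (2, 0), (0, 0), (2, 1),
  (2, 4), (0, 0), (0, 0), (1, 1), (2, 0), (2, 2), (1, 2), (0, 0), (2, 0), (1, 2), (0, 0), (2, 2), (1, 0), (2, 1),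
  (2, 3), (0, 0), (1, 0), (1, 2), (2, 1), (1, 0), (2, 1), (2, 5), (0, 0), (0, 0)]

def hsSub3Tree_10 : List (ℕ × ℕ) := [
  (0, 0), (0, 0), (1, 2), (1, 0), (2, 2), (2, 0), (1, 0), (1, 4), (1, 0), (1, 0), (2, 1), (2, 2), (1, 0), (2, 3),
  (0, 0), (1, 0), (2, 1), (1, 2), (0, 0), (1, 1), (2, 1), (2, 2), (0, 0), (1, 4), (0, 0), (0, 0), (0, 0), (1, 0),
  (2, 2), (1, 2), (2, 1), (0, 0), (1, 1), (1, 3), (0, 0), (0, 0), (1, 1), (1, 2), (2, 1), (2, 0), (2, 4), (1, 0),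
  (2, 0), (1, 0), (2, 3), (1, 0), (0, 0), (2, 1), (2, 2), (1, 0), (2, 6), (0, 0), (0, 0), (0, 0), (0, 0), (1, 1),
  (0, 0), (1, 1), (2, 2), (1, 2), (0, 0), (2, 1), (2, 0), (0, 0), (2, 4), (0, 0), (0, 0), (2, 0), (2, 2), (2, 0),
  (1, 3), (0, 0), (2, 1), (2, 2), (1, 0), (1, 4), (0, 0), (0, 0), (0, 0), (0, 0), (1, 6), (1, 0), (0, 0), (0, 0),
  (0, 0), (1, 1), (1, 2), (2, 0), (2, 2), (1, 2), (1, 0), (2, 0), (2, 2), (0, 0), (2, 3), (1, 0), (0, 0), (1, 0),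
  (2, 1), (2, 2), (2, 2), (1, 0), (2, 4), (0, 0), (0, 0), (1, 0), (1, 0), (2, 2), (1, 2), (0, 0), (2, 2), (1, 0),
  (0, 0), (2, 2), (1, 3), (0, 0), (2, 1), (2, 4), (0, 0), (0, 0), (2, 0), (1, 2), (1, 0), (2, 1), (2, 2), (0, 0),
  (1, 1), (1, 3), (0, 0), (1, 0), (2, 1), (1, 0), (2, 1), (1, 3), (1, 0), (0, 0), (1, 1), (1, 0), (2, 2), (2, 3),
  (0, 0), (2, 0), (1, 2), (2, 3), (0, 0), (0, 0), (0, 0), (1, 1), (2, 2), (1, 0), (2, 1), (1, 3), (0, 0), (1, 1),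
  (2, 1), (0, 0), (2, 3), (1, 0), (0, 0), (1, 1), (2, 2), (2, 6), (0, 0), (0, 0), (0, 0), (0, 0), (1, 0), (0, 0),
  (1, 1), (2, 2), (0, 0), (1, 3), (0, 0), (2, 0), (1, 2), (0, 0), (2, 1), (2, 2), (1, 0), (2, 3), (0, 0), (1, 1),
  (2, 1), (0, 0), (1, 4), (0, 0), (0, 0), (2, 0), (1, 3), (0, 0), (0, 0), (2, 3), (0, 0), (2, 1), (1, 0), (2, 1),
  (0, 0), (2, 5), (0, 0), (0, 0), (2, 0), (0, 0), (2, 3), (2, 0), (1, 3), (0, 0), (2, 0), (2, 2), (1, 0), (2, 1),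
  (2, 3), (0, 0), (1, 1), (1, 0), (2, 1), (2, 2), (1, 0), (1, 5), (0, 0), (0, 0), (0, 0), (1, 1), (2, 1), (1, 0),
  (2, 0), (2, 2), (1, 3), (1, 0), (2, 1), (0, 0), (2, 3), (0, 0), (0, 0), (0, 0), (1, 2), (2, 1), (0, 0), (2, 1),
  (2, 3), (1, 0), (2, 1), (1, 4), (0, 0), (0, 0), (0, 0), (1, 2), (0, 0), (2, 2), (1, 0), (1, 3), (1, 0), (1, 0),
  (2, 0), (2, 2), (2, 3), (0, 0), (1, 0), (2, 1), (1, 2), (2, 0), (2, 4), (0, 0), (0, 0), (1, 0), (1, 2), (0, 0),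
  (0, 0), (1, 2), (2, 2), (1, 2), (1, 0), (2, 1), (2, 2), (1, 0), (2, 0), (2, 5), (0, 0), (0, 0), (0, 0), (0, 0),
  (2, 2), (0, 0), (1, 3), (0, 0), (0, 0), (1, 2), (2, 0), (2, 3), (0, 0), (0, 0), (1, 2), (2, 1), (0, 0), (2, 0),
  (1, 2), (2, 1), (1, 4), (0, 0), (0, 0), (2, 0), (2, 0), (1, 3), (1, 0), (2, 4), (0, 0), (0, 0), (1, 1), (0, 0),
  (1, 1), (2, 2), (0, 0), (1, 3), (0, 0), (1, 1), (1, 0), (2, 2), (1, 0), (2, 1), (2, 3), (0, 0), (1, 0), (1, 2),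
  (0, 0), (1, 1), (2, 1), (2, 0), (2, 3), (0, 0), (0, 0), (1, 2), (2, 0), (1, 7), (0, 0), (1, 0), (0, 0), (0, 0),
  (2, 0), (2, 2), (0, 0), (2, 1), (1, 3), (0, 0), (1, 0), (1, 2), (2, 1), (0, 0), (2, 3), (0, 0), (1, 0), (1, 2),
  (2, 0), (2, 2), (1, 0), (2, 1), (2, 4), (0, 0), (1, 0), (0, 0), (1, 1), (2, 2), (1, 4), (0, 0), (0, 0), (0, 0),
  (0, 0), (1, 1), (2, 1), (1, 3), (0, 0), (0, 0), (1, 2), (0, 0), (2, 2), (2, 2), (0, 0), (1, 1), (1, 0), (2, 0),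
  (2, 3), (0, 0), (2, 1), (1, 4), (0, 0), (1, 0), (0, 0), (1, 1), (2, 2), (2, 0), (1, 3), (0, 0), (1, 0), (2, 1),
  (1, 2), (0, 0), (1, 0), (2, 2), (2, 2), (0, 0), (2, 3), (2, 0), (1, 0), (2, 1), (2, 4), (0, 0), (0, 0), (2, 1),
  (0, 0), (2, 1), (1, 3), (0, 0), (1, 1), (2, 2), (1, 0), (1, 0), (2, 2), (0, 0), (2, 5), (0, 0), (0, 0), (0, 0),
  (0, 0), (1, 1), (1, 2), (0, 0), (2, 2), (0, 0), (1, 1), (2, 1), (1, 3), (0, 0), (1, 1), (2, 2), (0, 0), (1, 1),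
  (2, 1), (0, 0), (1, 1), (2, 1), (1, 4), (1, 0), (0, 0), (1, 1), (1, 0), (2, 2), (2, 2), (0, 0), (0, 0), (1, 2),
  (2, 1), (2, 3), (0, 0), (0, 0), (0, 0), (1, 1), (1, 2), (0, 0), (2, 2), (1, 2), (1, 0), (0, 0), (2, 1), (2, 2),
  (2, 2), (2, 0), (2, 0), (2, 6), (0, 0), (0, 0), (0, 0), (0, 0), (2, 0), (1, 2), (1, 0), (1, 0), (2, 3), (1, 0),
  (1, 3), (2, 0), (2, 2), (0, 0), (0, 0), (1, 1), (2, 1), (1, 2), (1, 0), (2, 2), (1, 3), (0, 0), (0, 0), (1, 0),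
  (2, 1), (2, 2), (1, 2), (0, 0), (0, 0), (2, 1), (2, 3), (0, 0), (0, 0), (1, 0)]

def hsSub3Tree_11 : List (ℕ × ℕ) := [
  (1, 3), (0, 0), (2, 2), (2, 3), (0, 0), (2, 0), (0, 0), (1, 1), (2, 1), (1, 3), (0, 0), (1, 0), (2, 2), (1, 0),
  (2, 1), (2, 3), (1, 0), (1, 0), (2, 2), (2, 0), (1, 5), (0, 0), (0, 0), (0, 0), (0, 0), (1, 2), (2, 0), (0, 0),
  (1, 4), (0, 0), (2, 0), (1, 2), (1, 0), (2, 1), (2, 2), (2, 0), (1, 4), (0, 0), (0, 0), (1, 0), (1, 2), (0, 0),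
  (2, 2), (1, 0), (1, 3), (0, 0), (1, 1), (1, 0), (2, 2), (0, 0), (2, 0), (2, 4), (1, 0), (2, 1), (1, 0), (1, 0),
  (2, 2), (2, 4), (0, 0), (1, 0), (0, 0), (2, 2), (1, 2), (1, 0), (2, 2), (0, 0), (0, 0), (2, 1), (2, 2), (2, 4),
  (0, 0), (0, 0), (0, 0), (2, 1), (1, 2), (2, 1), (0, 0), (2, 0), (1, 2), (1, 0), (2, 1), (2, 2), (1, 3), (0, 0),
  (0, 0), (0, 0), (1, 2), (0, 0), (2, 1), (2, 3), (0, 0), (0, 0), (2, 4), (1, 0), (0, 0), (2, 0), (1, 2), (1, 0),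
  (2, 2)]

/-- A spanning tree. -/
def hsSub3Tree : List (ℕ × ℕ) := hsSub3Tree_0 ++ hsSub3Tree_1 ++ hsSub3Tree_2 ++ hsSub3Tree_3 ++ hsSub3Tree_4 ++ hsSub3Tree_5 ++ hsSub3Tree_6 ++ hsSub3Tree_7 ++ hsSub3Tree_8 ++ hsSub3Tree_9 ++ hsSub3Tree_10 ++ hsSub3Tree_11

def mcSub0Start : ℕ := 12024260970175128749565039100352406875146142

def mcSub0Tree_0 : List (ℕ × ℕ) := [
  (1, 0), (0, 0), (0, 0), (0, 0), (1, 0), (0, 0), (0, 0), (0, 0), (1, 0), (0, 0), (0, 0), (1, 2), (1, 3), (1, 2),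
  (0, 0), (1, 0), (1, 6), (0, 0), (0, 0), (0, 0), (1, 1), (1, 2), (0, 0), (0, 0), (0, 0), (1, 0), (0, 0), (1, 1),
  (1, 0), (1, 0), (1, 6), (0, 0), (0, 0), (0, 0), (1, 0), (1, 3), (0, 0), (0, 0), (1, 2), (1, 3), (1, 0), (1, 0),
  (1, 7), (0, 0), (0, 0), (0, 0), (1, 0), (1, 0), (0, 0), (1, 1), (0, 0), (1, 0), (1, 6), (1, 0), (0, 0), (0, 0),
  (1, 2), (1, 0), (1, 5), (0, 0), (1, 0), (1, 2), (0, 0), (1, 0), (1, 2), (1, 0), (0, 0), (1, 0), (1, 2), (1, 6),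
  (0, 0), (0, 0), (1, 0), (1, 0), (1, 0), (1, 4), (0, 0), (1, 0), (1, 0), (1, 3), (1, 3), (0, 0), (1, 0), (0, 0),
  (0, 0), (1, 2), (1, 0), (1, 9), (0, 0), (0, 0), (1, 0), (0, 0), (0, 0), (0, 0), (1, 0), (1, 0), (0, 0), (1, 4),
  (0, 0), (1, 3), (0, 0), (0, 0), (1, 1), (1, 0), (1, 5), (0, 0), (0, 0), (0, 0), (1, 2), (0, 0), (1, 0), (1, 4),
  (0, 0), (0, 0), (1, 2), (0, 0), (1, 1), (1, 6), (1, 0), (0, 0), (0, 0), (1, 0), (1, 3), (0, 0), (0, 0), (1, 0),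
  (1, 0), (1, 3), (0, 0), (1, 0), (1, 0), (1, 3), (1, 7), (0, 0), (0, 0), (0, 0), (1, 0), (0, 0), (0, 0), (1, 2),
  (0, 0), (1, 1), (1, 0), (1, 6), (0, 0), (0, 0), (0, 0), (1, 0), (0, 0), (1, 3), (1, 2), (1, 0), (1, 0), (1, 4),
  (0, 0), (1, 1), (1, 4), (0, 0), (0, 0), (0, 0), (1, 0), (1, 2), (0, 0), (1, 1), (1, 0), (1, 0), (1, 5), (0, 0),
  (1, 1), (0, 0), (0, 0), (0, 0), (1, 0), (1, 7), (1, 0), (0, 0), (0, 0), (0, 0), (1, 1), (1, 0), (1, 10), (0, 0),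
  (0, 0), (0, 0), (1, 0), (0, 0), (0, 0), (0, 0), (1, 0), (1, 0), (1, 3), (0, 0), (1, 0), (1, 2), (1, 0), (1, 4),
  (1, 0), (0, 0), (1, 0), (1, 5), (1, 3), (0, 0), (1, 0), (1, 0), (0, 0), (0, 0), (1, 2), (0, 0), (1, 7), (0, 0),
  (0, 0), (0, 0), (1, 0), (0, 0), (0, 0), (1, 2), (0, 0), (1, 0), (1, 5), (0, 0), (0, 0), (1, 1), (1, 2), (0, 0),
  (1, 0), (1, 2), (1, 4), (0, 0), (0, 0), (0, 0), (1, 2), (0, 0), (1, 0), (1, 2), (0, 0), (1, 4), (0, 0), (1, 0),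
  (0, 0), (0, 0), (1, 7), (0, 0), (0, 0), (0, 0), (1, 0), (1, 0), (0, 0), (1, 4), (0, 0), (0, 0), (1, 2), (1, 0),
  (1, 0), (1, 5), (0, 0), (1, 0), (0, 0), (1, 1), (1, 3), (1, 6), (0, 0), (0, 0), (1, 0), (0, 0), (0, 0), (0, 0),
  (1, 1), (0, 0), (0, 0), (1, 4), (0, 0), (1, 1), (0, 0), (1, 4), (1, 0), (0, 0), (1, 5), (1, 2), (0, 0), (0, 0),
  (0, 0), (1, 0), (0, 0), (1, 3), (0, 0), (0, 0), (0, 0), (1, 0), (1, 3), (1, 2), (1, 0), (0, 0), (1, 1), (1, 5),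
  (0, 0), (1, 0), (1, 0), (1, 0), (1, 4), (0, 0), (1, 0), (1, 2), (0, 0), (1, 0), (0, 0), (1, 0), (1, 4), (0, 0),
  (1, 1), (0, 0), (1, 1), (1, 7), (0, 0), (1, 0), (0, 0), (0, 0), (1, 2), (0, 0), (0, 0), (1, 2), (1, 4), (0, 0),
  (0, 0), (1, 0), (1, 0), (0, 0), (1, 4), (1, 0), (1, 0)]

/-- A spanning tree. -/
def mcSub0Tree : List (ℕ × ℕ) := mcSub0Tree_0

def mcSub1Start : ℕ := 12024260969526247622088820304874804231661598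

def mcSub1Tree_0 : List (ℕ × ℕ) := [
  (0, 0), (0, 0), (0, 0), (1, 0), (0, 0), (0, 0), (0, 0), (1, 0), (0, 0), (0, 0), (0, 0), (1, 5), (0, 0), (1, 0),
  (0, 0), (1, 3), (0, 0), (0, 0), (1, 5), (1, 0), (0, 0), (1, 1), (0, 0), (0, 0), (1, 2), (1, 5), (0, 0), (0, 0),
  (0, 0), (1, 0), (1, 0), (1, 3), (1, 2), (0, 0), (0, 0), (1, 0), (0, 0), (1, 3), (0, 0), (1, 3), (1, 3), (0, 0),
  (0, 0), (0, 0), (1, 0), (1, 4), (0, 0), (0, 0), (0, 0), (1, 1), (1, 2), (1, 0), (1, 3), (0, 0), (1, 0), (1, 0),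
  (1, 9), (0, 0), (0, 0), (1, 0), (0, 0), (0, 0), (0, 0), (1, 2), (1, 2), (0, 0), (0, 0), (1, 1), (1, 2), (0, 0),
  (0, 0), (1, 0), (1, 7), (0, 0), (0, 0), (0, 0), (1, 0), (1, 0), (1, 4), (0, 0), (0, 0), (1, 1), (0, 0), (0, 0),
  (1, 4), (1, 0), (1, 0), (1, 5), (0, 0), (0, 0), (0, 0), (1, 2), (1, 2), (0, 0), (1, 0), (1, 2), (0, 0), (1, 1),
  (1, 6), (0, 0), (0, 0), (0, 0), (1, 2), (0, 0), (0, 0), (0, 0), (1, 0), (1, 2), (0, 0), (1, 0), (1, 2), (1, 4),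
  (0, 0), (0, 0), (1, 0), (0, 0), (1, 1), (1, 3), (1, 2), (0, 0), (1, 0), (1, 2), (0, 0), (1, 6), (0, 0), (0, 0),
  (1, 0), (1, 2), (0, 0), (0, 0), (1, 0), (1, 2), (0, 0), (1, 0), (1, 2), (1, 0), (1, 10), (0, 0), (0, 0), (0, 0),
  (1, 1), (0, 0), (0, 0), (0, 0), (1, 0), (1, 0), (1, 3), (0, 0), (1, 1), (1, 3), (0, 0), (0, 0), (1, 1), (1, 4),
  (0, 0), (0, 0), (1, 1), (1, 0), (1, 3), (0, 0), (0, 0), (1, 0), (1, 0), (1, 3), (1, 2), (1, 5), (1, 0), (0, 0),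
  (0, 0), (0, 0), (1, 0), (1, 2), (1, 0), (1, 3), (1, 0), (1, 6), (0, 0), (0, 0), (0, 0), (1, 0), (1, 0), (1, 0),
  (1, 0), (1, 5), (0, 0), (0, 0), (1, 1), (0, 0), (1, 5), (0, 0), (0, 0), (0, 0), (1, 0), (0, 0), (1, 1), (1, 4),
  (0, 0), (0, 0), (1, 0), (1, 3), (1, 0), (1, 4), (0, 0), (1, 1), (1, 0), (1, 5), (0, 0), (0, 0), (0, 0), (1, 0),
  (0, 0), (0, 0), (1, 2), (0, 0), (1, 4), (0, 0), (0, 0), (1, 0), (0, 0), (1, 3), (1, 0), (1, 0), (1, 4), (0, 0),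
  (1, 4), (0, 0), (1, 0), (0, 0), (1, 1), (1, 5), (0, 0), (0, 0), (0, 0), (1, 0), (0, 0), (1, 4), (0, 0), (0, 0),
  (0, 0), (1, 1), (1, 3), (0, 0), (1, 1), (1, 4), (0, 0), (0, 0), (0, 0), (1, 1), (1, 0), (1, 3), (0, 0), (1, 3),
  (1, 7), (0, 0), (0, 0), (0, 0), (1, 0), (0, 0), (0, 0), (1, 0), (1, 0), (0, 0), (1, 1), (1, 4), (0, 0), (1, 1),
  (0, 0), (0, 0), (1, 1), (1, 2), (0, 0), (1, 0), (1, 9), (0, 0), (0, 0), (0, 0), (1, 0), (0, 0), (0, 0), (0, 0),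
  (1, 2), (1, 2), (1, 0), (1, 4), (0, 0), (1, 0), (1, 0), (0, 0), (1, 4), (1, 0), (0, 0), (1, 0), (1, 6), (0, 0),
  (0, 0), (0, 0), (1, 0), (1, 2), (1, 0), (0, 0), (1, 4), (0, 0), (0, 0), (1, 1), (1, 4), (0, 0), (1, 1), (1, 4),
  (0, 0), (0, 0), (0, 0), (1, 0), (0, 0), (0, 0), (1, 2), (1, 3), (0, 0), (0, 0), (1, 1), (1, 2), (1, 3), (0, 0),
  (0, 0), (1, 0), (1, 2), (0, 0), (1, 1), (0, 0), (1, 4), (0, 0), (1, 0), (1, 5), (0, 0), (0, 0), (0, 0), (1, 0),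
  (1, 2), (0, 0), (1, 0), (1, 4), (0, 0), (1, 1), (1, 3), (0, 0), (1, 1), (0, 0), (1, 1), (0, 0), (1, 8), (0, 0),
  (0, 0), (0, 0), (1, 0), (0, 0), (1, 0), (0, 0), (1, 3), (0, 0), (1, 0), (1, 2), (0, 0), (1, 5), (0, 0), (0, 0),
  (0, 0), (1, 0), (1, 2), (1, 2), (0, 0), (1, 0), (0, 0), (1, 1), (1, 5), (0, 0), (0, 0), (1, 1), (0, 0), (1, 6),
  (0, 0), (0, 0), (0, 0), (1, 0), (1, 0), (1, 0), (1, 4), (0, 0), (0, 0), (0, 0), (1, 3), (0, 0), (1, 0), (1, 2),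
  (0, 0), (1, 5), (0, 0), (1, 0), (1, 2), (0, 0), (0, 0), (0, 0), (1, 3), (1, 4), (0, 0), (0, 0), (1, 0), (1, 2),
  (1, 0), (1, 3), (0, 0), (1, 0), (1, 6), (0, 0), (0, 0), (0, 0), (1, 1), (1, 0), (1, 0), (1, 0), (1, 5), (0, 0),
  (0, 0), (0, 0), (1, 0), (1, 0), (1, 4), (0, 0), (1, 0), (0, 0), (1, 5), (1, 0), (0, 0), (0, 0), (1, 0), (1, 2),
  (1, 2), (0, 0), (0, 0), (1, 2), (1, 0), (1, 7), (0, 0), (0, 0), (0, 0), (1, 0), (1, 0), (1, 0), (1, 5), (0, 0),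
  (1, 0), (0, 0), (1, 3), (0, 0), (1, 0), (1, 5), (0, 0), (0, 0), (1, 1), (0, 0), (0, 0), (1, 2), (1, 3)]

/-- A spanning tree. -/
def mcSub1Tree : List (ℕ × ℕ) := mcSub1Tree_0

def mcSub2Start : ℕ := 12721159215431655065856188498782547486050332

def mcSub2Tree_0 : List (ℕ × ℕ) := [
  (1, 0), (0, 0), (0, 0), (0, 0), (1, 0), (0, 0), (0, 0), (0, 0), (1, 1), (0, 0), (0, 0), (0, 0), (1, 0), (0, 0),
  (1, 3), (0, 0), (0, 0), (1, 2), (0, 0), (1, 7), (0, 0), (0, 0), (0, 0), (1, 0), (0, 0), (1, 3), (0, 0), (0, 0),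
  (1, 4), (0, 0), (1, 0), (0, 0), (1, 1), (0, 0), (1, 1), (1, 4), (0, 0), (0, 0), (1, 0), (1, 3), (1, 0), (0, 0),
  (1, 6), (0, 0), (1, 0), (1, 0), (0, 0), (1, 1), (1, 0), (1, 5), (0, 0), (0, 0), (0, 0), (1, 1), (1, 0), (1, 3),
  (0, 0), (1, 0), (1, 4), (0, 0), (0, 0), (1, 7), (0, 0), (0, 0), (0, 0), (1, 0), (0, 0), (0, 0), (1, 2), (0, 0),
  (1, 0), (0, 0), (1, 3), (1, 0), (1, 5), (0, 0), (1, 1), (0, 0), (1, 1), (0, 0), (0, 0), (0, 0), (1, 2), (1, 6),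
  (0, 0), (0, 0), (1, 0), (1, 0), (1, 4), (0, 0), (0, 0), (1, 5), (0, 0), (0, 0), (0, 0), (1, 0), (1, 0), (1, 3),
  (0, 0), (0, 0), (0, 0), (1, 0), (1, 2), (0, 0), (1, 1), (1, 3), (1, 0), (1, 3), (0, 0), (0, 0), (1, 2), (1, 4),
  (0, 0), (1, 0), (0, 0), (1, 1), (1, 0), (1, 4), (1, 0), (1, 4), (0, 0), (1, 0), (0, 0), (0, 0), (0, 0), (1, 1),
  (1, 2), (0, 0), (1, 3), (0, 0), (0, 0), (1, 2), (1, 4), (0, 0), (0, 0), (1, 0), (1, 0), (1, 4), (0, 0), (1, 8),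
  (0, 0), (1, 0), (0, 0), (0, 0), (0, 0), (1, 0), (0, 0), (1, 0), (1, 2), (0, 0), (1, 1), (1, 5), (0, 0), (0, 0),
  (0, 0), (1, 0), (0, 0), (0, 0), (1, 1), (1, 2), (1, 4), (1, 4), (0, 0), (0, 0), (0, 0), (1, 0), (1, 3), (0, 0),
  (0, 0), (0, 0), (1, 0), (1, 4), (0, 0), (0, 0), (1, 2), (1, 0), (1, 5), (0, 0), (1, 0), (0, 0), (0, 0), (0, 0),
  (1, 1), (1, 5), (0, 0), (0, 0), (0, 0), (1, 0), (1, 3), (1, 0), (0, 0), (1, 9), (0, 0), (0, 0), (0, 0), (1, 0),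
  (1, 0), (0, 0), (0, 0), (1, 0), (1, 2), (1, 2), (0, 0), (0, 0), (0, 0), (1, 3), (0, 0), (0, 0), (1, 7), (0, 0),
  (0, 0), (0, 0), (1, 0), (1, 0), (1, 0), (1, 5), (0, 0), (1, 0), (0, 0), (1, 3), (0, 0), (0, 0), (1, 2), (1, 4),
  (0, 0), (0, 0), (1, 1), (0, 0), (1, 3), (0, 0), (0, 0), (1, 2), (1, 5), (0, 0), (1, 0), (0, 0), (0, 0), (0, 0),
  (1, 0), (1, 2), (1, 2), (0, 0), (1, 0), (1, 6), (0, 0), (0, 0), (0, 0), (1, 0), (1, 0), (1, 5), (0, 0), (0, 0),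
  (0, 0), (1, 0), (1, 2), (1, 0), (1, 3), (0, 0), (0, 0), (1, 1), (1, 4), (0, 0), (0, 0), (0, 0), (1, 1), (1, 8),
  (0, 0), (0, 0), (0, 0), (1, 0), (0, 0), (0, 0), (1, 0), (1, 3), (0, 0), (0, 0), (1, 1), (0, 0), (1, 6), (0, 0),
  (0, 0), (1, 1), (0, 0), (1, 3), (0, 0), (1, 0), (0, 0), (1, 3), (0, 0), (1, 0), (1, 6), (0, 0), (0, 0), (0, 0),
  (1, 0), (1, 6), (0, 0), (0, 0), (0, 0), (1, 0), (0, 0), (0, 0), (0, 0), (1, 2), (1, 5), (1, 2), (0, 0), (0, 0),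
  (1, 1), (1, 0), (0, 0), (1, 4), (0, 0), (0, 0), (1, 0), (1, 2), (0, 0), (1, 0), (1, 11), (0, 0), (0, 0), (0, 0),
  (1, 0), (0, 0), (0, 0), (0, 0), (1, 3), (1, 0), (0, 0), (0, 0), (1, 0), (1, 0), (1, 3), (0, 0), (1, 3), (0, 0),
  (0, 0), (0, 0), (1, 0), (1, 3), (1, 2), (0, 0), (0, 0), (1, 8), (0, 0), (0, 0), (0, 0), (1, 0), (1, 0), (1, 0),
  (0, 0), (0, 0), (1, 6), (1, 0), (0, 0), (1, 1), (0, 0), (0, 0), (0, 0), (1, 2), (1, 0), (1, 3), (1, 5), (1, 0),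
  (0, 0), (0, 0), (0, 0), (1, 1), (1, 0), (1, 7), (0, 0), (0, 0), (0, 0), (1, 1), (0, 0), (0, 0), (1, 1), (0, 0),
  (1, 5), (0, 0), (1, 0), (0, 0), (0, 0), (0, 0), (1, 3), (0, 0), (1, 6), (0, 0), (1, 0), (1, 0), (0, 0), (0, 0),
  (1, 2), (1, 0), (1, 5), (0, 0), (0, 0), (0, 0), (1, 2), (0, 0), (1, 0), (1, 2), (1, 0), (0, 0), (1, 5), (0, 0),
  (0, 0), (1, 0), (1, 2), (1, 2), (0, 0), (1, 8), (0, 0), (0, 0), (0, 0), (1, 1), (0, 0), (0, 0), (0, 0), (1, 0),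
  (1, 0), (1, 4), (0, 0), (0, 0), (1, 4), (0, 0), (0, 0), (1, 0), (0, 0), (1, 4), (0, 0), (1, 5), (0, 0), (0, 0),
  (0, 0), (1, 0), (0, 0), (1, 0), (1, 2), (1, 0), (1, 4), (0, 0), (1, 0), (1, 0), (1, 5), (0, 0), (1, 0), (0, 0),
  (1, 0), (1, 2), (1, 0), (1, 4), (0, 0), (1, 0), (1, 0), (0, 0), (1, 4), (1, 4), (0, 0), (0, 0), (0, 0), (1, 0),
  (1, 0), (1, 4), (1, 0), (0, 0), (1, 0), (1, 2), (0, 0), (1, 5), (0, 0), (0, 0), (1, 0), (0, 0), (1, 3), (1, 0),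
  (0, 0), (1, 4), (1, 5), (0, 0), (1, 0), (1, 0), (0, 0), (0, 0), (0, 0), (1, 3), (0, 0), (1, 0), (1, 2), (0, 0),
  (0, 0), (1, 7), (0, 0), (1, 0), (0, 0), (0, 0), (0, 0), (1, 0), (1, 2), (1, 0)]

def mcSub2Tree_1 : List (ℕ × ℕ) := [
  (1, 3), (0, 0), (0, 0), (1, 0), (1, 2), (1, 2), (1, 3), (0, 0), (1, 1), (0, 0), (1, 0), (1, 0), (1, 7), (1, 0),
  (0, 0), (0, 0), (1, 0), (1, 2), (1, 0), (1, 0), (1, 4), (0, 0), (1, 0), (0, 0), (1, 10), (0, 0), (0, 0), (0, 0),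
  (1, 0), (0, 0), (0, 0), (1, 0), (1, 3), (1, 0), (0, 0), (1, 0), (1, 0), (1, 3), (1, 5), (0, 0), (0, 0), (0, 0),
  (1, 0), (0, 0), (1, 3), (0, 0), (1, 3), (0, 0), (1, 3), (0, 0), (0, 0), (1, 2), (0, 0), (1, 0), (1, 2), (1, 5),
  (0, 0), (0, 0), (0, 0), (1, 0), (1, 3), (0, 0), (0, 0), (0, 0), (1, 0), (1, 4), (1, 3), (0, 0), (0, 0), (1, 0),
  (1, 0), (1, 0), (0, 0), (1, 1), (1, 6), (0, 0), (0, 0), (0, 0), (1, 0), (1, 0), (1, 3), (0, 0), (1, 8), (0, 0),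
  (0, 0), (0, 0), (1, 0), (0, 0), (1, 0), (1, 0), (1, 5), (0, 0), (0, 0), (1, 2), (0, 0), (0, 0), (1, 0), (1, 2),
  (0, 0), (1, 0), (1, 4), (0, 0), (1, 0), (1, 6), (0, 0), (0, 0), (0, 0), (1, 1), (0, 0), (1, 0), (0, 0), (1, 1),
  (1, 0), (1, 4), (0, 0), (1, 4), (0, 0), (0, 0), (0, 0), (1, 1), (0, 0), (1, 3), (0, 0), (0, 0), (1, 6), (0, 0),
  (0, 0), (1, 1), (0, 0), (0, 0), (1, 0), (1, 3), (1, 3), (0, 0), (1, 0), (0, 0), (1, 0), (1, 2), (1, 0), (0, 0),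
  (1, 5), (0, 0), (0, 0), (1, 1), (0, 0), (1, 8), (0, 0), (0, 0), (0, 0), (1, 0), (0, 0), (0, 0), (0, 0), (1, 2),
  (0, 0), (1, 3), (0, 0), (0, 0), (1, 1), (1, 2), (1, 4), (0, 0), (0, 0), (1, 1), (1, 0), (1, 3), (1, 0), (1, 4),
  (0, 0), (1, 1), (0, 0), (0, 0), (1, 2), (1, 4), (0, 0), (0, 0), (1, 0), (1, 0), (0, 0), (1, 0), (1, 5), (0, 0),
  (1, 0), (0, 0), (1, 1), (0, 0), (1, 4), (0, 0), (1, 0), (1, 2), (1, 0), (1, 5), (0, 0), (1, 0), (1, 9), (0, 0),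
  (0, 0), (0, 0), (1, 0), (1, 0), (0, 0), (0, 0), (0, 0), (1, 0), (0, 0), (1, 1), (1, 0), (1, 4), (0, 0), (1, 1),
  (1, 3), (0, 0), (1, 3), (0, 0), (0, 0), (0, 0), (1, 0), (0, 0), (0, 0), (1, 4), (0, 0), (0, 0), (1, 4), (0, 0),
  (0, 0), (1, 2), (1, 0), (1, 4), (0, 0), (0, 0), (1, 0), (0, 0), (1, 3), (1, 0), (0, 0), (1, 4), (1, 0), (1, 7),
  (0, 0), (0, 0), (1, 0), (0, 0), (1, 0), (0, 0), (0, 0), (1, 1), (0, 0), (1, 7), (0, 0), (1, 0), (0, 0), (1, 0),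
  (0, 0), (1, 3), (0, 0), (1, 4), (0, 0), (0, 0), (1, 1), (1, 2), (0, 0), (0, 0), (0, 0), (1, 3), (0, 0), (0, 0),
  (0, 0), (1, 2), (1, 7), (0, 0), (0, 0), (0, 0), (1, 0), (1, 3), (0, 0), (0, 0), (0, 0), (1, 0), (1, 2), (0, 0),
  (1, 1), (0, 0), (1, 4), (0, 0), (1, 1), (1, 0), (1, 4), (1, 0), (0, 0), (1, 0), (0, 0), (1, 0), (1, 2), (1, 3),
  (1, 5), (0, 0), (0, 0), (0, 0), (1, 0), (0, 0), (1, 3), (0, 0), (1, 0), (1, 2), (1, 0), (1, 4), (0, 0), (0, 0),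
  (0, 0), (1, 0), (1, 3), (0, 0), (1, 3), (1, 3), (0, 0), (0, 0), (0, 0), (1, 3), (0, 0), (0, 0), (1, 0), (1, 2),
  (0, 0), (1, 3), (0, 0), (0, 0), (1, 0), (1, 10), (0, 0), (0, 0), (0, 0), (1, 0), (0, 0), (0, 0), (0, 0), (1, 2),
  (1, 2), (0, 0), (0, 0), (1, 0), (1, 2), (1, 2), (0, 0), (1, 0), (0, 0), (1, 3), (1, 5), (0, 0), (0, 0), (0, 0),
  (1, 2), (1, 0), (0, 0), (0, 0), (1, 0), (1, 3), (0, 0), (1, 5), (0, 0), (1, 0), (0, 0), (1, 0), (0, 0), (1, 1),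
  (1, 5), (0, 0), (1, 5), (1, 0), (1, 0), (0, 0), (0, 0), (1, 0), (0, 0), (1, 3), (0, 0), (1, 0), (1, 4), (0, 0),
  (1, 0), (0, 0), (0, 0), (1, 9), (0, 0), (0, 0), (0, 0), (1, 0), (1, 0), (1, 0), (1, 4), (0, 0), (0, 0), (0, 0),
  (1, 1), (0, 0), (1, 3), (0, 0), (0, 0), (1, 2), (0, 0), (1, 4), (0, 0), (1, 0), (0, 0), (0, 0), (1, 2), (1, 3),
  (0, 0), (0, 0), (1, 0), (1, 0), (1, 3), (1, 2), (1, 0), (1, 6), (0, 0), (0, 0), (1, 0), (1, 2), (0, 0), (0, 0),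
  (0, 0), (1, 0), (1, 3), (1, 2), (1, 3), (1, 0), (0, 0), (0, 0), (0, 0), (1, 0), (1, 0), (1, 5), (0, 0), (1, 1),
  (0, 0), (0, 0), (1, 11), (0, 0), (0, 0), (0, 0), (1, 0), (0, 0), (0, 0), (0, 0), (1, 1), (1, 0), (0, 0), (0, 0),
  (1, 2), (1, 5), (0, 0), (0, 0), (0, 0), (1, 1), (0, 0), (1, 1), (1, 3), (0, 0), (0, 0), (1, 2), (0, 0), (1, 4),
  (0, 0), (0, 0), (1, 0), (1, 7), (0, 0), (0, 0), (0, 0), (1, 0), (0, 0), (1, 0), (1, 2), (0, 0), (1, 1), (1, 4),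
  (0, 0), (0, 0), (1, 4), (0, 0), (1, 0), (1, 0), (1, 0), (1, 4), (0, 0), (1, 0), (0, 0), (1, 0), (1, 0), (1, 3),
  (1, 0), (1, 4), (0, 0), (0, 0), (1, 1), (1, 6), (0, 0), (0, 0), (0, 0), (1, 0)]

def mcSub2Tree_2 : List (ℕ × ℕ) := [
  (0, 0), (1, 0), (1, 2), (1, 3), (0, 0), (1, 0), (1, 2), (0, 0), (1, 1), (1, 0), (1, 5), (0, 0), (1, 0), (0, 0),
  (1, 1), (1, 0), (1, 0), (1, 5), (1, 0), (1, 4), (0, 0), (0, 0), (0, 0), (1, 0), (1, 2), (0, 0), (0, 0), (1, 2),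
  (0, 0), (1, 4), (1, 0), (1, 3), (0, 0), (0, 0), (1, 0), (1, 2), (0, 0), (1, 1), (0, 0), (1, 4), (1, 6), (0, 0),
  (0, 0), (0, 0), (1, 0), (0, 0), (1, 1), (0, 0), (1, 4), (1, 0), (0, 0), (0, 0), (0, 0), (1, 6), (0, 0), (1, 0),
  (0, 0), (1, 1), (0, 0), (1, 1), (0, 0), (1, 0), (1, 6), (0, 0), (1, 0), (0, 0), (0, 0), (1, 2), (0, 0), (1, 1),
  (1, 0), (1, 5), (1, 0), (0, 0), (0, 0), (1, 2), (0, 0), (1, 7), (0, 0), (1, 0), (1, 0), (1, 3), (0, 0), (0, 0),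
  (0, 0), (1, 1), (0, 0), (1, 0), (1, 0), (1, 5), (0, 0), (0, 0), (0, 0), (1, 0), (1, 3), (0, 0), (1, 0), (1, 6),
  (0, 0), (1, 0), (0, 0), (0, 0), (1, 4), (0, 0), (0, 0), (0, 0), (1, 1), (1, 2), (0, 0), (1, 3), (0, 0), (1, 0),
  (0, 0), (1, 10), (0, 0), (0, 0), (1, 0), (0, 0), (0, 0), (0, 0), (1, 1), (0, 0), (0, 0), (1, 1), (1, 0), (1, 3),
  (1, 0), (1, 4), (0, 0), (0, 0), (1, 2), (0, 0), (0, 0), (1, 1), (1, 5), (0, 0), (0, 0), (0, 0), (1, 1), (0, 0),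
  (1, 3), (0, 0), (1, 3), (0, 0), (1, 5), (0, 0), (0, 0), (0, 0), (1, 0), (0, 0), (1, 0), (1, 4), (0, 0), (0, 0),
  (1, 0), (1, 3), (0, 0), (1, 1), (0, 0), (1, 5), (1, 0), (0, 0), (0, 0), (0, 0), (1, 1), (0, 0), (1, 3), (0, 0),
  (1, 6), (0, 0), (0, 0), (0, 0), (1, 0), (1, 0), (1, 3), (0, 0), (1, 0), (1, 2), (1, 0), (1, 0), (1, 5), (1, 0),
  (1, 0), (1, 4), (0, 0), (0, 0), (0, 0), (1, 1), (0, 0), (1, 0), (1, 4), (0, 0), (0, 0), (1, 0), (1, 2), (1, 4),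
  (0, 0), (1, 0), (0, 0), (1, 3), (0, 0), (0, 0), (1, 1), (1, 2), (0, 0), (1, 8), (0, 0), (0, 0), (1, 0), (1, 0),
  (1, 3), (0, 0), (1, 0), (0, 0), (1, 1), (0, 0), (1, 0), (1, 2), (1, 0), (1, 5), (0, 0), (0, 0), (0, 0), (1, 3),
  (0, 0), (1, 0), (0, 0), (1, 3), (0, 0), (0, 0), (1, 7)]

/-- A spanning tree. -/
def mcSub2Tree : List (ℕ × ℕ) := mcSub2Tree_0 ++ mcSub2Tree_1 ++ mcSub2Tree_2

end Cfsg.Agent.Lib.Leech.SubOrb
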