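import Cfsg.Agent.Lib.Leech.Frame

/-!
The elements of order 23 and their normalizer.
-/

set_option autoImplicit false

namespace Cfsg.Agent.Lib.Leech

open Cfsg Golay
open scoped Pointwise

theorem exists_sigma : ∃ σ : ↥M24, orderOf σ = 23 ∧ (σ : Equiv.Perm GolayPt) none = none := by
  haveI : Fact (Nat.Prime 23) := ⟨by norm_num⟩
  obtain ⟨x, hx⟩ := exists_prime_orderOf_dvd_card' (G := ↥(st1 none)) 23 (by rw [st1_card]; norm_num)
  refine ⟨⟨x, x.2.1⟩, ?_, x.2.2⟩
  exact (Subgroup.orderOf_coe (⟨(x : Equiv.Perm GolayPt), x.2.1⟩ : ↥M24)).symm.trans ((Subgroup.orderOf_coe x).trans hx)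

theorem trans_rest {σ : ↥M24} (hσ : orderOf σ = 23) (h0 : (σ : Equiv.Perm GolayPt) none = none)
    {i j : GolayPt} (hi : i ≠ none) (hj : j ≠ none) :
    ∃ k : ℤ, ((σ : Equiv.Perm GolayPt) ^ k) i = j := by
  classical
  haveI : Fact (Nat.Prime 23) := ⟨by norm_num⟩
  set π : Equiv.Perm GolayPt := (σ : Equiv.Perm GolayPt)
  have hπ : orderOf π = 23 := (Subgroup.orderOf_coe σ).trans hσ
  have hc : π.IsCycle := Equiv.Perm.isCycle_of_prime_order' (by rw [hπ]; norm_num) (by
    rw [hπ, show Fintype.card GolayPt = 24 from rfl]; norm_num)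
  have hs : π.support.card = 23 := by rw [← hc.orderOf, hπ]
  have hall : ∀ p : GolayPt, p ≠ none → π p ≠ p := by
    intro p hp hfix
    have hsub : π.support ⊆ (Finset.univ.erase none).erase p := fun q hq => by
      rw [Equiv.Perm.mem_support] at hq
      exact Finset.mem_erase.2 ⟨fun e => hq (e ▸ hfix), Finset.mem_erase.2 ⟨fun e => hq (e ▸ h0), Finset.mem_univ _⟩⟩
    have := Finset.card_le_card hsub
    rw [hs, Finset.card_erase_of_mem (Finset.mem_erase.2 ⟨hp, Finset.mem_univ _⟩),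
      Finset.card_erase_of_mem (Finset.mem_univ _), Finset.card_univ, show Fintype.card GolayPt = 24 from rfl] at this
    omega
  exact hc.sameCycle (hall i hi) (hall j hj)

/-- A vector fixed by the element of order 23. -/
theorem fixed_vec {σ : ↥M24} (hσ : orderOf σ = 23) (h0 : (σ : Equiv.Perm GolayPt) none = none) {x : ↥leechLattice}
    (hx : permHom σ • x = x) : ∀ i j, i ≠ none → j ≠ none → (x : GolayPt → ℤ) i = (x : GolayPt → ℤ) j := by
  intro i j hi hj
  obtain ⟨k, rfl⟩ := trans_rest hσ h0 hi hj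
  have hk : permHom (σ ^ k) • x = x := by
    rw [map_zpow]
    exact (MulAction.stabilizer ↥Co0 x).zpow_mem (MulAction.mem_stabilizer_iff.2 hx) k
  have h := congrArg (fun t : ↥leechLattice => (t : GolayPt → ℤ) (((σ : Equiv.Perm GolayPt) ^ k) i)) hk
  change (x : GolayPt → ℤ) (((σ ^ k : ↥M24) : Equiv.Perm GolayPt)⁻¹ (((σ : Equiv.Perm GolayPt) ^ k) i)) = _ at h
  simpa using h

/-- A lattice vector is not supported with twice an odd number in one coordinate only. -/
theorem not_single {x : ↥leechLattice} (h : (x : GolayPt → ℤ) none % 4 = 2)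
    (hrest : ∀ i, i ≠ none → (x : GolayPt → ℤ) i = 0) : False := by
  obtain ⟨m, t, hm, ht, -, hc⟩ := mem_iff.1 x.2
  obtain rfl : m = 0 := by have := ht none; omega
  have hwt := card_cases (support_mem hc)
  rw [support_cast] at hwt
  have e : (Finset.univ.filter fun i => ¬ (2 : ℤ) ∣ t i) = ({none} : Finset GolayPt) := by
    ext i
    simp only [Finset.mem_filter, Finset.mem_univ, true_and, Finset.mem_singleton]
    have := ht i
    constructor
    · intro h2
      by_contra hne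
      have := hrest i hne
      omega
    · rintro rfl; omega
  rw [e, Finset.card_singleton] at hwt
  omega

/-- The minimal vector fixed by the element of order 23. -/
def vThree : ↥leechLattice := ⟨fun p => if p = none then (-3 : ℤ) else 1, mem_of_check (by decide +kernel)⟩

theorem norm_vThree : sqNorm (vThree : GolayPt → ℤ) = 32 := by decide +kernel

/-- The fixed vectors of small norm. -/
theorem fixed_cases {x : ↥leechLattice} (hx : ∀ i j, i ≠ none → j ≠ none → (x : GolayPt → ℤ) i = (x : GolayPt → ℤ) j) :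
    (sqNorm (x : GolayPt → ℤ) = 32 → x = vThree ∨ x = -vThree) ∧
    (sqNorm (x : GolayPt → ℤ) = 48 → x = vFive ∨ x = -vFive) ∧
    (sqNorm (x : GolayPt → ℤ) = 64 → x = e8 none ∨ x = -e8 none) := by
  classical
  obtain ⟨a, ha⟩ : ∃ a, (x : GolayPt → ℤ) none = a := ⟨_, rfl⟩
  obtain ⟨b, hb⟩ : ∃ b, ∀ i, i ≠ none → (x : GolayPt → ℤ) i = b :=
    ⟨(x : GolayPt → ℤ) (some 0), fun i hi => hx i _ hi (Option.some_ne_none 0)⟩
  have hn : sqNorm (x : GolayPt → ℤ) = a ^ 2 + 23 * b ^ 2 := by
    rw [sqNorm, ← Finset.add_sum_erase _ _ (Finset.mem_univ (none : GolayPt)), ha,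
      Finset.sum_congr rfl (fun i hi => by rw [hb i (Finset.mem_erase.1 hi).1]), Finset.sum_const,
      Finset.card_erase_of_mem (Finset.mem_univ _), Finset.card_univ, show Fintype.card GolayPt = 24 from rfl]
    simp
  have bound : sqNorm (x : GolayPt → ℤ) ≤ 64 → (b = -1 ∨ b = 0 ∨ b = 1) ∧ -8 ≤ a ∧ a ≤ 8 := fun h => by
    refine ⟨?_, by nlinarith, by nlinarith⟩
    have : -1 ≤ b := by nlinarith
    have : b ≤ 1 := by nlinarith
    omega
  have hext : ∀ y : ↥leechLattice, (y : GolayPt → ℤ) none = a → (∀ i, i ≠ none → (y : GolayPt → ℤ) i = b) → x = y := by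
    intro y y0 y1
    refine Subtype.ext (funext fun i => ?_)
    by_cases hi : i = none
    · rw [hi, ha, y0]
    · rw [hb i hi, y1 i hi]
  have hneg : ∀ y : ↥leechLattice, (y : GolayPt → ℤ) none = -a → (∀ i, i ≠ none → (y : GolayPt → ℤ) i = -b) → x = -y :=
    fun y y0 y1 => hext (-y) (by rw [AddSubgroup.coe_neg, Pi.neg_apply, y0, neg_neg])
      (fun i hi => by rw [AddSubgroup.coe_neg, Pi.neg_apply, y1 i hi, neg_neg])
  have no : ∀ y : ↥leechLattice, (∀ i, i ≠ none → (y : GolayPt → ℤ) i = b) → ((a - (y : GolayPt → ℤ) none) % 4 = 2) → False := by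
    intro y y1 y0
    refine not_single (x := x - y) ?_ fun i hi => ?_
    · rw [AddSubgroup.coe_sub, Pi.sub_apply, ha]; exact y0
    · rw [AddSubgroup.coe_sub, Pi.sub_apply, hb i hi, y1 i hi, sub_self]
  have nneg : ∀ y : ↥leechLattice, (∀ i, i ≠ none → (y : GolayPt → ℤ) i = -b) → ((a + (y : GolayPt → ℤ) none) % 4 = 2) → False := by
    intro y y1 y0
    refine no (-y) (fun i hi => ?_) ?_
    · rw [AddSubgroup.coe_neg, Pi.neg_apply, y1 i hi, neg_neg]
    · rw [AddSubgroup.coe_neg, Pi.neg_apply, sub_neg_eq_add]; exact y0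
  have v3 : ∀ i, i ≠ none → (vThree : GolayPt → ℤ) i = 1 := fun i hi => if_neg hi
  have v5 : ∀ i, i ≠ none → (vFive : GolayPt → ℤ) i = 1 := fun i hi => if_neg hi
  refine ⟨fun h => ?_, fun h => ?_, fun h => ?_⟩ <;> obtain ⟨hb', a1, a2⟩ := bound (by omega) <;>
    rw [hn] at h <;> rcases hb' with rfl | rfl | rfl
  · rcases (show a = 3 ∨ a = -3 by interval_cases a <;> omega) with rfl | rfl
    · exact Or.inr (hneg vThree rfl v3)
    · exact (nneg vThree v3 (by show ((-3 : ℤ) + -3) % 4 = 2; norm_num)).elim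
  · exfalso; interval_cases a <;> omega
  · rcases (show a = 3 ∨ a = -3 by interval_cases a <;> omega) with rfl | rfl
    · exact (no vThree v3 (by show ((3 : ℤ) - -3) % 4 = 2; norm_num)).elim
    · exact Or.inl (hext vThree rfl v3)
  · rcases (show a = 5 ∨ a = -5 by interval_cases a <;> omega) with rfl | rfl
    · exact (nneg vFive v5 (by show ((5 : ℤ) + 5) % 4 = 2; norm_num)).elim
    · exact Or.inr (hneg vFive rfl v5)
  · exfalso; interval_cases a <;> omega
  · rcases (show a = 5 ∨ a = -5 by interval_cases a <;> omega) with rfl | rfl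
    · exact Or.inl (hext vFive rfl v5)
    · exact (no vFive v5 (by show ((-5 : ℤ) - 5) % 4 = 2; norm_num)).elim
  · exfalso; interval_cases a <;> omega
  · rcases (show a = 8 ∨ a = -8 by interval_cases a <;> omega) with rfl | rfl
    · exact Or.inl (hext _ (by rw [coe_e8, Pi.single_eq_same]) (fun i hi => by rw [coe_e8, Pi.single_eq_of_ne hi]))
    · exact Or.inr (hneg _ (by rw [coe_e8, Pi.single_eq_same]; rfl) (fun i hi => by rw [coe_e8, Pi.single_eq_of_ne hi]; rfl))
  · exfalso; interval_cases a <;> omega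

theorem perm_fix {σ : ↥M24} (h0 : (σ : Equiv.Perm GolayPt) none = none) {x : ↥leechLattice}
    (hx : ∀ i j, i ≠ none → j ≠ none → (x : GolayPt → ℤ) i = (x : GolayPt → ℤ) j) : permHom σ • x = x := by
  refine Subtype.ext (funext fun p => ?_)
  show (x : GolayPt → ℤ) ((σ : Equiv.Perm GolayPt).symm p) = _
  have hs : (σ : Equiv.Perm GolayPt).symm none = none := by rw [Equiv.symm_apply_eq, h0]
  by_cases hp : p = none
  · rw [hp, hs]
  · exact hx _ _ (fun e => hp ((Equiv.injective _) (e.trans hs.symm))) hp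

theorem normalizer_moves {σ : ↥M24} {g : ↥Co0} {x : ↥leechLattice}
    (hg : g⁻¹ * permHom σ * g ∈ Subgroup.zpowers (permHom σ)) (hx : permHom σ • x = x) :
    permHom σ • g • x = g • x := by
  obtain ⟨k, hk⟩ := Subgroup.mem_zpowers_iff.1 hg
  have h1 : (g⁻¹ * permHom σ * g) • x = x := by
    rw [← hk]
    exact (MulAction.stabilizer ↥Co0 x).zpow_mem (MulAction.mem_stabilizer_iff.2 hx) k
  rw [mul_smul, mul_smul, inv_smul_eq_iff] at h1
  exact h1

/-- The normalizer of the element of order 23 is monomial. -/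
theorem normalizer_le {σ : ↥M24} (hσ : orderOf σ = 23) (h0 : (σ : Equiv.Perm GolayPt) none = none) {g : ↥Co0}
    (hg : g⁻¹ * permHom σ * g ∈ Subgroup.zpowers (permHom σ)) : g • cross0 = cross0 := by
  have hfix : permHom σ • e8 none = e8 none := by rw [permHom_e8, h0]
  have hn : sqNorm ((g • e8 none : ↥leechLattice) : GolayPt → ℤ) = 64 := (Same.sqNorm_eq ⟨g, rfl⟩).trans (sqNorm_e8 none)
  refine mem_stab_cross0.2 ?_
  rcases (fixed_cases (fixed_vec hσ h0 (normalizer_moves hg hfix))).2.2 hn with r | r <;> rw [r]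
  · exact Cong.refl _
  · exact cong_neg _

/-- A normal subgroup of order prime to 23 has odd parts determined by fixed points. -/
theorem odd_part {H : Type*} [Group H] [Finite H] {s : H} (hs : orderOf s = 23) (h23 : (Nat.card H).factorization 23 = 1)
    (N : Subgroup H) [N.Normal] (hN : ¬ 23 ∣ Nat.card N) (hfix : ∀ x ∈ N, x * s = s * x → x * x = 1)
    (q : ℕ) [hq : Fact q.Prime] (hq2 : q ≠ 2) : q ^ (Nat.card N).factorization q % 23 = 1 := by
  classical
  haveI : Fact (Nat.Prime 23) := ⟨by norm_num⟩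
  obtain ⟨P0⟩ : Nonempty (Sylow q ↥N) := inferInstance
  let Q0 : Subgroup H := (P0 : Subgroup ↥N).map N.subtype
  have hQ0 : Nat.card Q0 = q ^ (Nat.card N).factorization q := by
    rw [Nat.card_congr ((P0 : Subgroup ↥N).equivMapOfInjective N.subtype N.subtype_injective).toEquiv.symm, P0.card_eq_multiplicity]
  -- an element of order 23 normalizing the Sylow subgroup
  have hdvd : 23 ∣ Nat.card ↥(Subgroup.normalizer (Q0 : Set H)) := by
    have hsup := Sylow.normalizer_sup_eq_top P0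
    have h23' : 23 ∣ Nat.card H := hs ▸ orderOf_dvd_natCard s
    haveI : (N.subgroupOf (Subgroup.normalizer (Q0 : Set H))).Normal := inferInstance
    have hidx : 23 ∣ N.index := by
      have h1 := Subgroup.card_mul_index N
      rw [← h1] at h23'
      exact ((Nat.Prime.dvd_mul (by norm_num)).1 h23').resolve_left hN
    have e := Subgroup.relIndex_sup_right (Subgroup.normalizer (Q0 : Set H)) N
    rw [hsup, Subgroup.relIndex_top_right] at e
    rw [e] at hidx
    exact hidx.trans ((N.subgroupOf (Subgroup.normalizer (Q0 : Set H))).index_dvd_card)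
  obtain ⟨τ, hτ⟩ := exists_prime_orderOf_dvd_card' (G := ↥(Subgroup.normalizer (Q0 : Set H))) 23 hdvd
  have hτ' : orderOf (τ : H) = 23 := (Subgroup.orderOf_coe τ).trans hτ
  let Pt : Sylow 23 H := Sylow.ofCard (Subgroup.zpowers (τ : H)) (by rw [Nat.card_zpowers, hτ', h23, pow_one])
  let Ps : Sylow 23 H := Sylow.ofCard (Subgroup.zpowers s) (by rw [Nat.card_zpowers, hs, h23, pow_one])
  obtain ⟨k, hk⟩ := MulAction.exists_smul_eq H Pt Ps
  have hsmem : s ∈ (MulAut.conj k) • Subgroup.zpowers (τ : H) := by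
    have h1 : ((k • Pt : Sylow 23 H) : Subgroup H) = Subgroup.zpowers s := by rw [hk]; rfl
    have h2 : ((k • Pt : Sylow 23 H) : Subgroup H) = (MulAut.conj k) • Subgroup.zpowers (τ : H) := rfl
    rw [← h2, h1]; exact Subgroup.mem_zpowers s
  obtain ⟨t, ht, hts⟩ := hsmem
  have htn : t ∈ Subgroup.normalizer (Q0 : Set H) :=
    (Subgroup.zpowers_le.2 τ.2 : Subgroup.zpowers (τ : H) ≤ _) ht
  let Q : Subgroup H := Q0.map (MulAut.conj k).toMonoidHom
  have hsQ : ∀ x ∈ Q, s * x * s⁻¹ ∈ Q := by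
    rintro _ ⟨x, hx, rfl⟩
    refine ⟨t * x * t⁻¹, (Subgroup.mem_normalizer_iff.1 htn x).1 hx, ?_⟩
    rw [← hts]
    show k * (t * x * t⁻¹) * k⁻¹ = (k * t * k⁻¹) * (k * x * k⁻¹) * (k * t * k⁻¹)⁻¹
    group
  have hQN : Q ≤ N := by
    rintro _ ⟨_, ⟨x, -, rfl⟩, rfl⟩
    exact (inferInstance : N.Normal).conj_mem _ x.2 k
  have hQc : Nat.card Q = q ^ (Nat.card N).factorization q := by
    rw [Subgroup.card_map_of_injective (MulAut.conj k).injective, hQ0]
  -- count fixed points
  let P := Subgroup.zpowers s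
  have hPn : ∀ g ∈ P, ∀ x ∈ Q, g * x * g⁻¹ ∈ Q := by
    intro g hg x hx
    have hsn : s ∈ Subgroup.normalizer (Q : Set H) := by
      refine Subgroup.mem_normalizer_iff.2 fun y => ⟨hsQ y, fun hy => ?_⟩
      have key : ∀ n : ℕ, s ^ n * (s * y * s⁻¹) * (s ^ n)⁻¹ ∈ Q := fun n => by
        induction n with
        | zero => simpa using hy
        | succ n ih =>
          have := hsQ _ ih
          rwa [show s * (s ^ n * (s * y * s⁻¹) * (s ^ n)⁻¹) * s⁻¹ = s ^ (n + 1) * (s * y * s⁻¹) * (s ^ (n + 1))⁻¹ by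
            rw [pow_succ']; group] at this
      have h22 := key 22
      have hpow : s ^ 22 * s = 1 := by rw [← pow_succ]; exact orderOf_dvd_iff_pow_eq_one.1 (dvd_of_eq hs)
      rwa [show s ^ 22 * (s * y * s⁻¹) * (s ^ 22)⁻¹ = (s ^ 22 * s) * y * (s ^ 22 * s)⁻¹ by group, hpow, one_mul,
        inv_one, mul_one] at h22
    exact (Subgroup.mem_normalizer_iff.1 ((Subgroup.zpowers_le.2 hsn : P ≤ _) hg) x).1 hx
  letI : MulAction ↥P ↥Q :=
    { smul := fun g x => ⟨g * x * g⁻¹, hPn g g.2 x x.2⟩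
      one_smul := fun x => Subtype.ext (by show ((1 : ↥P) : H) * x * ((1 : ↥P) : H)⁻¹ = x; simp)
      mul_smul := fun g g' x => Subtype.ext (by
        show ((g * g' : ↥P) : H) * x * ((g * g' : ↥P) : H)⁻¹ = g * (g' * x * g'⁻¹) * g⁻¹
        simp [mul_assoc]) }
  have hP : IsPGroup 23 ↥P := IsPGroup.of_card (n := 1) (by rw [Nat.card_zpowers, hs, pow_one])
  have hmod := hP.card_modEq_card_fixedPoints ↥Q
  have hfp : Nat.card (MulAction.fixedPoints ↥P ↥Q) = 1 := by
    rw [Nat.card_eq_one_iff_unique]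
    refine ⟨⟨fun x y => ?_⟩, ⟨⟨1, fun g => Subtype.ext (by show (g : H) * ((1 : ↥Q) : H) * (g : H)⁻¹ = _; simp)⟩⟩⟩
    have triv : ∀ z : MulAction.fixedPoints ↥P ↥Q, ((z : ↥Q) : H) = 1 := fun z => by
      have h1 : s * ((z : ↥Q) : H) * s⁻¹ = ((z : ↥Q) : H) :=
        congrArg Subtype.val (z.2 ⟨s, Subgroup.mem_zpowers s⟩)
      have h2 := hfix _ (hQN (z : ↥Q).2) (mul_inv_eq_iff_eq_mul.1 h1).symm
      have hd : orderOf ((z : ↥Q) : H) ∣ Nat.card Q := (Subgroup.orderOf_coe (z : ↥Q)).symm ▸ orderOf_dvd_natCard _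
      rw [hQc] at hd
      have hd2 : orderOf ((z : ↥Q) : H) ∣ 2 := orderOf_dvd_of_pow_eq_one (by rw [pow_two]; exact h2)
      have h3 := Nat.dvd_gcd hd hd2
      rw [((Nat.coprime_primes hq.out Nat.prime_two).2 hq2).pow_left _ |>.gcd_eq_one, Nat.dvd_one, orderOf_eq_one_iff] at h3
      exact h3
    exact Subtype.ext (Subtype.ext ((triv x).trans (triv y).symm))
  rw [hQc, hfp] at hmod
  exact hmod

end Cfsg.Agent.Lib.Leech
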