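import Cfsg.Agent.Lib.Leech.Pairs
import Cfsg.Agent.Lib.Golay.Orbit
import Cfsg.Agent.Lib.Leech.Functional

/-!
Words in the standard isometries, and certified orbits of lattice vectors.
-/

set_option autoImplicit false

namespace Cfsg.Agent.Lib.Leech

open Cfsg Golay
open scoped Pointwise

/-- A standard isometry: a code permutation, a sign change, the sextet map, or `-1`. -/
inductive Op
  | perm (p : ℕ)
  | flip (m : ℕ)
  | sext
  | neg

/-- Validity of a standard isometry. -/
def Op.ok : Op → Bool
  | .perm p => inM24 p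
  | .flip m => isCode m
  | .sext => true
  | .neg => true

/-- The isometry named. -/
noncomputable def Op.co : Op → ↥Co0
  | .perm p => if h : inM24 p = true then permCo (toPerm p) (toPerm_mem_M24 h) else 1
  | .flip m => if h : isCode m = true then flipCo (toSet m) (codeSet_of_isCode h) else 1
  | .sext => xiCo
  | .neg => negCo

/-- A coordinate field of a packed vector. -/
def fld (N i : ℕ) : ℕ := Nat.land (Nat.shiftRight N (Nat.mul 6 i)) 63

/-- Packing of fields. -/
def packL : List ℕ → ℕ
  | [] => 0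
  | a :: l => a % 64 + 64 * packL l

/-- Packing in a form which is quick to evaluate. -/
def packF (f : ℕ → ℕ) (l : List ℕ) : ℕ :=
  List.rec 0 (fun i _ acc => Nat.add (Nat.land (f i) 63) (Nat.mul 64 acc)) l

theorem packF_eq (f : ℕ → ℕ) : ∀ l : List ℕ, packF f l = packL (l.map f)
  | [] => rfl
  | a :: l => by
    show Nat.add (Nat.land (f a) 63) (Nat.mul 64 (packF f l)) = f a % 64 + 64 * packL (l.map f)
    rw [packF_eq f l, show Nat.land (f a) 63 = f a % 2 ^ 6 from Nat.and_two_pow_sub_one_eq_mod (f a) 6]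
    rfl

/-- The packed vector with given fields. -/
def mk (f : ℕ → ℕ) : ℕ := packF f idx

theorem mk_eq (f : ℕ → ℕ) : mk f = packL (idx.map f) := packF_eq f idx

/-- The sum over the tetrad of an index. -/
def qsum (N i : ℕ) : ℕ :=
  fld N (img 216024474945971981320744939898798080 i) + fld N (img 593973517598595728171393917146661921 i) +
    fld N (img 721268497779582606444411021540001858 i) + fld N (img 984819516136077445612925762706443363 i)

/-- Its effect on packed vectors. -/
def Op.run : Op → ℕ → ℕ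
  | .perm p, N => mk fun i => fld N (img p i)
  | .flip m, N => mk fun i => if m.testBit i then 64 - fld N i else fld N i
  | .sext, N => mk fun i =>
      if (0xf : ℕ).testBit i then 64 - (fld N i + 64 - qsum N i / 2) else fld N i + 64 - qsum N i / 2
  | .neg, N => mk fun i => 64 - fld N i

/-- The vector of a packed number. -/
def toVec (N : ℕ) : GolayPt → ℤ := fun p => (fld N (ix p) : ℤ) - 32

theorem fld_eq (N i : ℕ) : fld N i = N / 64 ^ i % 64 := by
  rw [show fld N i = (N >>> (6 * i)) &&& 63 from rfl, Nat.shiftRight_eq_div_pow, pow_mul, show (63 : ℕ) = 2 ^ 6 - 1 from rfl, Nat.and_two_pow_sub_one_eq_mod]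
  norm_num

theorem fld_pack : ∀ (l : List ℕ) (i : ℕ), fld (packL l) i = l.getD i 0 % 64
  | [], i => by simp [fld, packL]
  | a :: l, 0 => by rw [fld_eq, packL]; simp [Nat.add_mul_mod_self_left]
  | a :: l, i + 1 => by
    rw [fld_eq, packL, pow_succ', ← Nat.div_div_eq_div_mul,
      show (a % 64 + 64 * packL l) / 64 = packL l by omega, List.getD_cons_succ, ← fld_pack l i, fld_eq]

theorem fld_mk (f : ℕ → ℕ) {i : ℕ} (h : i < 24) : fld (mk f) i = f i % 64 := by
  rw [mk_eq, fld_pack]
  interval_cases i <;> rfl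

theorem toVec_mk (f : ℕ → ℕ) (p : GolayPt) : toVec (mk f) p = (f (ix p) % 64 : ℕ) - 32 := by
  rw [toVec, fld_mk f (ix_lt p)]

theorem quad_spec : ∀ p : GolayPt,
    Finset.univ.filter (fun q => tid q = tid p) = (([img 216024474945971981320744939898798080 (ix p), img 593973517598595728171393917146661921 (ix p),
      img 721268497779582606444411021540001858 (ix p), img 984819516136077445612925762706443363 (ix p)] : List ℕ).map pt).toFinset ∧
    (([img 216024474945971981320744939898798080 (ix p), img 593973517598595728171393917146661921 (ix p),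
      img 721268497779582606444411021540001858 (ix p), img 984819516136077445612925762706443363 (ix p)] : List ℕ).map pt).Nodup ∧
    img 216024474945971981320744939898798080 (ix p) < 24 ∧ img 593973517598595728171393917146661921 (ix p) < 24 ∧
    img 721268497779582606444411021540001858 (ix p) < 24 ∧ img 984819516136077445612925762706443363 (ix p) < 24 ∧
    ((0xf : ℕ).testBit (ix p) = decide (tid p = 0)) := by decide +kernel

theorem coord_bound {x : GolayPt → ℤ} (hn : sqNorm x ≤ 64) (p : GolayPt) : -8 ≤ x p ∧ x p ≤ 8 := by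
  have h := le_sq_of_norm hn p
  constructor <;> nlinarith

theorem Op.run_spec {o : Op} (ho : o.ok = true) {N : ℕ} {x : ↥leechLattice} (hx : (x : GolayPt → ℤ) = toVec N)
    (hn : sqNorm (x : GolayPt → ℤ) ≤ 64) :
    ((o.co • x : ↥leechLattice) : GolayPt → ℤ) = toVec (o.run N) := by
  funext q
  have hb := coord_bound ((Same.sqNorm_eq (x := x) ⟨o.co, rfl⟩).le.trans hn) q
  have hbx := coord_bound hn q
  have hq : (x : GolayPt → ℤ) q = (fld N (ix q) : ℤ) - 32 := by rw [hx, toVec]
  cases o with
  | perm p =>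
    simp only [Op.co, dif_pos (show inM24 p = true from ho), Op.run, toVec_mk, coe_permCo] at hb ⊢
    have e : (x : GolayPt → ℤ) (toPerm p q) = (fld N (img p (ix q)) : ℤ) - 32 := by
      rw [hx, toVec, toPerm_apply (valid_of_inM24 ho), ix_pt (img_lt (valid_of_inM24 ho) (ix_lt q))]
    omega
  | flip m =>
    simp only [Op.co, dif_pos (show isCode m = true from ho), Op.run, toVec_mk] at hb ⊢
    change -8 ≤ (if q ∈ toSet m then -(x : GolayPt → ℤ) q else (x : GolayPt → ℤ) q) ∧
      (if q ∈ toSet m then -(x : GolayPt → ℤ) q else (x : GolayPt → ℤ) q) ≤ 8 at hb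
    show (if q ∈ toSet m then -(x : GolayPt → ℤ) q else (x : GolayPt → ℤ) q) = _
    simp only [mem_toSet] at hb ⊢
    split_ifs at hb ⊢ <;> omega
  | sext =>
    obtain ⟨h1, h2, a1, a2, a3, a4, h4⟩ := quad_spec q
    have hs : tsum (x : GolayPt → ℤ) (tid q) = (qsum N (ix q) : ℤ) - 128 := by
      rw [tsum, h1, List.sum_toFinset _ h2]
      simp only [List.map_cons, List.map_nil, List.sum_cons, List.sum_nil, hx, toVec, ix_pt a1, ix_pt a2, ix_pt a3,
        ix_pt a4, qsum]
      push_cast; ring
    simp only [Op.co, Op.run, toVec_mk, coe_xiCo, xi, hs, h4, decide_eq_true_eq] at hb ⊢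
    split_ifs at hb ⊢ <;> omega
  | neg =>
    simp only [Op.co, Op.run, toVec_mk, negCo_smul, AddSubgroup.coe_neg, Pi.neg_apply] at hb ⊢
    omega

/-- Validity of a word. -/
def wOk (w : List Op) : Bool := w.all Op.ok

/-- The isometry named by a word. -/
noncomputable def wCo (w : List Op) : ↥Co0 := (w.map Op.co).prod

/-- Its effect, the last letter first. -/
def wRun : List Op → ℕ → ℕ
  | [], L => L
  | o :: w, L => o.run (wRun w L)

theorem wRun_spec : ∀ {w : List Op}, wOk w = true → ∀ {L : ℕ} {x : ↥leechLattice}, (x : GolayPt → ℤ) = toVec L →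
    sqNorm (x : GolayPt → ℤ) ≤ 64 → ((wCo w • x : ↥leechLattice) : GolayPt → ℤ) = toVec (wRun w L)
  | [], _, L, x, hx, _ => by rw [wCo, List.map_nil, List.prod_nil, one_smul]; exact hx
  | o :: w, h, L, x, hx, hn => by
    rw [wOk, List.all_cons, Bool.and_eq_true] at h
    rw [wCo, List.map_cons, List.prod_cons, mul_smul]
    exact Op.run_spec h.1 (wRun_spec h.2 hx hn) ((Same.sqNorm_eq (x := x) ⟨wCo w, rfl⟩).le.trans hn)

theorem wCo_fix {w : List Op} (hw : wOk w = true) {L : ℕ} {x : ↥leechLattice} (hx : (x : GolayPt → ℤ) = toVec L)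
    (hn : sqNorm (x : GolayPt → ℤ) ≤ 64) (h : (wRun w L == L) = true) : wCo w • x = x := by
  refine Subtype.ext ?_
  rw [wRun_spec hw hx hn, beq_iff_eq.1 h, hx]

/-- A search tree of keys. -/
inductive KT
  | leaf
  | node (l : KT) (k : ℕ) (r : KT)

/-- Insertion failing on a repeated key. -/
def KT.ins : ℕ → KT → Option KT
  | x, .leaf => some (.node .leaf x .leaf)
  | x, .node l k r =>
    if Nat.blt x k then (KT.ins x l).map fun l' => .node l' k r
    else if Nat.blt k x then (KT.ins x r).map fun r' => .node l k r'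
    else none

/-- Membership. -/
def KT.Mem : ℕ → KT → Prop
  | _, .leaf => False
  | x, .node l k r => (x < k ∧ KT.Mem x l) ∨ x = k ∨ (k < x ∧ KT.Mem x r)

theorem KT.ins_spec (x : ℕ) : ∀ {t t' : KT}, KT.ins x t = some t' →
    ¬ KT.Mem x t ∧ ∀ y, KT.Mem y t' ↔ y = x ∨ KT.Mem y t
  | .leaf, t', h => by
    simp only [KT.ins, Option.some.injEq] at h
    subst h
    exact ⟨id, fun y => by simp [KT.Mem]⟩
  | .node l k r, t', h => by
    simp only [KT.ins, Nat.blt_eq] at h
    split_ifs at h with h1 h2
    · obtain ⟨l', hl, rfl⟩ := Option.map_eq_some_iff.1 h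
      obtain ⟨i1, i2⟩ := KT.ins_spec x hl
      refine ⟨?_, fun y => ?_⟩
      · rintro (⟨-, a⟩ | a | ⟨a, -⟩)
        · exact i1 a
        · omega
        · omega
      · simp only [KT.Mem, i2]
        constructor
        · rintro (⟨a, b | b⟩ | b | b) <;> tauto
        · rintro (rfl | ⟨a, b⟩ | b | b) <;> tauto
    · obtain ⟨r', hr, rfl⟩ := Option.map_eq_some_iff.1 h
      obtain ⟨i1, i2⟩ := KT.ins_spec x hr
      refine ⟨?_, fun y => ?_⟩
      · rintro (⟨a, -⟩ | a | ⟨-, a⟩)
        · omega
        · omega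
        · exact i1 a
      · simp only [KT.Mem, i2]
        constructor
        · rintro (b | b | ⟨a, b | b⟩) <;> tauto
        · rintro (rfl | b | b | ⟨a, b⟩) <;> tauto

/-- All keys different. -/
def distinctFrom : List ℕ → KT → Bool
  | [], _ => true
  | x :: L, t => match KT.ins x t with
    | none => false
    | some t' => distinctFrom L t'

theorem distinctFrom_spec : ∀ {L : List ℕ} {t : KT}, distinctFrom L t = true → L.Nodup ∧ ∀ x ∈ L, ¬ KT.Mem x t
  | [], _, _ => by simp
  | x :: L, t, h => by
    rw [distinctFrom] at h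
    cases hi : KT.ins x t with
    | none => rw [hi] at h; simp at h
    | some t' =>
      rw [hi] at h
      obtain ⟨a, b⟩ := distinctFrom_spec h
      obtain ⟨i1, i2⟩ := KT.ins_spec x hi
      refine ⟨List.nodup_cons.2 ⟨fun hm => b x hm ((i2 x).2 (Or.inl rfl)), a⟩, ?_⟩
      intro y hy
      rcases List.mem_cons.1 hy with rfl | hy
      · exact i1
      · exact fun hm => b y hy ((i2 y).2 (Or.inr hm))

/-- The key of a packed vector: its 24 fields. -/
def key (N : ℕ) : ℕ := N &&& 22300745198530623141535718272648361505980415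

theorem key_congr {L M : ℕ} (h : toVec L = toVec M) : key L = key M := by
  have e : ∀ i, i < 24 → fld L i = fld M i := fun i hi => by
    have := congrFun h (pt i)
    simp only [toVec, ix_pt hi] at this
    omega
  apply Nat.eq_of_testBit_eq
  intro j
  simp only [key, Nat.testBit_and]
  by_cases hj : j < 144
  · have := congrArg (fun t : ℕ => t.testBit (j % 6)) (e (j / 6) (by omega))
    simp only [show ∀ N i : ℕ, fld N i = (N >>> (6 * i)) &&& 63 from fun _ _ => rfl, Nat.testBit_and, Nat.testBit_shiftRight, show (63 : ℕ) = 2 ^ 6 - 1 from rfl,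
      Nat.testBit_two_pow_sub_one, show j % 6 < 6 by omega, decide_true, Bool.and_true,
      show 6 * (j / 6) + j % 6 = j from Nat.div_add_mod j 6] at this
    rw [this]
  · rw [show (22300745198530623141535718272648361505980415 : ℕ) = 2 ^ 144 - 1 by norm_num,
      Nat.testBit_two_pow_sub_one, decide_eq_false hj, Bool.and_false, Bool.and_false]

/-- The tree of images, and its check. -/
def orbitVecs (gs : List (List Op)) (T : List (ℕ × ℕ)) (start : ℕ) : List ℕ :=
  start :: walk (fun j L => wRun (gs.getD j []) L) T [start]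

/-- The check. -/
def orbitOK (gs : List (List Op)) (T : List (ℕ × ℕ)) (start : ℕ) (n : ℕ) : Bool :=
  gs.all wOk && T.all (fun e => Nat.blt e.1 gs.length) &&
    ((orbitVecs gs T start).length == n) && distinctFrom ((orbitVecs gs T start).map key) .leaf

theorem walk_reach (K : Subgroup ↥Co0) {gs : List (List Op)} (hok : ∀ g ∈ gs, wOk g = true) (hK : ∀ g ∈ gs, wCo g ∈ K)
    (x : ↥leechLattice) (hn : sqNorm (x : GolayPt → ℤ) ≤ 64) : ∀ (T : List (ℕ × ℕ)) (st : List ℕ), (∀ e ∈ T, e.1 < gs.length) →
      (∀ a ∈ st, ∃ k ∈ K, ((k • x : ↥leechLattice) : GolayPt → ℤ) = toVec a) →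
      ∀ a ∈ walk (fun j L => wRun (gs.getD j []) L) T st, ∃ k ∈ K, ((k • x : ↥leechLattice) : GolayPt → ℤ) = toVec a
  | [], _, _, _, a, ha => by simp [walk] at ha
  | (j, k) :: r, st, hT, hst, a, ha => by
    rw [walk] at ha
    cases hd : st.drop k with
    | nil => rw [hd] at ha; simp at ha
    | cons b st' =>
      rw [hd] at ha
      have hb : ∀ c ∈ b :: st', ∃ k ∈ K, ((k • x : ↥leechLattice) : GolayPt → ℤ) = toVec c :=
        fun c hc => hst c (List.mem_of_mem_drop (hd ▸ hc))
      have hj : j < gs.length := hT (j, k) (by simp)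
      have hg : gs.getD j [] ∈ gs := by
        rw [List.getD_eq_getElem _ _ hj]; exact List.getElem_mem hj
      have hnew : ∃ k ∈ K, ((k • x : ↥leechLattice) : GolayPt → ℤ) = toVec (wRun (gs.getD j []) b) := by
        obtain ⟨σ, hσ, he⟩ := hb b (by simp)
        exact ⟨wCo (gs.getD j []) * σ, mul_mem (hK _ hg) hσ, by rw [mul_smul]; exact wRun_spec (hok _ hg) he ((Same.sqNorm_eq (x := x) ⟨σ, rfl⟩).le.trans hn)⟩
      simp only [List.mem_cons] at ha
      rcases ha with rfl | ha
      · exact hnew
      · refine walk_reach K hok hK x hn r _ (fun e he => hT e (List.mem_cons_of_mem _ he)) ?_ a ha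
        intro c hc
        rcases List.mem_cons.1 hc with rfl | hc
        · exact hnew
        · exact hb c hc

/-- A certified orbit filling a set of known size. -/
theorem orbit_fills {gs : List (List Op)} {T : List (ℕ × ℕ)} {start : ℕ} {n : ℕ} (h : orbitOK gs T start n = true)
    (K : Subgroup ↥Co0) (hK : ∀ g ∈ gs, wCo g ∈ K) {x : ↥leechLattice} (hx : (x : GolayPt → ℤ) = toVec start) (hx64 : sqNorm (x : GolayPt → ℤ) ≤ 64)
    (S : Set ↥leechLattice) (hn : S.ncard = n) (hS : ∀ k ∈ K, k • x ∈ S) :
    ∀ y ∈ S, ∃ k ∈ K, k • x = y := by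
  simp only [orbitOK, Bool.and_eq_true, List.all_eq_true, Nat.blt_eq, beq_iff_eq] at h
  obtain ⟨⟨⟨hok, hT⟩, hlen⟩, hd⟩ := h
  obtain ⟨hnd, -⟩ := distinctFrom_spec hd
  have hall : ∀ a ∈ orbitVecs gs T start, ∃ k ∈ K, ((k • x : ↥leechLattice) : GolayPt → ℤ) = toVec a := by
    intro a ha
    rcases List.mem_cons.1 ha with rfl | ha
    · exact ⟨1, Subgroup.one_mem K, by rw [one_smul]; exact hx⟩
    · exact walk_reach K hok hK x hx64 T [start] hT (fun c hc => by rw [List.mem_singleton.1 hc]; exact ⟨1, Subgroup.one_mem K, by rw [one_smul]; exact hx⟩) a ha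
  choose f hf1 hf2 using hall
  let im : List ↥leechLattice := (orbitVecs gs T start).attach.map fun a => f a.1 a.2 • x
  have hinj : im.Nodup := by
    refine List.Nodup.map_on (fun a _ b _ e => Subtype.ext ?_) (List.nodup_attach.2 hnd.of_map)
    refine List.inj_on_of_nodup_map hnd a.2 b.2 (key_congr ?_)
    rw [← hf2 a.1 a.2, ← hf2 b.1 b.2, e]
  have hsub : (↑im.toFinset : Set ↥leechLattice) ⊆ S := by
    intro z hz
    simp only [List.coe_toFinset, Set.mem_setOf_eq, im, List.mem_map] at hz
    obtain ⟨a, -, rfl⟩ := hz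
    exact hS _ (hf1 _ _)
  have hnpos : 0 < n := by rw [← hlen, orbitVecs, List.length_cons]; omega
  have heq : (↑im.toFinset : Set ↥leechLattice) = S := by
    refine Set.eq_of_subset_of_ncard_le hsub ?_ (Set.finite_of_ncard_pos (hn ▸ hnpos))
    rw [hn, Set.ncard_coe_finset, List.toFinset_card_of_nodup hinj]
    simp [im, hlen]
  intro y hy
  rw [← heq] at hy
  simp only [List.coe_toFinset, Set.mem_setOf_eq, im, List.mem_map] at hy
  obtain ⟨a, -, rfl⟩ := hy
  exact ⟨_, hf1 _ _, rfl⟩

end Cfsg.Agent.Lib.Leech
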